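import Cfsg.Agent.H78.TEW
import Cfsg.Agent.H67.SAAB

/-! STD-2E6 (row S3327): `JobW0`, the germ of the wreath case gives two commuting covers. -/

set_option autoImplicit false
set_option linter.unusedSectionVars false

namespace H89.TEW0

open H64.SG (O2 Cz Cs Ns cjs Is2 Cov mem_Cs mem_Cz)
open H81.SU (cje cje_apply)
open H62.TW (CW)
open H78.TW H98 Subgroup
open scoped commutatorElement

universe u

/-- A subgroup covering the quotient by a central subgroup has the full commutator subgroup. -/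
theorem comm_le {E X : Type*} [Group E] [Group X] (π : E →* X) (hk : π.ker ≤ center E)
    {N : Subgroup E} (h : ∀ a, ∃ g ∈ N, π g = π a) : commutator E ≤ ⁅N, N⁆ :=
  commutator_le.2 fun a _ b _ => by
    obtain ⟨g, g0, g1⟩ := h a
    obtain ⟨k, k0, k1⟩ := h b
    have g2 := mem_center_iff.1 (hk (show π (a * g⁻¹) = 1 by
      rw [map_mul, map_inv, g1, mul_inv_cancel]))
    have k2 := mem_center_iff.1 (hk (show π (b * k⁻¹) = 1 by
      rw [map_mul, map_inv, k1, mul_inv_cancel]))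
    have e1 : ⁅a, b⁆ = ⁅g, b⁆ := by
      rw [commutatorElement_def, commutatorElement_def, show a * b * a⁻¹ =
        a * g⁻¹ * (g * b * g⁻¹) * (a * g⁻¹)⁻¹ by group, ← g2, mul_inv_cancel_right]
    have e2 : ⁅g, b⁆ = ⁅g, k⁆ := by
      rw [commutatorElement_def, commutatorElement_def, show g * b * g⁻¹ * b⁻¹ =
        g * (b * k⁻¹ * (k * g⁻¹ * k⁻¹) * (b * k⁻¹)⁻¹) by group, ← k2, mul_inv_cancel_right]
      group
    rw [e1, e2]
    exact commutator_mem_commutator g0 k0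

theorem perf_of_le {G : Type*} [Group G] {H : Subgroup G} (h : H ≤ ⁅H, H⁆) : commutator H = ⊤ :=
  map_injective (subtype_injective _) (by
    rw [_root_.commutator_def H, map_commutator, ← MonoidHom.range_eq_map, range_subtype]
    exact le_antisymm (commutator_le_self _) h)

/-- A `2`-element of `C(L)` commuting with `t` is `1` or `t`. -/
theorem eq_or {G : Type u} [Group G] [Finite G] {q : ℕ} {L : Subgroup G} {t k : G} (h : CE q L t)
    (hk : k ∈ Cs L) (h2 : Is2 k) (hc : t * k = k * t) : k = 1 ∨ k = t := by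
  have hp : IsPGroup 2 ↥(zpowers t ⊔ zpowers k) := (H9.UF.pg_zp h.inv.1).to_sup_of_normal_left'
    h2.zpowers ((zpowers_le.2 (H64.SG.mem_Cs_zpowers.2 hc)).trans (H64.SG.Cs_le_Ns _))
  have h3 := h.two _ (sup_le (zpowers_le.2 h.cen) (zpowers_le.2 hk)) hp
  have h4 : Nat.card (zpowers t) = 2 := by
    rw [Nat.card_zpowers]; exact orderOf_eq_prime (by rw [pow_two, h.inv.1]) h.inv.2
  have h5 : zpowers t = zpowers t ⊔ zpowers k := eq_of_le_of_card_ge le_sup_left (h4 ▸ h3)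
  exact (H81.SU.mem_zpowers_two h.inv.1).1 (h5 ▸ mem_sup_right (mem_zpowers k))

section Main

variable {X : Type} [Group X] [Finite X] {G : Type u} [Group G] [Finite G] {L : Subgroup G}
  {t z y : G} {q : ℕ}

/-- A subgroup covering `X` contains `L`. -/
theorem le_of_cov (c : Cov X L) (hL : L ≤ ⁅L, L⁆) {A : Subgroup G}
    (h : ∀ x : X, ∃ l ∈ L, l ∈ A ∧ c.pi l = x) : L ≤ A := by
  have h1 := comm_le c.piH (fun l hl => mem_center_iff.2 fun a => Subtype.ext
    (c.ker_cen _ l.2 hl _ a.2)) (N := A.subgroupOf L) fun a => by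
      obtain ⟨l, l1, l2, l3⟩ := h (c.pi a)
      exact ⟨⟨l, l1⟩, l2, l3⟩
  rw [perf_of_le hL] at h1
  exact subgroupOf_eq_top.1 (top_le_iff.1 (h1.trans (commutator_le_self _)))

/-- The data of the first factor. -/
structure FF (c : Cov X L) (t : G) (M : Subgroup G) (p : M →* X) : Prop where
  cm : M ≤ Cs (cj t M)
  le : L ≤ M ⊔ cj t M
  surj : Function.Surjective p
  cen : p.ker ≤ center M
  eq : ∀ l : M, ∀ g ∈ L, l.1⁻¹ * g ∈ cj t M → p l = c.pi g

theorem pi_z (c : Cov X L) (w : WX L t z y) (ht : t * t = 1) : c.pi z * c.pi z = 1 ∧ c.pi z ≠ 1 := by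
  have h1 : Commute y (t * y * t⁻¹) := by simpa using w.comm 1 (one_mem _)
  have h2 : z * z = 1 := by
    rw [w.dec, mul_assoc, ← mul_assoc (t * y * t⁻¹), ← h1.eq, mul_assoc y, conj_mul, w.sq,
      ← mul_assoc, w.sq]
    simp
  exact ⟨by rw [← c.pi_mul _ w.mem _ w.mem, h2, c.pi_one],
    fun h3 => w.ne (c.eq_one_of_is2 w.mem (H64.SG.is2_of_sq h2) h3)⟩

theorem exists_ff (hs : ∀ N : Subgroup X, N.Normal → N = ⊥ ∨ N = ⊤)
    (na : ¬ ∀ a b : X, a * b = b * a) (c : Cov X L) (hL : L ≤ ⁅L, L⁆) (h : CE q L t)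
    (w : WX L t z y) : ∃ (M : Subgroup G) (p : M →* X), FF c t M p := by
  have ht : ∀ g ∈ L, t * g * t⁻¹ = g := fun g hg => by rw [← h.cen g hg, mul_inv_cancel_right]
  obtain ⟨M, hM⟩ : ∃ M, M = closure ((fun g => g * y * g⁻¹) '' L) := ⟨_, rfl⟩
  have y0 : ∀ g ∈ L, g * y * g⁻¹ ∈ M := fun g hg => hM ▸ subset_closure ⟨g, hg, rfl⟩
  have y1 : y ∈ M := by simpa using y0 1 (one_mem _)
  have c1 : M ≤ Cs (cj t M) := by
    rw [hM, cj, MonoidHom.map_closure, closure_le]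
    rintro _ ⟨g, hg, rfl⟩
    refine H64.SG.mem_Cs_closure.2 ?_
    rintro _ ⟨_, ⟨k, hk, rfl⟩, rfl⟩
    have := (w.comm (k⁻¹ * g) (mul_mem (inv_mem hk) hg)).map (MulAut.conj k)
    change t * (k * y * k⁻¹) * t⁻¹ * _ = _ * (t * (k * y * k⁻¹) * t⁻¹)
    rw [← conj_mul, ← conj_mul, ← conj_inv, ht k hk]
    simpa [mul_assoc] using this.symm.eq
  have n1 : L ≤ Ns M := fun g hg => mem_normalizer_of_cj_le (by
    rw [hM, cj, MonoidHom.map_closure, closure_le]
    rintro _ ⟨_, ⟨k, hk, rfl⟩, rfl⟩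
    exact subset_closure ⟨g * k, mul_mem hg hk, by simp [mul_assoc]⟩)
  have n2 : L ≤ Ns (cj t M) := fun g hg => by
    rw [← H64.SG.cj_Ns, ← ht g hg]; exact conj_mem_cj (n1 hg)
  have tt : cj t (cj t M) = M := (cj_cj t t M).trans (by rw [h.inv.1, cj_one])
  have nc : ∀ A : Subgroup G, L ≤ Ns A → (∀ l ∈ L, l ∈ A → c.pi l = 1) ∨ L ≤ A := fun A hA => by
    have : (A.subgroupOf L).Normal := normal_subgroupOf_of_le_normalizer hA
    rcases hs _ (this.map c.piH c.piH_surjective) with k | k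
    · exact Or.inl fun l l1 l2 => mem_bot.1 (k.le ⟨⟨l, l1⟩, l2, rfl⟩)
    · refine Or.inr (le_of_cov c hL fun x => ?_)
      obtain ⟨l, l1, l2⟩ := k.ge (mem_top x)
      exact ⟨l, l.2, l1, l2⟩
  have s1 : L ≤ M ⊔ cj t M := (nc _ (le_normalizer_sup n1 n2)).resolve_left fun k =>
    (pi_z c w h.inv.1).2 (k z w.mem (w.dec ▸ mul_mem (mem_sup_left y1)
      (mem_sup_right (conj_mem_cj y1))))
  have u1 : ∀ g ∈ L, g ∈ cj t M → c.pi g = 1 := (nc _ n2).resolve_right fun k => na fun a b => by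
    obtain ⟨a, ha, rfl⟩ := c.surj a
    obtain ⟨b, hb, rfl⟩ := c.surj b
    rw [← c.pi_mul _ ha _ hb, ← c.pi_mul _ hb _ ha,
      c1 (tt.le (ht b hb ▸ conj_mem_cj (k hb))) _ (k ha)]
  have u2 : ∀ {l g g'}, g ∈ L → g' ∈ L → l⁻¹ * g ∈ cj t M → l⁻¹ * g' ∈ cj t M →
      c.pi g = c.pi g' := fun {l g g'} hg hg' k1 k2 => by
    have := u1 _ (mul_mem (inv_mem hg) hg') (by simpa [mul_assoc] using mul_mem (inv_mem k1) k2)
    rwa [c.pi_mul _ (inv_mem hg) _ hg', c.pi_inv hg, inv_mul_eq_one] at this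
  have m1 : ∀ {l l' g g'}, l' ∈ M → l⁻¹ * g ∈ cj t M → l'⁻¹ * g' ∈ cj t M →
      (l * l')⁻¹ * (g * g') ∈ cj t M := fun {l l' g g'} k0 k1 k2 => by
    have := mul_mem k1 k2
    rwa [← mul_assoc, c1 (inv_mem k0) _ k1, ← mul_assoc, ← mul_inv_rev, mul_assoc] at this
  have ex : ∀ l : M, ∃ g ∈ L, l.1⁻¹ * g ∈ cj t M := fun ⟨l, hl⟩ => by
    rw [hM] at hl
    induction hl using closure_induction with
    | mem _ k =>
      obtain ⟨g, hg, rfl⟩ := k
      refine ⟨g * z * g⁻¹, mul_mem (mul_mem hg w.mem) (inv_mem hg), ?_⟩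
      have := conj_mem_of_mem_normalizer (n2 hg) (conj_mem_cj (g := t) y1)
      rw [w.dec]
      simpa [mul_assoc] using this
    | one => exact ⟨1, one_mem _, by simp⟩
    | mul a b _ k2 k3 k4 =>
      obtain ⟨g, hg, k3⟩ := k3 (hM ▸ ‹_›)
      obtain ⟨g', hg', k4⟩ := k4 (hM ▸ k2)
      exact ⟨_, mul_mem hg hg', m1 (hM ▸ k2) k3 k4⟩
    | inv a k1 k2 =>
      obtain ⟨g, hg, k2⟩ := k2 (hM ▸ k1)
      refine ⟨g⁻¹, inv_mem hg, ?_⟩
      have k3 := conj_mem_of_mem_normalizer (n2 hg) (inv_mem k2)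
      simpa [mul_assoc] using k3
  choose p hp0 hp using ex
  let π : M →* X := MonoidHom.mk' (fun l => c.pi (p l)) fun a b =>
    (u2 (hp0 _) (mul_mem (hp0 a) (hp0 b)) (hp _) (m1 b.2 (hp a) (hp b))).trans
      (c.pi_mul _ (hp0 a) _ (hp0 b))
  have cc : ∀ a ∈ M, a ∈ cj t M → ∀ g ∈ M ⊔ cj t M, a * g = g * a := fun a k1 k2 g hg =>
    mem_Cz.1 ((sup_le (fun b hb => mem_Cz.2 (c1 hb _ k2))
      (fun b hb => mem_Cz.2 (c1 k1 b hb).symm) : _ ≤ Cz _) hg)
  refine ⟨M, π, c1, s1, fun x => ?_, fun l hl => ?_, fun l g hg k => u2 (hp0 l) hg (hp l) k⟩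
  · obtain ⟨g, hg, rfl⟩ := c.surj x
    obtain ⟨a, ha, b, hb, k⟩ := (mem_sup_left_norm (c1.trans (H64.SG.Cs_le_Ns _))).1 (s1 hg)
    exact ⟨⟨a, ha⟩, u2 (hp0 _) hg (hp _) (by rwa [k, inv_mul_cancel_left])⟩
  · obtain ⟨g, hg⟩ : ∃ g, g = p l := ⟨_, rfl⟩
    have g0 : g ∈ L := hg ▸ hp0 l
    have g1 : c.pi g = 1 := hg ▸ hl
    have g2 := c.ker_cen g g0 g1
    have k1 : y⁻¹ * (g * y * g⁻¹) ∈ M := mul_mem (inv_mem y1) (y0 g g0)
    have k2 : y⁻¹ * (g * y * g⁻¹) ∈ cj t M := by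
      have e1 : g * y * g⁻¹ * (g * (t * y * t⁻¹) * g⁻¹) = y * (t * y * t⁻¹) := by
        rw [conj_mul, ← w.dec, ← g2 z w.mem, mul_inv_cancel_right]
      have e2 : y⁻¹ * (g * y * g⁻¹) = t * y * t⁻¹ * (g * (t * y * t⁻¹) * g⁻¹)⁻¹ := by
        rw [eq_mul_inv_iff_mul_eq, mul_assoc, e1, inv_mul_cancel_left]
      rw [e2]
      exact mul_mem (conj_mem_cj y1)
        (inv_mem (conj_mem_of_mem_normalizer (n2 g0) (conj_mem_cj y1)))
    obtain ⟨a, ha⟩ : ∃ a, a = y⁻¹ * (g * y * g⁻¹) := ⟨_, rfl⟩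
    rw [← ha] at k1 k2
    have a1 : g * y * g⁻¹ = y * a := by rw [ha, mul_inv_cancel_left]
    have a2 : a * a = 1 := by
      have : y * a * (y * a) = 1 := by rw [← a1, conj_mul, w.sq]; simp
      rwa [mul_assoc, ← mul_assoc a, cc a k1 k2 y (mem_sup_left y1), mul_assoc, ← mul_assoc,
        w.sq, one_mul] at this
    have a3 : Commute (g ^ 2) y := by
      have : g * (g * y * g⁻¹) * g⁻¹ = y := by
        rw [a1, ← conj_mul, a1, ← cc a k1 k2 g (s1 g0), mul_inv_cancel_right, mul_assoc, a2, mul_one]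
      change g ^ 2 * y = y * g ^ 2
      rw [sq]
      conv_rhs => rw [← this]
      group
    have a4 : Commute g y := by
      obtain ⟨m, hm⟩ := exists_pow_eq_self_of_coprime (x := g) (n := 2)
        (Nat.coprime_two_left.2 (c.ker_odd g g0 g1))
      exact hm ▸ a3.pow_left m
    have a5 : g ∈ Cs M := by
      rw [hM]
      refine H64.SG.mem_Cs_closure.2 ?_
      rintro _ ⟨k, hk, rfl⟩
      exact (((show Commute k g from g2 k hk).mul_left a4.symm).mul_left
        (show Commute k g from g2 k hk).inv_left).eq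
    have a6 : l.1⁻¹ * g ∈ Cs M := fun b hb => (c1 hb _ (hg ▸ hp l)).symm
    have a7 : l.1 ∈ Cs M := by simpa using mul_mem a5 (inv_mem a6)
    exact mem_center_iff.2 fun b => Subtype.ext (a7 b b.2)

/-- The kernel contains no involution. -/
theorem FF.eq_one {c : Cov X L} {M : Subgroup G} {p : M →* X} (f : FF c t M p)
    (na : ¬ ∀ a b : X, a * b = b * a) (h : CE q L t) {k : M} (k1 : p k = 1) (k3 : k.1 * k.1 = 1) :
    k = 1 := by
  have k2 := H64.SG.is2_of_sq k3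
  have tt : cj t (cj t M) = M := (cj_cj t t M).trans (by rw [h.inv.1, cj_one])
  have nt : t ∉ Cs M := fun h1 => na fun a b => by
    obtain ⟨a, rfl⟩ := f.surj a
    obtain ⟨b, rfl⟩ := f.surj b
    have h2 : t * a * t⁻¹ = a := by rw [← h1 a a.2, mul_inv_cancel_right]
    rw [← map_mul, ← map_mul]
    exact congrArg p (Subtype.ext (f.cm b.2 _ (h2 ▸ conj_mem_cj a.2)))
  have a1 : k.1 ∈ Cs M := fun b hb => congrArg Subtype.val (mem_center_iff.1 (f.cen k1) ⟨b, hb⟩)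
  have a2 : k.1 ∈ Cs (cj t M) := f.cm k.2
  have b1 : t * k * t⁻¹ ∈ Cs M := by
    have : t * k * t⁻¹ ∈ Cs (cj t (cj t M)) := by rw [← H64.SG.cj_Cs]; exact conj_mem_cj a2
    rwa [tt] at this
  have b2 : t * k * t⁻¹ ∈ Cs (cj t M) := by
    rw [← H64.SG.cj_Cs]; exact conj_mem_cj a1
  have cl : ∀ {a}, a ∈ Cs M → a ∈ Cs (cj t M) → a ∈ Cs L := fun {a} h1 h2 g hg =>
    (mem_Cz.1 ((sup_le (fun b hb => mem_Cz.2 (h1 b hb).symm)
      (fun b hb => mem_Cz.2 (h2 b hb).symm) : _ ≤ Cz _) (f.le hg))).symm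
  have cm : k * (t * k * t⁻¹) = t * k * t⁻¹ * k := b1 k k.2
  have ti : t⁻¹ = t := inv_eq_of_mul_eq_one_right h.inv.1
  have d1 : t * (k * (t * k * t⁻¹)) = k * (t * k * t⁻¹) * t := by
    rw [← mul_inv_eq_iff_eq_mul, ← conj_mul, cm]
    congr 1
    rw [← mul_assoc, ← mul_assoc, h.inv.1, one_mul, mul_assoc, ti, h.inv.1, mul_one]
  rcases eq_or h (mul_mem (cl a1 a2) (cl b1 b2)) (k2.mul (k2.conj t) cm) d1 with d2 | d2
  · have d3 : t * k = k * t := by
      rw [← mul_inv_eq_iff_eq_mul]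
      exact mul_left_cancel (d2.trans k3.symm)
    rcases eq_or h (cl a1 a2) k2 d3 with d4 | d4
    · exact Subtype.ext d4
    · exact absurd (d4 ▸ a1) nt
  · exact absurd (d2 ▸ mul_mem a1 b1) nt

end Main

theorem jobW0 : JobW0.{u} := by
  intro X _ _ d wf hc G _ _ L t z y c hL h w
  have hs : ∀ N : Subgroup X, N.Normal → N = ⊥ ∨ N = ⊤ := fun N hN =>
    (wf.i.qs N hN).imp_left fun k => le_bot_iff.1 (hc ▸ k)
  obtain ⟨z1, z2⟩ := pi_z c w h.inv.1
  have na : ¬ ∀ a b : X, a * b = b * a := fun k =>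
    z2 (mem_bot.1 (hc ▸ mem_center_iff.2 fun a => k a _))
  obtain ⟨M, p, f⟩ := exists_ff hs na c hL h w
  have tt : cj t (cj t M) = M := (cj_cj t t M).trans (by rw [h.inv.1, cj_one])
  have h1 : Function.Surjective (p.comp (commutator M).subtype) := by
    rw [← MonoidHom.range_eq_top, MonoidHom.range_comp, range_subtype, commutator_def,
      map_commutator, map_top_of_surjective p f.surj, ← commutator_def, wf.i.perf]
  have h2 : commutator ↥(commutator M) = ⊤ := perf_of_le (comm_le p f.cen fun a => by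
    obtain ⟨g, g1⟩ := h1 (p a)
    exact ⟨g, g.2, g1⟩)
  let ε : Shrink.{0} ↥(commutator M) ≃* commutator M := Shrink.mulEquiv
  let ι : Shrink.{0} ↥(commutator M) →* M := (commutator M).subtype.comp ε.toMonoidHom
  have ιi : Function.Injective ι := (subtype_injective _).comp ε.injective
  have hY : commutator (Shrink.{0} ↥(commutator M)) = ⊤ := by
    refine map_injective (f := ε.toMonoidHom) ε.injective ?_
    rw [_root_.commutator_def (Shrink.{0} ↥(commutator M)), map_commutator,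
      map_top_of_surjective _ ε.surjective, ← _root_.commutator_def, h2]
  have πs : Function.Surjective (p.comp ι) := h1.comp ε.surjective
  have πc : (p.comp ι).ker ≤ center _ := fun a ha => mem_center_iff.2 fun b => ιi (by
    rw [map_mul, map_mul]
    exact mem_center_iff.1 (f.cen (show p (ι a) = 1 from ha)) _)
  let e₁ := M.subtype.comp ι
  have a1 : ∀ a, e₁ a ∈ M := fun a => (ι a).2
  have a2 : ∀ a, cje t e₁ a ∈ cj t M := fun a => conj_mem_cj (a1 a)
  have cm : ∀ a b, e₁ a * cje t e₁ b = cje t e₁ b * e₁ a := fun a b => (f.cm (a1 a) _ (a2 b)).symm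
  let e := MonoidHom.mk' (fun a => e₁ a * cje t e₁ a) fun a b => by
    rw [map_mul, map_mul, mul_assoc, mul_assoc, ← mul_assoc (e₁ b), cm, mul_assoc]
  have ea : ∀ a, e a = e₁ a * cje t e₁ a := fun _ => rfl
  have ti : t⁻¹ = t := inv_eq_of_mul_eq_one_right h.inv.1
  have r1 : e.range ≤ Cz t := by
    rintro _ ⟨a, rfl⟩
    rw [mem_Cz, ← mul_inv_eq_iff_eq_mul, ea, ← conj_mul, cm, cje_apply]
    congr 1
    rw [← mul_assoc, ← mul_assoc, h.inv.1, one_mul, mul_assoc, ti, h.inv.1, mul_one]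
  have r2 : e.range ≤ O2 (Cz t) := (H67.SA.le_O2_of_perfect (by
    rw [MonoidHom.range_eq_map, ← map_commutator, ← _root_.commutator_def, hY])).trans (H64.SG.O2_mono r1)
  have r3 : ∀ a, e a ∈ L := by
    have hn : (L.comap e).Normal := ⟨fun a ha b => by
      simpa using conj_mem_of_mem_normalizer (h.cz (r1 ⟨b, rfl⟩)) ha⟩
    rcases hs _ (hn.map _ πs) with k | k
    · obtain ⟨a, ha⟩ := πs (c.pi z)
      obtain ⟨i, j, k1, k2, k3⟩ := H64.SG.exists_two_odd a
      have k4 : p.comp ι (a ^ i) = 1 :=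
        mem_bot.1 (k.le ⟨_, h.a3 _ (r2 ⟨_, rfl⟩) (k2.map e), rfl⟩)
      have k5 : p.comp ι (a ^ j) = c.pi z := by
        rw [← ha]
        conv_rhs => rw [k1, map_mul, k4, one_mul]
      exact absurd ((H64.SG.is2_of_sq z1).eq_one (k5 ▸ k3.of_dvd_nat (orderOf_map_dvd _ _))) z2
    · have := comm_le _ πc (N := L.comap e) fun a => k.ge (mem_top _)
      rw [hY] at this
      exact fun a => (this.trans (commutator_le_self _)) (mem_top a)
  refine ⟨Shrink.{0} ↥(commutator M), inferInstance, Finite.of_equiv _ ε.symm.toEquiv, p.comp ι, e,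
    e₁, cje t e₁, ⟨πs, πc, ?_, hY⟩, ⟨(subtype_injective _).comp ιi, cm, ea, fun _ => rfl⟩,
    le_antisymm (by rintro _ ⟨a, rfl⟩; exact r3 a) (le_of_cov c hL fun x => ?_)⟩
  · by_contra k
    have := Finite.of_equiv _ ε.symm.toEquiv
    obtain ⟨a, ha⟩ := exists_prime_orderOf_dvd_card' (G := (p.comp ι).ker) 2
      (even_iff_two_dvd.1 (Nat.not_odd_iff_even.1 k))
    have k1 : a * a = 1 := by rw [← sq, ← ha, pow_orderOf_eq_one]
    have k2 : ι a = 1 := f.eq_one na h a.2 (by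
      rw [← coe_mul, ← map_mul, ← coe_mul, k1, coe_one, map_one, coe_one])
    rw [show a = 1 from Subtype.ext (ιi (k2.trans (map_one ι).symm)), orderOf_one] at ha
    exact absurd ha (by decide)
  · obtain ⟨a, rfl⟩ := πs x
    refine ⟨e a, r3 a, ⟨a, rfl⟩, (f.eq (ι a) _ (r3 a) ?_).symm⟩
    rw [ea]
    exact (inv_mul_cancel_left (e₁ a) _).symm ▸ a2 a

end H89.TEW0
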