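import Cfsg.Agent.H25.STBase

/-! STD-S, job H2: the half of `z` for `He`, `Suz`. -/

set_option autoImplicit false
set_option linter.unusedSectionVars false

namespace H89.ST

open H64.SG H25.ST Subgroup

universe u

theorem fix_class {G : Type*} [Group G] {H : Subgroup G} {x n : G} (hx : x ∈ H)
    (h : ∀ x' ∈ H, orderOf x' = orderOf x → ∃ y ∈ H, x' = y * x * y⁻¹ ∨ x' = y * x ^ 2 * y⁻¹)
    (hn : n ∈ Ns H) (h3 : n ^ 3 = 1) : ∃ y ∈ H, n * x * n⁻¹ = y * x * y⁻¹ := by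
  have o : ∀ a b : G, orderOf (a * b * a⁻¹) = orderOf b := fun a b => (MulAut.conj a).orderOf_eq b
  have h1 := H98.conj_mem_of_mem_normalizer hn hx
  obtain ⟨y, hy, e | e⟩ := h _ h1 (o _ _)
  · exact ⟨y, hy, e⟩
  obtain ⟨y', hy', e' | e'⟩ := h _ (H98.conj_mem_of_mem_normalizer hn h1) ((o _ _).trans (o _ _))
  · refine ⟨_, inv_mem (H98.conj_mem_of_mem_normalizer hn hy'), ?_⟩
    calc _ = (n * y' * n⁻¹)⁻¹ * (n * (y' * x * y'⁻¹) * n⁻¹) * (n * y' * n⁻¹) := by group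
      _ = (n * y' * n⁻¹)⁻¹ * (n ^ 3 * x * (n ^ 3)⁻¹) * (n * y' * n⁻¹) := by
        rw [← e', pow_three]; group
      _ = _ := by rw [h3]; group
  · refine ⟨_, H98.conj_mem_of_mem_normalizer' hn (mul_mem hy (inv_mem hy')) |> inv_mem, ?_⟩
    calc _ = n⁻¹ * (n * (n * x * n⁻¹) * n⁻¹) * n := by group
      _ = n⁻¹ * (y' * y⁻¹ * (y * x ^ 2 * y⁻¹) * (y' * y⁻¹)⁻¹) * n := by rw [e']; group
      _ = _ := by rw [← e]; group

variable {X : Type} [Group X] {G : Type u} [Group G] [Finite G] {e : X →* G} {t : G}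
  {O : Subgroup G}

/-- `O` is the largest normal subgroup of odd order of `C(t, e z, e ε)`. -/
theorem le_O (hF : F0 X) (b : B1 e t) (ab : AB e t O) {z ε : X} (l : LH z ε) {O' : Subgroup G}
    (odd : Odd (Nat.card O')) (h1 : O' ≤ Cz t ⊓ (Cz (e z) ⊓ Cz (e ε)))
    (h2 : Cz t ⊓ (Cz (e z) ⊓ Cz (e ε)) ≤ Ns O') : O' ≤ O := by
  have := hF.fin
  let Q : Subgroup X :=
    { carrier := {s | ∃ o ∈ O', Ind e o (MulAut.conj s)}
      one_mem' := ⟨1, one_mem _, by simpa using ind_one⟩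
      mul_mem' := by
        rintro s s' ⟨o, ho, h⟩ ⟨o', ho', h'⟩
        exact ⟨_, mul_mem ho ho', by simpa only [map_mul] using h.mul h'⟩
      inv_mem' := by
        rintro s ⟨o, ho, h⟩
        exact ⟨_, inv_mem ho, by simpa only [map_inv] using h.inv⟩ }
  have hQ : Q = ⊥ := l.oV Q (by
      rintro s ⟨o, ho, h⟩
      exact ⟨mem_Cz.2 (mul_inv_eq_iff_eq_mul.1 (h.fix b.inj (mem_Cz.1 (h1 ho).2.1).symm)).symm,
        mem_Cz.2 (mul_inv_eq_iff_eq_mul.1 (h.fix b.inj (mem_Cz.1 (h1 ho).2.2).symm)).symm⟩)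
    (odd_card_of_forall (by
      rintro s ⟨o, ho, h⟩
      have := h.odd b.inj (odd_orderOf_of_mem odd ho)
      rwa [orderOf_injective _ hF.conj_inj] at this))
    fun c hc => H98.mem_normalizer_of_cj_le (by
      rintro _ ⟨s, ⟨o, ho, h⟩, rfl⟩
      refine ⟨_, H98.conj_mem_of_mem_normalizer (h2 ⟨b.mem_Cz c,
        mem_Cz.2 ((e_comm b.inj).2 (mem_Cz.1 hc.1)), mem_Cz.2 ((e_comm b.inj).2 (mem_Cz.1 hc.2))⟩)
        ho, ?_⟩
      have := (ind_conj c).conj h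
      rwa [aut_conj] at this)
  intro o ho
  obtain ⟨β, hβ⟩ := b.ind (h1 ho).1
  have oo := odd_orderOf_of_mem odd ho
  obtain ⟨s, rfl⟩ := hF.inn_odd (hβ.odd b.inj oo)
  obtain rfl := mem_bot.1 (hQ.le ⟨o, ho, hβ⟩)
  refine (ab.ko o (ind_one_iff.1 (by simpa using hβ)) (h1 ho).1).resolve_right fun h => b.inv.2 ?_
  have c : Commute o⁻¹ (o * t) :=
    ((Commute.refl o).mul_right (show Commute o t from (mem_Cz.1 (h1 ho).1).symm)).inv_left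
  have := odd_orderOf_mul (by rwa [orderOf_inv]) (odd_orderOf_of_mem ab.odd h) c
  rw [inv_mul_cancel_left] at this
  exact (is2_of_sq b.tt).eq_one this

theorem half (b : B1 e t) (ab : AB e t O) {z : X} (z2 : Inv2 z)
    (cz : ∀ β : MulAut X, Cz z ≤ fx β → β = 1 ∨ β = MulAut.conj z) {w : G}
    (tw : w * t * w⁻¹ = t * e z) (h1 : w ∈ Cs ((Cz z).map e)) (h2 : w ∈ Cs O) :
    ∃ w, Hf e t O z w := by
  have Z2 : e z * e z = 1 := by rw [← map_mul, z2.1, map_one]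
  have Z1 : e z ≠ 1 := fun h => z2.2 (b.inj (h.trans (map_one e).symm))
  have cZ : ∀ {w}, w ∈ Cs ((Cz z).map e) → e z * w = w * e z := fun h =>
    mem_Cs_map.1 h z (mem_Cz.2 rfl)
  have sq : ∀ {w}, w * t * w⁻¹ = t * e z → w ∈ Cs ((Cz z).map e) → w * w * t * (w * w)⁻¹ = t :=
    fun {w} tw h1 => by
      calc _ = w * (w * t * w⁻¹) * w⁻¹ := by group
        _ = w * t * (e z * w) * w⁻¹ * w⁻¹ := by rw [tw]; group
        _ = w * t * w⁻¹ * (w * (w * e z) * w⁻¹ * w⁻¹) := by rw [cZ h1]; group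
        _ = _ := by rw [tw, ← cZ h1, ← mul_assoc w, ← cZ h1, mul_assoc t, ← mul_assoc (e z),
          ← mul_assoc (e z), ← mul_assoc (e z), ← mul_assoc (e z), Z2]; group
  obtain ⟨k, m, ⟨j, rfl⟩, hm⟩ := Nat.exists_eq_two_pow_mul_odd (orderOf_pos w).ne'
  have i2 : Is2 (w ^ (2 * j + 1)) := ⟨k, by rw [← pow_mul, mul_comm, ← hm, pow_orderOf_eq_one]⟩
  have tw' : w ^ (2 * j + 1) * t * (w ^ (2 * j + 1))⁻¹ = t * e z := by
    have c : Commute ((w ^ 2) ^ j) t :=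
      (show Commute (w ^ 2) t from mul_inv_eq_iff_eq_mul.1 (pow_two w ▸ sq tw h1)).pow_left j
    rw [pow_succ', pow_mul, mul_assoc w, c.eq, ← tw]
    group
  replace h1 := pow_mem h1 (2 * j + 1)
  replace h2 := pow_mem h2 (2 * j + 1)
  generalize w ^ (2 * j + 1) = v at i2 tw' h1 h2
  have hc : v * v ∈ Cz t := mem_Cz.2 (mul_inv_eq_iff_eq_mul.1 (sq tw' h1)).symm
  obtain ⟨β, hβ⟩ := b.ind hc
  have nt : v * t ≠ t * v := fun h => Z1 (by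
    rwa [h, mul_inv_cancel_right, left_eq_mul] at tw')
  have H : v * v = 1 ∨ v * v = e z := by
    rcases cz β (hβ.le_fx b.inj (mul_mem h1 h1)) with rfl | rfl
    · refine Or.inl ((ab.inn _ hc (i2.mul i2 rfl) 1 (by simpa using hβ)).elim
        (fun h => h.trans (map_one e)) fun h => absurd ?_ nt)
      rw [map_one, mul_one] at h
      rw [← h, mul_assoc]
    · refine Or.inr ((ab.inn _ hc (i2.mul i2 rfl) z hβ).resolve_right fun h => nt ?_)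
      refine mul_right_cancel (b := e z) ?_
      rw [mul_assoc t, ← cZ h1, ← mul_assoc, mul_assoc v, ← h, mul_assoc]
  rcases H with h | h
  · exact ⟨v, h, by rwa [inv_eq_of_mul_eq_one_left h] at tw', h1, h2⟩
  have h3 : v * t * (v * t) = 1 := by
    calc _ = v * t * v⁻¹ * (v * v) * t := by group
      _ = 1 := by rw [tw', h, mul_assoc t, Z2, mul_one, b.tt]
  refine ⟨v * t, h3, ?_, mul_mem h1 (Cs_range_le _ b.cen),
    mul_mem h2 fun o ho => (mem_Cz.1 (ab.le ho).2).symm⟩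
  rw [← inv_eq_of_mul_eq_one_left h3, ← tw', inv_eq_of_mul_eq_one_left h3]
  nth_rewrite 2 [← inv_eq_of_mul_eq_one_left h3]
  group

theorem cj_CC {g a c : G} (h1 : g * t * g⁻¹ = t * a) (h2 : g * a * g⁻¹ = a) :
    cjs g (Cz t ⊓ (Cz a ⊓ Cz c)) = Cz t ⊓ (Cz a ⊓ Cz (g * c * g⁻¹)) := by
  rw [← inf_assoc, ← inf_assoc, cjs_eq, mp_inf, ← cjs_eq, ← cjs_eq, cj_Cz,
    mem_Ns_iff.1 (mem_Ns_CC (Or.inl h1) h2)]

theorem rot_Ns {r a c d : G} (hd : d ∈ closure {a, c}) (h0 : r * t * r⁻¹ = t * d)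
    (h1 : r * a * r⁻¹ = c) (h2 : r * c * r⁻¹ = a * c) : r ∈ Ns (Cz t ⊓ (Cz a ⊓ Cz c)) := by
  refine (inv_mem_iff.1 (H98.mem_normalizer_of_cj_le ?_))
  rintro _ ⟨x, ⟨x1, x2, x3⟩, rfl⟩
  have k : ∀ {y}, Commute (r * y * r⁻¹) x → (MulAut.conj r⁻¹).toMonoidHom x ∈ Cz y := fun {y} h =>
    mem_Cz.2 (by
      change y * (r⁻¹ * x * r⁻¹⁻¹) = r⁻¹ * x * r⁻¹⁻¹ * y
      calc _ = r⁻¹ * (r * y * r⁻¹ * x) * r := by group
        _ = _ := by rw [h.eq]; group)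
  have c1 : Commute t x := mem_Cz.1 x1
  have c2 : Commute a x := mem_Cz.1 x2
  have c3 : Commute c x := mem_Cz.1 x3
  have c4 : Commute d x := mem_Cs_closure.2 (by rintro _ (rfl | rfl); exacts [c2, c3]) d hd
  exact ⟨k (h0 ▸ c1.mul_left c4), k (h1 ▸ c3), k (h2 ▸ c2.mul_left c3)⟩

theorem step (hF : F0 X) (b : B1 e t) (ab : AB e t O) {z e₀ e₁ ε : X} (f : FHd z e₀ e₁)
    (l : LH z ε) {g : G} (h1 : g * t * g⁻¹ = t * e z) (h2 : g * e z * g⁻¹ = e z)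
    (h3 : g * e e₀ * g⁻¹ = e ε) : ∃ w, Hf e t O z w := by
  have z2 := l.ln.1.sq
  have ε2 := l.ln.2.1.sq
  have zε := mem_Cz.1 l.ln.mem
  have gO : g ∈ Ns O := H98.mem_normalizer_of_cj_le (le_O hF b ab l
    (by rw [H67.SA.card_cjs]; exact ab.odd)
    (by
      rw [← h3, ← cj_CC h1 h2]
      exact map_mono fun o ho => ⟨(ab.le ho).2, mem_Cz.2 (mem_Cs_range.1 (ab.le ho).1 _),
        mem_Cz.2 (mem_Cs_range.1 (ab.le ho).1 _)⟩)
    (by rw [← h3, ← cj_CC h1 h2, ← cj_Ns]; exact map_mono (inf_le_left.trans ab.ct)))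
  have eO : ∀ s, e s ∈ Cs O := fun s o ho => (mem_Cs_range.1 (ab.le ho).1 s).symm
  obtain ⟨ρ₀, p3, p1, p2⟩ := f.l0.rot
  obtain ⟨ρ, q3, q1, q2⟩ := l.rot
  have rO : g * e ρ₀ * g⁻¹ ∈ Cs O := H98.conj_mem_of_mem_normalizer
    (H98.normalizer_le_normalizer_centralizer _ gO) (eO _)
  have r3 : (g * e ρ₀ * g⁻¹) ^ 3 = 1 := by rw [conj_pow, ← map_pow, p3, map_one]; group
  have cc : ∀ a b c : G, a * b * a⁻¹ * (a * c * a⁻¹) * (a * b * a⁻¹)⁻¹ = a * (b * c * b⁻¹) * a⁻¹ :=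
    fun a b c => by group
  have ec : ∀ a c : X, e a * e c * (e a)⁻¹ = e (a * c * a⁻¹) := fun a c => by
    rw [map_mul, map_mul, map_inv]
  have r1 : g * e ρ₀ * g⁻¹ * e z * (g * e ρ₀ * g⁻¹)⁻¹ = e ε := by
    rw [← h2, cc, ec, p1, h3]
  have r2 : g * e ρ₀ * g⁻¹ * e ε * (g * e ρ₀ * g⁻¹)⁻¹ = e z * e ε := by
    rw [← h3, cc, ec, p2, map_mul, ← conj_mul, h2]
  have r0 : g * e ρ₀ * g⁻¹ * t * (g * e ρ₀ * g⁻¹)⁻¹ = t * (e z * e ε) := by
    have : t = g * t * g⁻¹ * e z := by rw [h1, mul_assoc, ← map_mul, z2, map_one, mul_one]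
    conv_lhs => rw [this]
    rw [← conj_mul, cc, b.conj_t, r1, h1, mul_assoc]
  generalize g * e ρ₀ * g⁻¹ = r at rO r3 r1 r2 r0
  have s1 : e ρ * e z * (e ρ)⁻¹ = e ε := by rw [ec, q1]
  have s2 : e ρ * e ε * (e ρ)⁻¹ = e z * e ε := by rw [ec, q2, map_mul]
  have s3 : e ρ * (e z * e ε) * (e ρ)⁻¹ = e z := by
    rw [← map_mul, ec, ← conj_mul, q1, q2, zε, ← mul_assoc, ε2, one_mul]
  have r4 : r * (e z * e ε) * r⁻¹ = e z := by
    rw [← conj_mul, r1, r2, ← map_mul, ← map_mul, zε, ← mul_assoc, ε2, one_mul]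
  have rN := rot_Ns (mul_mem (subset_closure (by simp)) (subset_closure (by simp))) r0 r1 r2
  have ρN := rot_Ns (one_mem _) ((b.conj_t ρ).trans (mul_one t).symm) s1 s2
  have dc : ∀ x, e ρ * r * (e ρ)⁻¹ * (e ρ)⁻¹ * (e ρ * (e ρ * x * (e ρ)⁻¹) * (e ρ)⁻¹) *
      (e ρ * r * (e ρ)⁻¹ * (e ρ)⁻¹)⁻¹ = e ρ * (r * x * r⁻¹) * (e ρ)⁻¹ := fun x => by group
  have y0 := dc t
  have y1 := dc (e ε)
  have y2 := dc (e z * e ε)
  rw [b.conj_t, b.conj_t, r0, ← conj_mul, b.conj_t, s3] at y0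
  rw [s2, s3, r2, s3] at y1
  rw [s3, s1, r4, s1] at y2
  have hN := Ns_le_Ns_Pf _ (mem_Ns_CC (Or.inl y0) y1)
  rw [ab.pf_Cz b, Py, Pf_eq_self f.pf] at hN
  obtain ⟨γ, hγ⟩ := exists_ind (e := e.comp (Cz z).subtype)
    (b.inj.comp Subtype.val_injective) (by rwa [MonoidHom.range_comp, range_subtype])
  obtain ⟨Y, x, hY, hx, hc, H⟩ := l.h2
  obtain ⟨c, rfl⟩ := H γ (fun a ha => Subtype.ext (b.inj ((hγ a).symm.trans (by
      change _ * e a * _ = e a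
      rw [ha, y2])))) fun a ha => by
    rcases hY with rfl | hY
    · refine ⟨1, one_mem _, ?_⟩
      rw [show a = 1 from Subtype.ext (ha.trans (mem_bot.1 hx)), mem_bot.1 hx]
      simp
    have eY : Y.map e = Pf (Cz t ⊓ (Cz (e z) ⊓ Cz (e ε))) := by
      rw [ab.pf_eq b, comap_inf, comap_Cz b.inj, comap_Cz b.inj, hY]
    have hc' : ∀ x' ∈ Y.map e, orderOf x' = orderOf (e x) →
        ∃ y ∈ Y.map e, x' = y * e x * y⁻¹ ∨ x' = y * e x ^ 2 * y⁻¹ := by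
      rintro _ ⟨x', hx', rfl⟩ h
      rw [orderOf_injective e b.inj, orderOf_injective e b.inj] at h
      obtain ⟨y, hy, h⟩ := hc x' hx' h
      exact ⟨e y, ⟨y, hy, rfl⟩, h.imp (fun h => by rw [h, ec]) fun h => by rw [h, ← map_pow, ec]⟩
    have n1 : e ρ * r * (e ρ)⁻¹ ∈ Ns (Y.map e) :=
      eY ▸ Ns_le_Ns_Pf _ (mul_mem (mul_mem ρN rN) (inv_mem ρN))
    obtain ⟨u, hu, k1⟩ := fix_class (mem_map_of_mem e hx) hc' n1 (by rw [conj_pow, r3]; group)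
    obtain ⟨v, hv, k2⟩ := fix_class (mem_map_of_mem e hx) hc' (eY ▸ Ns_le_Ns_Pf _ (inv_mem ρN))
      (by rw [inv_pow, ← map_pow, q3, map_one, inv_one])
    obtain ⟨y, hy, k3⟩ := mul_mem (H98.conj_mem_of_mem_normalizer n1 hv) hu
    refine ⟨y, hy, b.inj ((hγ a).symm.trans ?_)⟩
    change _ * e a * _ = _
    rw [ha, ← ec, k3]
    generalize e ρ * r * (e ρ)⁻¹ = r' at k1
    calc _ = r' * ((e ρ)⁻¹ * e x * (e ρ)⁻¹⁻¹) * r'⁻¹ := by group
      _ = r' * v * r'⁻¹ * (r' * e x * r'⁻¹) * (r' * v * r'⁻¹)⁻¹ := by rw [k2]; group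
      _ = _ := by rw [k1]; group
  have yO := mul_mem (mul_mem (mul_mem (eO ρ) rO) (inv_mem (eO ρ))) (inv_mem (eO ρ))
  generalize e ρ * r * (e ρ)⁻¹ * (e ρ)⁻¹ = y at y0 hγ yO
  refine half b ab l.ln.1.1 f.cz (w := (e c)⁻¹ * y) ?_ (mem_Cs_map.2 fun a ha => ?_)
    (mul_mem (inv_mem (eO _)) yO)
  · calc _ = (e c)⁻¹ * (y * t * y⁻¹) * e c := by group
      _ = _ := by
        rw [y0, mul_assoc, mul_assoc, ← map_mul, mem_Cz.1 c.2, map_mul, ← mul_assoc t, b.comm]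
        group
  · have : y * e a * y⁻¹ = e (c * a * (c : X)⁻¹) := hγ ⟨a, ha⟩
    rw [← ec, mul_inv_eq_iff_eq_mul] at this
    rw [mul_assoc, this]
    group

theorem jobH2 : JobH2.{u} := by
  intro X _ G _ _ e t hF z e₀ e₁ f ce O ab ⟨g, h1, h2⟩
  have b := ce.toB1
  have hN := Ns_le_Ns_Pf _ (mem_Ns_CC (Or.inl h1) h2)
  rw [ab.pf_Cz b, Py, Pf_eq_self f.pf] at hN
  obtain ⟨γ, hγ⟩ := exists_ind (e := e.comp (Cz z).subtype)
    (b.inj.comp Subtype.val_injective) (by rwa [MonoidHom.range_comp, range_subtype])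
  obtain ⟨x, hx, h⟩ := f.rep _ (f.h1 γ ⟨e₀, f.l0.ln.mem⟩ rfl)
  have h3 : g * e e₀ * g⁻¹ = e (γ ⟨e₀, f.l0.ln.mem⟩ : X) := hγ ⟨e₀, f.l0.ln.mem⟩
  have cx : e z * e x = e x * e z := (e_comm b.inj).2 (mem_Cz.1 hx)
  have k : ∀ y, (e x)⁻¹ * g * y * ((e x)⁻¹ * g)⁻¹ = (e x)⁻¹ * (g * y * g⁻¹) * e x := fun y => by
    group
  have k1 : (e x)⁻¹ * g * t * ((e x)⁻¹ * g)⁻¹ = t * e z := by
    rw [k, h1, mul_assoc, mul_assoc, cx, ← mul_assoc t, b.comm]; group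
  have k2 : (e x)⁻¹ * g * e z * ((e x)⁻¹ * g)⁻¹ = e z := by rw [k, h2, mul_assoc, cx]; group
  rcases h with h | h
  · exact step hF b ab f f.l0 k1 k2 (by rw [k, h3, h, map_mul, map_mul, map_inv]; group)
  · exact step hF b ab f f.l1 k1 k2 (by rw [k, h3, h, map_mul, map_mul, map_inv]; group)

end H89.ST
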