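import Cfsg.Agent.H25.STBase
import Cfsg.Agent.H12.Linearize

/-! STD-S, job O2: the half of `z` for `ON`. -/

set_option autoImplicit false
set_option linter.unusedSectionVars false

namespace H89.ST

open H64.SG H25.ST Subgroup
open H67.SA (cm)

universe u

section Abs

variable {A : Type*} [CommGroup A]

theorem nm (f g : A →* A) (ff : ∀ u, f (f u) = u) (fg : ∀ u, g (f u) = f (g u)) {w u l : A}
    (hw : w = f u * u⁻¹ * l) (hl : l * f l * g l * f (g l) = 1) (h1 : f w = w) (h2 : g w = w) :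
    w * w * (w * w) = 1 := by
  have : w * f w * g w * f (g w) = 1 := by
    rw [hw, ← hl]
    simp only [map_mul, map_inv, fg, ff]
    exact Additive.ofMul.injective (by simp only [ofMul_mul, ofMul_inv]; abel)
  rwa [h2, h1, mul_assoc] at this

theorem seq_mul (w : ℕ → A) (sq : ∀ i, w i * w i = 1) (r : ∀ i, w (i + 3) = w (i + 1) * w i)
    (i j : ℕ) : w i * w j = 1 ∨ ∃ k, w i * w j = w k := by
  have sq' : ∀ i y, w i * (w i * y) = y := fun i y => by rw [← mul_assoc, sq, one_mul]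
  have h4 : ∀ i, w (i + 4) = w (i + 2) * w (i + 1) := fun i => r (i + 1)
  have h5 : ∀ i, w (i + 5) = w (i + 1) * w i * w (i + 2) := fun i => by rw [← r]; exact r (i + 2)
  have h6 : ∀ i, w (i + 6) = w (i + 2) * w i := fun i => by
    rw [show w (i + 6) = w (i + 4) * w (i + 3) from r (i + 3), h4, r, mul_assoc, sq']
  have h7 : ∀ i, w (i + 7) = w i := fun i => by
    rw [show w (i + 7) = w (i + 5) * w (i + 4) from r (i + 4), h5, h4, mul_assoc, sq',
      mul_right_comm, sq, one_mul]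
  wlog h : i ≤ j generalizing i j
  · rw [mul_comm]; exact this j i (by omega)
  obtain ⟨d, rfl⟩ := Nat.exists_eq_add_of_le h
  clear h
  induction d using Nat.strong_induction_on with
  | _ d ih =>
  rcases lt_or_ge d 7 with h | h
  · interval_cases d
    · exact Or.inl (sq i)
    · exact Or.inr ⟨i + 3, by rw [r, mul_comm]⟩
    · exact Or.inr ⟨i + 6, by rw [h6, mul_comm]⟩
    · exact Or.inr ⟨i + 1, by rw [r, mul_comm (w (i + 1)), sq']⟩
    · exact Or.inr ⟨i + 5, by rw [h4, h5, mul_comm (w (i + 2)), mul_comm (w (i + 1)) (w i), mul_assoc]⟩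
    · exact Or.inr ⟨i + 4, by rw [h5, h4, mul_comm (w (i + 1)) (w i), mul_assoc, sq', mul_comm]⟩
    · exact Or.inr ⟨i + 2, by rw [h6, mul_comm (w (i + 2)), sq']⟩
  · obtain ⟨d, rfl⟩ := Nat.exists_eq_add_of_le' h
    rw [← add_assoc, h7]
    exact ih d (by omega)

theorem rec_of (f : A →* A) (f7 : ∀ u, f^[7] u = u) {w l : A} (sq : w * w = 1)
    (h1 : f^[3] w * f w * w = l) (h2 : f^[3] l * f l * l = 1) (i : ℕ) :
    f^[i + 3] w = f^[i + 1] w * f^[i] w := by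
  have s : ∀ i, f^[i] w * f^[i] w = 1 := fun i => by rw [← iterate_map_mul, sq, iterate_map_one]
  have e : f^[6] w * f^[2] w * w * (f^[4] w * f^[4] w) * (f^[3] w * f^[3] w) *
      (f^[1] w * f^[1] w) = 1 := by
    rw [← h2, ← h1]
    simp only [iterate_map_mul, map_mul, Function.iterate_succ, Function.iterate_zero,
      Function.comp, id]
    exact Additive.ofMul.injective (by simp only [ofMul_mul]; abel)
  rw [s, s, s, mul_one, mul_one, mul_one] at e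
  have e1 : f^[3] w = f w * w := by
    have := congrArg f e
    rw [map_mul, map_mul, map_one, ← Function.iterate_succ_apply' f 6, f7,
      ← Function.iterate_succ_apply' f 2, mul_right_comm] at this
    refine (eq_inv_of_mul_eq_one_right this).trans ?_
    rw [mul_inv, inv_eq_of_mul_eq_one_left sq, inv_eq_of_mul_eq_one_left (show f w * f w = 1 from s 1),
      mul_comm]
  rw [Function.iterate_add_apply, e1, iterate_map_mul, Function.iterate_add_apply]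
  rfl

end Abs

/-- Multiplication by `x` in `F₂[x]/(x³ + x + 1)`. -/
def sg : MulAut (Multiplicative (Fin 3 → ZMod 2)) where
  toFun v := .ofAdd ![v.toAdd 2, v.toAdd 0 + v.toAdd 2, v.toAdd 1]
  invFun v := .ofAdd ![v.toAdd 1 + v.toAdd 0, v.toAdd 2, v.toAdd 0]
  left_inv := by decide
  right_inv := by decide
  map_mul' := by decide

theorem singer {W : Type*} [Group W] [Finite W] (hc : ∀ a b : W, a * b = b * a)
    (hp : ∀ a : W, a * a = 1) (hn : Nat.card W = 8) : ∃ φ : MulAut W,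
      (∀ a, φ^[3] a * φ a * a = 1) ∧ (∀ a, φ^[7] a = a) ∧
      ∀ a b, a ≠ 1 → b ≠ 1 → ∃ i, φ^[i] a = b := by
  obtain ⟨c⟩ := H12.nonempty_mulEquiv_fun (p := 2) (n := 3) hc (fun a => by rw [sq, hp]) hn
  have k : ∀ i a, c ((c.trans (sg.trans c.symm))^[i] a) = sg^[i] (c a) := fun i =>
    Function.Semiconj.iterate_right (f := c) (fun a => by simp) i
  have h1 : ∀ v, sg^[3] v * sg^[1] v * v = 1 := by decide
  have h2 : ∀ v, sg^[7] v = v := by decide
  have h3 : ∀ v v', v ≠ 1 → v' ≠ 1 → ∃ i : Fin 7, sg^[i] v = v' := by decide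
  refine ⟨c.trans (sg.trans c.symm), fun a => c.injective ?_, fun a => c.injective ?_,
    fun a b ha hb => ?_⟩
  · rw [map_mul, map_mul, k, map_one, ← h1 (c a), ← k 1]
    rfl
  · rw [k, h2]
  · obtain ⟨i, hi⟩ := h3 (c a) (c b) (by simpa) (by simpa)
    exact ⟨i, c.injective (by rw [k, hi])⟩

structure OD {X : Type} [Group X] {G : Type u} [Group G] (e : X →* G) (t : G) (O : Subgroup G)
    (z ζ s j₁ j₂ a : X) (E L : Subgroup X) (P : Subgroup G) : Prop where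
  f : FOd z ζ s j₁ j₂ a E L
  b : B1 e t
  ab : AB e t O
  p : OP e t O E L P

namespace OD

variable {X : Type} [Group X] [Finite X] {G : Type u} [Group G] [Finite G] {e : X →* G} {t : G}
  {O : Subgroup G} {z ζ s j₁ j₂ a : X} {E L : Subgroup X} {P : Subgroup G}
  (d : OD e t O z ζ s j₁ j₂ a E L P)
include d

theorem pc {u v : G} (hu : u ∈ P) (hv : v ∈ P) : u * v = v * u := d.p.ab hv u hu

theorem eL {μ : X} (h : μ ∈ L) : e μ ∈ P := d.p.le ⟨μ, h, rfl⟩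

theorem EL {x : X} (h : x ∈ E) : x ∈ L := ((d.f.om x).1 h).1

theorem cP {m : X} (hm : m ∈ Ns E) {u : G} (hu : u ∈ P) : e m * u * (e m)⁻¹ ∈ P :=
  H98.conj_mem_of_mem_normalizer (d.p.nor ⟨m, hm, rfl⟩) hu

theorem th_mul {u v : G} {x y : X} (hu : u ∈ P) (hy : y ∈ L) (h1 : u * t * u⁻¹ = t * e x)
    (h2 : v * t * v⁻¹ = t * e y) : u * v * t * (u * v)⁻¹ = t * e (x * y) := by
  calc _ = u * (v * t * v⁻¹) * u⁻¹ := by group
    _ = u * t * (e y * u) * u⁻¹ * u⁻¹ := by rw [h2]; group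
    _ = u * t * u⁻¹ * (u * (u * e y) * u⁻¹ * u⁻¹) := by rw [d.pc hu (d.eL hy)]; group
    _ = _ := by rw [h1, d.pc hu (d.eL hy), ← mul_assoc u, d.pc hu (d.eL hy), map_mul]; group

theorem th_conj (m : X) {u : G} {x : X} (h : u * t * u⁻¹ = t * e x) :
    e m * u * (e m)⁻¹ * t * (e m * u * (e m)⁻¹)⁻¹ = t * e (m * x * m⁻¹) := by
  calc _ = e m * (u * ((e m)⁻¹ * t * e m) * u⁻¹) * (e m)⁻¹ := by group
    _ = e m * t * (e m)⁻¹ * (e m * e x * (e m)⁻¹) := by
      rw [mul_assoc (e m)⁻¹, d.b.comm, inv_mul_cancel_left, h]; group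
    _ = _ := by rw [d.b.conj_t, map_mul, map_mul, map_inv]

theorem th_e (μ : X) : e μ * t * (e μ)⁻¹ = t * e 1 := by rw [d.b.conj_t, map_one, mul_one]

theorem ker {u : G} (hu : u ∈ P) (h : u * t * u⁻¹ = t * e 1) : ∃ μ ∈ L, e μ = u :=
  d.p.ct ⟨hu, mem_Cz.2 (by rw [map_one, mul_one, mul_inv_eq_iff_eq_mul] at h; exact h.symm)⟩

theorem zz : z * z = 1 := d.f.zI.sq

theorem cases {μ : X} (h : μ ∈ L) (hc : e μ ∈ Cs ((Py z).map e)) (h2 : μ * μ = 1) :
    μ = 1 ∨ μ = z := by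
  obtain ⟨k, rfl⟩ := d.f.vz ⟨h, fun y hy => (e_comm d.b.inj).1 (mem_Cs_map.1 hc y hy)⟩
  have hz : ∀ j : ℤ, z ^ j = 1 ∨ z ^ j = z := fun j => by
    have : z ^ (2 : ℤ) = 1 := by rw [zpow_two, d.zz]
    obtain ⟨i, rfl | rfl⟩ := Int.even_or_odd' j
    · exact Or.inl (by rw [zpow_mul, this, one_zpow])
    · exact Or.inr (by rw [zpow_add_one, zpow_mul, this, one_zpow, one_mul])
  have h0 : ζ ^ (2 : ℤ) = z := by rw [zpow_two, d.f.ζz]
  obtain ⟨i, rfl | rfl⟩ := Int.even_or_odd' k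
  · simpa only [zpow_mul, h0] using hz i
  · refine absurd ?_ d.f.zI.ne
    simp only [← zpow_add] at h2
    rwa [show 2 * i + 1 + (2 * i + 1) = 2 * (2 * i + 1) by ring, zpow_mul, h0, zpow_add_one,
      zpow_mul, zpow_two, d.zz, one_zpow, one_mul] at h2

/-- The action of `N(E)` on `P`. -/
def act {m : X} (hm : m ∈ Ns E) : P →* P :=
  (P.normalizerMonoidHom ⟨e m, d.p.nor ⟨m, hm, rfl⟩⟩).toMonoidHom

theorem coe_act {m : X} (hm : m ∈ Ns E) (u : P) : (d.act hm u : G) = e m * u * (e m)⁻¹ := rfl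

theorem coe_iter {m : X} (hm : m ∈ Ns E) (u : P) (i : ℕ) :
    ((d.act hm)^[i] u : P) = e (m ^ i) * (u : G) * (e (m ^ i))⁻¹ := by
  induction i with
  | zero => simp
  | succ i ih => rw [Function.iterate_succ_apply', coe_act, ih, pow_succ', map_mul]; group

theorem exists_w : ∃ w ∈ P, w * w = 1 ∧ w * t * w⁻¹ = t * e z ∧ w ∈ Cs ((Py z).map e) := by
  obtain ⟨u, hu, tu⟩ := d.p.on z d.f.zE
  have zP := d.eL (d.EL d.f.zE)
  have hN := Ns_le_Ns_Pf _ (mem_Ns_CC (Or.inl tu) (by rw [d.pc hu zP, mul_inv_cancel_right]))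
  rw [d.ab.pf_Cz d.b] at hN
  obtain ⟨γ, hγ⟩ := exists_ind (e := e.comp (Py z).subtype) (g := u)
    (d.b.inj.comp Subtype.val_injective) (by rwa [MonoidHom.range_comp, range_subtype])
  obtain ⟨μ, hμ, h1⟩ := d.f.h2 γ fun y hy => Subtype.ext (d.b.inj (by
    have := hγ y
    rwa [MonoidHom.comp_apply, coe_subtype, d.pc hu (d.eL hy), mul_inv_cancel_right, eq_comm] at this))
  have hw : e μ⁻¹ * u ∈ P := mul_mem (d.eL (inv_mem hμ)) hu
  have tw := d.th_mul (d.eL (inv_mem hμ)) (d.EL d.f.zE) (d.th_e μ⁻¹) tu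
  have cw : e μ⁻¹ * u ∈ Cs ((Py z).map e) := mem_Cs_map.2 fun y hy => by
    have : u * e y * u⁻¹ = e (γ ⟨y, hy⟩ : X) := hγ ⟨y, hy⟩
    rw [h1, map_mul, map_mul, map_inv, mul_inv_eq_iff_eq_mul] at this
    rw [mul_assoc, this, map_inv]
    group
  rw [one_mul] at tw
  generalize e μ⁻¹ * u = w at hw tw cw
  obtain ⟨l, hl, e1⟩ := d.ker (mul_mem hw hw) (d.zz ▸ d.th_mul hw (d.EL d.f.zE) tw tw)
  obtain ⟨v, hv, tv⟩ := d.p.on a d.f.aE
  have aL := d.EL d.f.aE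
  have tv' : v⁻¹ * t * v⁻¹⁻¹ = t * e a := by
    calc _ = v⁻¹ * (t * e a) * (e a * v) := by
          rw [mul_assoc, mul_assoc, mul_assoc, ← mul_assoc (e a), ← map_mul, d.f.el a d.f.aE]; simp
      _ = _ := by
          rw [← d.pc hv (d.eL aL)]
          conv_lhs => rw [← tv]
          group
  have t1 := d.th_mul hv ((d.f.ja ▸ mul_mem aL (d.EL d.f.zE) :)) tv
    (show (e j₁ * v⁻¹ * (e j₁)⁻¹) * t * _ = _ from d.th_conj j₁ tv')
  have hv1 := mul_mem hv (d.cP d.f.j1.2 (inv_mem hv))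
  rw [d.f.ja, ← mul_assoc a, d.f.el a d.f.aE, one_mul] at t1
  obtain ⟨l', hl', e2⟩ := d.ker (mul_mem hv1 hw) (d.zz ▸ d.th_mul hv1 (d.EL d.f.zE) t1 tw)
  have w4 : w * w * (w * w) = 1 := by
    letI : CommGroup P := { (inferInstance : Group P) with
      mul_comm := fun x y => Subtype.ext (d.pc x.2 y.2) }
    have fx : ∀ {m : X} (hm : m ∈ Py z ⊓ Ns E), d.act hm.2 ⟨w, hw⟩ = ⟨w, hw⟩ := fun hm =>
      Subtype.ext (by rw [coe_act, mem_Cs_map.1 cw _ hm.1, mul_inv_cancel_right])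
    refine congrArg Subtype.val (nm (d.act d.f.j1.2) (d.act d.f.j2.2) (fun x => Subtype.ext ?_)
      (fun x => Subtype.ext ?_) (u := ⟨v, hv⟩) (l := ⟨e l', d.eL hl'⟩) (Subtype.ext ?_)
      (Subtype.ext ?_) (fx d.f.j1) (fx d.f.j2))
    · rw [coe_act, coe_act, show e j₁ * (e j₁ * x * (e j₁)⁻¹) * (e j₁)⁻¹ =
        e (j₁ * j₁) * x * (e (j₁ * j₁))⁻¹ by rw [map_mul]; group, d.pc (d.eL d.f.jj.1) x.2,
        mul_inv_cancel_right]
    · rw [coe_act, coe_act, coe_act, coe_act, show e j₁ * (e j₂ * x * (e j₂)⁻¹) * (e j₁)⁻¹ =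
        e (cm j₁ j₂) * (e j₂ * (e j₁ * x * (e j₁)⁻¹) * (e j₂)⁻¹) * (e (cm j₁ j₂))⁻¹ by
          simp only [map_mul, map_inv]; group,
        d.pc (d.eL d.f.jj.2.2) (d.cP d.f.j2.2 (d.cP d.f.j1.2 x.2)), mul_inv_cancel_right]
    · change w = e j₁ * v * (e j₁)⁻¹ * v⁻¹ * e l'
      rw [e2]
      group
    · have := congrArg e (d.f.nrm l' hl')
      simp only [map_mul, map_inv, map_one] at this
      simp only [coe_mul, coe_act, OneMemClass.coe_one, ← this]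
      group
  rcases d.cases hl (e1 ▸ mul_mem cw cw) (d.b.inj (by rw [map_mul, e1, w4, map_one])) with h | h
  · exact ⟨w, hw, by rw [← e1, h, map_one], tw, cw⟩
  · refine ⟨e ζ * w, mul_mem (d.eL d.f.ζL) hw, ?_,
      by simpa using d.th_mul (d.eL d.f.ζL) (d.EL d.f.zE) (d.th_e ζ) tw,
      mul_mem (map_mem_Cs d.f.ζc) cw⟩
    rw [mul_assoc, ← mul_assoc w, d.pc hw (d.eL d.f.ζL), mul_assoc, ← e1, h, ← map_mul, ← map_mul,
      ← mul_assoc, d.f.ζz, d.zz, map_one]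

theorem fix_z {w : G} (hw : w ∈ P) (w2 : w * w = 1) (tw : w * t * w⁻¹ = t * e z)
    (cw : w ∈ Cs ((Py z).map e)) {n : X} (hn : n ∈ Ns E) (hz : n * z * n⁻¹ = z) :
    e n * w * (e n)⁻¹ = w ∨ e n * w * (e n)⁻¹ * e z = w := by
  have h1 := d.cP hn hw
  have t1 := d.th_conj n tw
  rw [hz] at t1
  obtain ⟨μ, hμ, e1⟩ := d.ker (mul_mem hw h1) (d.zz ▸ d.th_mul hw (d.EL d.f.zE) tw t1)
  have c1 : e n * w * (e n)⁻¹ ∈ Cs ((Py z).map e) := H98.conj_mem_of_mem_normalizer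
    (H98.normalizer_le_normalizer_centralizer _ (map_mem_Ns (Cz_le_Ns_Py z (mem_Cz.2
      (mul_inv_eq_iff_eq_mul.1 hz).symm)))) cw
  have s1 : e n * w * (e n)⁻¹ * (e n * w * (e n)⁻¹) = 1 := by rw [conj_mul, w2]; group
  generalize e n * w * (e n)⁻¹ = v at *
  have e2 : v = w * e μ := by rw [e1, ← mul_assoc, w2, one_mul]
  rcases d.cases hμ (e1 ▸ mul_mem cw c1) (d.b.inj (by
    rw [map_mul, e1, mul_assoc, ← mul_assoc v, ← d.pc hw h1, mul_assoc, s1, mul_one, w2,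
      map_one])) with h | h
  · exact Or.inl (by rw [e2, h, map_one, mul_one])
  · exact Or.inr (by rw [e2, h, mul_assoc, ← map_mul, d.zz, map_one, mul_one])

theorem main : ∃ w, Hf e t O z w ∧
    ∀ m ∈ Ns E, ∀ n ∈ Ns E, m * z * m⁻¹ ≠ z → n * z * n⁻¹ = z * (m * z * m⁻¹) →
      e n * w * (e n)⁻¹ = w * (e m * w * (e m)⁻¹) := by
  obtain ⟨w, hw, w2, tw, cw⟩ := d.exists_w
  obtain ⟨φ, p3, p7, tr⟩ := singer (W := E) (fun a b => Subtype.ext (d.f.el.comm a.2 b.2))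
    (fun a => Subtype.ext (d.f.el a a.2)) d.f.card
  obtain ⟨x, hx, hφ⟩ := d.f.gl φ
  have xi : ∀ (i : ℕ) (b : E), x ^ i * b * (x ^ i)⁻¹ = (φ^[i] b : E) := fun i b => by
    induction i with
    | zero => simp
    | succ i ih => rw [Function.iterate_succ_apply', ← hφ, ← ih, pow_succ']; group
  have cE : ∀ {m b : X}, m ∈ Ns E → b ∈ E → m * b * m⁻¹ ∈ E := H98.conj_mem_of_mem_normalizer
  have p3' : ∀ b ∈ E, x ^ 3 * b * (x ^ 3)⁻¹ * (x * b * x⁻¹) * b = 1 := fun b hb => by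
    rw [xi 3 ⟨b, hb⟩, hφ ⟨b, hb⟩]
    exact congrArg Subtype.val (p3 ⟨b, hb⟩)
  let W : ℕ → G := fun i => e (x ^ i) * w * (e (x ^ i))⁻¹
  have WP : ∀ i, W i ∈ P := fun i => d.cP (pow_mem hx i) hw
  have W2 : ∀ i, W i * W i = 1 := fun i => by simp only [W]; rw [conj_mul, w2]; group
  have tW : ∀ i, W i * t * (W i)⁻¹ = t * e (x ^ i * z * (x ^ i)⁻¹) := fun i => d.th_conj _ tw
  have cl : ∀ i j, W i * W j = 1 ∨ ∃ k, W i * W j = W k := fun i j => by
    letI : CommGroup P := { (inferInstance : Group P) with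
      mul_comm := fun x y => Subtype.ext (d.pc x.2 y.2) }
    have t1 := d.th_mul (mul_mem (WP 3) (WP 1)) (d.EL d.f.zE)
      (d.th_mul (WP 3) (d.EL (cE (pow_mem hx 1) d.f.zE)) (tW 3) (tW 1)) tw
    rw [pow_one, p3' z d.f.zE] at t1
    obtain ⟨μ, hμ, e1⟩ := d.ker (mul_mem (mul_mem (WP 3) (WP 1)) hw) t1
    have μE : μ ∈ E := (d.f.om μ).2 ⟨hμ, d.b.inj (by
      have : (⟨_, WP 3⟩ * ⟨_, WP 1⟩ * ⟨w, hw⟩ : P) * (⟨_, WP 3⟩ * ⟨_, WP 1⟩ * ⟨w, hw⟩) =
          (⟨_, WP 3⟩ * ⟨_, WP 3⟩) * (⟨_, WP 1⟩ * ⟨_, WP 1⟩) * (⟨w, hw⟩ * ⟨w, hw⟩) := by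
        rw [mul_mul_mul_comm, mul_mul_mul_comm (⟨_, WP 3⟩ : P)]
      have := congrArg Subtype.val this
      simp only [coe_mul, W2, w2, mul_one] at this
      rw [map_mul, e1, this, map_one])⟩
    have x7 : x ^ 7 ∈ L := d.f.ce fun b hb => by
      have := xi 7 ⟨b, hb⟩
      rw [p7, mul_inv_eq_iff_eq_mul] at this
      exact this.symm
    have := seq_mul (fun i => (d.act hx)^[i] ⟨w, hw⟩)
      (fun i => Subtype.ext (by rw [coe_mul, coe_iter]; exact W2 i))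
      (rec_of (d.act hx) (fun u => Subtype.ext (by
          rw [coe_iter, d.pc (d.eL x7) u.2, mul_inv_cancel_right]))
        (l := ⟨e μ, d.eL hμ⟩) (Subtype.ext w2)
        (Subtype.ext (by
          rw [coe_mul, coe_mul, coe_iter, coe_act]
          simpa only [W, pow_one] using e1.symm))
        (Subtype.ext (by
          rw [coe_mul, coe_mul, coe_iter, coe_act]
          simpa only [map_mul, map_inv, map_one, OneMemClass.coe_one] using
            congrArg e (p3' μ μE)))) i j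
    simpa only [Subtype.ext_iff, coe_mul, coe_iter, OneMemClass.coe_one] using this
  let S : Subgroup G :=
    { carrier := {u | u = 1 ∨ ∃ i, u = W i}
      one_mem' := Or.inl rfl
      mul_mem' := by
        rintro _ _ (rfl | ⟨i, rfl⟩) (rfl | ⟨j, rfl⟩)
        exacts [Or.inl (mul_one 1), Or.inr ⟨j, one_mul _⟩, Or.inr ⟨i, mul_one _⟩, cl i j]
      inv_mem' := by
        rintro _ (rfl | ⟨i, rfl⟩)
        exacts [Or.inl inv_one, Or.inr ⟨i, inv_eq_of_mul_eq_one_left (W2 i)⟩] }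
  have SP : ∀ u ∈ S, u ∈ P := by
    rintro _ (rfl | ⟨i, rfl⟩)
    exacts [one_mem P, WP i]
  have S2 : ∀ u ∈ S, u * u = 1 := by
    rintro _ (rfl | ⟨i, rfl⟩)
    exacts [one_mul 1, W2 i]
  have S1 : ∀ u ∈ S, u * t * u⁻¹ = t * e 1 → u = 1 := by
    rintro _ (rfl | ⟨i, rfl⟩) h
    · rfl
    · exact absurd (by simpa using d.b.inj (mul_left_cancel ((tW i).symm.trans h))) d.f.zI.ne
  have Su : ∀ u ∈ S, ∀ v ∈ S, ∀ b ∈ E, u * t * u⁻¹ = t * e b → v * t * v⁻¹ = t * e b → u = v :=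
    fun u hu v hv b hb h1 h2 => by
      have := S1 _ (mul_mem hu hv) (d.f.el b hb ▸ d.th_mul (SP u hu) (d.EL hb) h1 h2)
      rw [eq_inv_of_mul_eq_one_left this, inv_eq_of_mul_eq_one_left (S2 v hv)]
  have ex : ∀ {m : X}, m ∈ Ns E → ∃ k : ℕ, (x ^ k)⁻¹ * m * z * ((x ^ k)⁻¹ * m)⁻¹ = z :=
    fun {m} hm => by
      obtain ⟨k, hk⟩ := tr ⟨z, d.f.zE⟩ ⟨_, cE hm d.f.zE⟩ (by simpa using d.f.zI.ne)
        (by simpa using d.f.zI.ne)
      have : x ^ k * z * (x ^ k)⁻¹ = m * z * m⁻¹ := (xi k ⟨z, d.f.zE⟩).trans (congrArg _ hk)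
      exact ⟨k, by rw [show (x ^ k)⁻¹ * m * z * ((x ^ k)⁻¹ * m)⁻¹ =
        (x ^ k)⁻¹ * (m * z * m⁻¹) * x ^ k by group, ← this]; group⟩
  have di : ∀ {m : X}, m ∈ Ns E → ∀ u ∈ S, ∀ b, u * t * u⁻¹ = t * e b →
      e m * u * (e m)⁻¹ ∈ S ∨ e m * u * (e m)⁻¹ * e (m * b * m⁻¹) ∈ S := by
    rintro m hm _ (rfl | ⟨i, rfl⟩) b hb
    · exact Or.inl (Or.inl (by group))
    obtain rfl := d.b.inj (mul_left_cancel ((tW i).symm.trans hb))
    obtain ⟨k, hk⟩ := ex (mul_mem hm (pow_mem hx i))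
    refine (d.fix_z hw w2 tw cw (mul_mem (inv_mem (pow_mem hx k)) (mul_mem hm (pow_mem hx i)))
      hk).imp (fun h => Or.inr ⟨k, ?_⟩) fun h => Or.inr ⟨k, ?_⟩
    · simp only [W]
      conv_rhs => rw [← h]
      simp only [map_mul, map_inv]
      group
    · simp only [W]
      conv_rhs => rw [← h, ← hk]
      simp only [map_mul, map_inv]
      group
  have sqm : ∀ {m : X}, m ∈ Ns E → e (m * m) ∈ Ns S := fun {m} hm => by
    refine H98.mem_normalizer_of_cj_le ?_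
    rintro _ ⟨u, hu, rfl⟩
    change e (m * m) * u * (e (m * m))⁻¹ ∈ S
    rw [show e (m * m) * u * (e (m * m))⁻¹ = e m * (e m * u * (e m)⁻¹) * (e m)⁻¹ by
      rw [map_mul]; group]
    by_cases h : ∀ u ∈ S, e m * u * (e m)⁻¹ ∈ S
    · exact h _ (h u hu)
    push Not at h
    obtain ⟨u0, hu0, h0⟩ := h
    obtain ⟨b0, hb0, t0⟩ := d.p.th u0 (SP u0 hu0)
    have key : ∀ u ∈ S, ∀ b ∈ E, u * t * u⁻¹ = t * e b →
        e m * u * (e m)⁻¹ * e (m * b * m⁻¹) ∈ S := fun u hu b hb tb => by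
      refine (di hm u hu b tb).elim (fun h => ?_) id
      rcases di hm _ (mul_mem hu hu0) _ (d.th_mul (SP u hu) (d.EL hb0) tb t0) with h1 | h1
      · exact absurd ((mul_mem_cancel_left h).1 (by rwa [conj_mul])) h0
      · have h2 := (di hm u0 hu0 b0 t0).resolve_left h0
        rw [← conj_mul, d.f.el.comm hb hb0, ← conj_mul (b := m), map_mul e (m * b0 * m⁻¹),
          mul_assoc, mul_mem_cancel_left h, ← mul_assoc, mul_mem_cancel_left h2] at h1
        exact mul_mem h h1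
    obtain ⟨b, hb, tb⟩ := d.p.th u (SP u hu)
    have h1 := key u hu b hb tb
    have h2 := key _ h1 _ (cE hm hb) (by
      have := d.th_mul (d.cP hm (SP u hu)) (one_mem L) (d.th_conj m tb) (d.th_e (m * b * m⁻¹))
      rwa [mul_one] at this)
    rwa [← conj_mul, show e m * e (m * b * m⁻¹) * (e m)⁻¹ = e (m * (m * b * m⁻¹) * m⁻¹) by
      simp only [map_mul, map_inv], mul_assoc _ (e _), ← map_mul, d.f.el _ (cE hm (cE hm hb)),
      map_one, mul_one] at h2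
  have wS : w ∈ S := Or.inr ⟨0, by simp [W]⟩
  have sN : e s ∈ Ns S := (closure_le ((Ns S).comap e)).2 (fun g hg => by
    obtain ⟨hg, k, hk⟩ := hg
    have : g = (g ^ (k + 1)) * g ^ (k + 1) := by
      rw [← pow_add, show k + 1 + (k + 1) = 2 * k + 1 + 1 by ring, pow_succ, ← hk,
        pow_orderOf_eq_one, one_mul]
    rw [this]
    exact sqm (pow_mem hg _)) d.f.sN.1
  have cs : e s * w = w * e s := by
    refine mul_inv_eq_iff_eq_mul.1 (Su _ (H98.conj_mem_of_mem_normalizer sN wS) w wS z d.f.zE ?_ tw)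
    rw [d.th_conj s tw, ← mem_Cz.1 d.f.sN.2, mul_inv_cancel_right]
  have cz : ∀ y ∈ Cz z, e y * w = w * e y := fun y hy => (d.f.idx y hy).elim (mem_Cs_map.1 cw y)
    fun h => by
      have := mem_Cs_map.1 cw _ h
      rwa [map_mul, mul_assoc, cs, ← mul_assoc, ← mul_assoc, mul_left_inj] at this
  have mS : ∀ {m : X}, m ∈ Ns E → e m * w * (e m)⁻¹ ∈ S := fun {m} hm => by
    obtain ⟨k, hk⟩ := ex hm
    refine Or.inr ⟨k, ?_⟩
    have := cz _ (mem_Cz.2 (mul_inv_eq_iff_eq_mul.1 hk).symm)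
    rw [map_mul, map_inv, ← mul_inv_eq_iff_eq_mul] at this
    simp only [W]
    conv_rhs => rw [← this]
    group
  refine ⟨w, ⟨w2, by rwa [inv_eq_of_mul_eq_one_left w2] at tw, mem_Cs_map.2 cz, d.p.co hw⟩,
    fun m hm n hn _ h => Su _ (mS hn) _ (mul_mem wS (mS hm)) _ (cE hn d.f.zE) (d.th_conj n tw) ?_⟩
  rw [h]
  exact d.th_mul hw (d.EL (cE hm d.f.zE)) tw (d.th_conj m tw)

end OD

theorem jobO2 : JobO2.{u} := by
  intro X _ G _ _ e t hF z ζ s j₁ j₂ a E L f ce O ab P p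
  have := hF.fin
  exact OD.main ⟨f, ce.toB1, ab, p⟩

end H89.ST
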