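import Cfsg.Agent.H89.KBase
import Cfsg.Agent.H7.HKSSpec
import Cfsg.Agent.H98.Sylow

/-! Interface of the ON2 tower (O'Nan's theorem on TI normal subgroups of point stabilisers,
row S2201), see `blueprints/ON2.md`.  Definitions, basic facts and job statements. -/

set_option autoImplicit false

namespace H89.ON2

open MulAction Cfsg Subgroup H89.K H98 H65

universe u

section Defs

variable {G Ω : Type*} [Group G] [MulAction G Ω]

/-- The stabiliser of `b` in `N a`. -/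
abbrev X (N : Ω → Subgroup G) (a b : Ω) : Subgroup G := N a ⊓ stabilizer G b

/-- The line through `a` and `b`. -/
def Ln (N : Ω → Subgroup G) (a b : Ω) : Set Ω := {c | ∀ g ∈ X N a b, g • c = c}

/-- An invariant TI family which is not semiregular. -/
structure TI (N : Ω → Subgroup G) : Prop where
  t2 : T2 G Ω
  fix : ∀ a, ∀ u ∈ N a, u • a = a
  conj : ∀ (g : G) (a : Ω), ∀ u ∈ N a, g * u * g⁻¹ ∈ N (g • a)
  ti : ∀ {a b : Ω}, a ≠ b → ∀ u ∈ N a, u ∈ N b → u = 1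
  ne : ∀ {a b : Ω}, a ≠ b → X N a b ≠ ⊥

/-- A minimal, non-abelian such family. -/
structure Min (N : Ω → Subgroup G) : Prop extends TI N where
  min : ∀ {a b : Ω} (M : Subgroup G), a ≠ b → M ≤ N a → stabilizer G a ≤ normalizer (M : Set G) →
    M ⊓ stabilizer G b ≠ ⊥ → M = N a
  nab : ∀ a, ∃ x ∈ N a, ∃ y ∈ N a, x * y ≠ y * x

/-- `F a` is the largest proper invariant subgroup of `N a`. -/
structure Base (N F : Ω → Subgroup G) : Prop extends Min N where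
  le : ∀ a, F a ≤ N a
  fconj : ∀ (g : G) (a : Ω), ∀ u ∈ F a, g * u * g⁻¹ ∈ F (g • a)
  nil : ∀ a, Group.IsNilpotent (F a)
  reg : ∀ {a b : Ω}, b ≠ a → ∀ u ∈ F a, u • b = b → u = 1
  cop : ∀ {a b : Ω}, a ≠ b → (Nat.card (F a)).Coprime (Nat.card (X N a b))
  max : ∀ (a : Ω) (M : Subgroup G), M ≤ N a → stabilizer G a ≤ normalizer (M : Set G) →
    M = N a ∨ M ≤ F a
  nnil : ∀ a, ¬ Group.IsNilpotent (N a)
  cf : ∀ a, N a ⊓ centralizer (F a : Set G) ≤ F a ∨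
    (N a ≤ centralizer (F a : Set G) ∧ ⁅N a, N a⁆ = N a)

/-- `N a = F a : ℤ/p`. -/
structure FZ (N F : Ω → Subgroup G) (p : ℕ) : Prop extends TI N where
  prime : p.Prime
  card : ∀ {a b : Ω}, a ≠ b → Nat.card (X N a b) = p
  le : ∀ a, F a ≤ N a
  fconj : ∀ (g : G) (a : Ω), ∀ u ∈ F a, g * u * g⁻¹ ∈ F (g • a)
  nil : ∀ a, Group.IsNilpotent (F a)
  reg : ∀ {a b : Ω}, b ≠ a → ∀ u ∈ F a, u • b = b → u = 1
  odd : ∀ a, Odd (Nat.card (F a))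
  cop : ∀ a, ¬ p ∣ Nat.card (F a)
  fne : ∀ a, F a ≠ ⊥
  dec : ∀ {a b : Ω}, a ≠ b → ∀ h ∈ N a, ∃ f ∈ F a, ∃ k ∈ X N a b, h = f * k

/-- The geometry of lines. -/
structure LN (N F : Ω → Subgroup G) (p : ℕ) : Prop extends FZ N F p where
  two : p ≠ 2
  ln : ∀ {a b c d : Ω}, a ≠ b → c ∈ Ln N a b → d ∈ Ln N a b → c ≠ d → Ln N c d = Ln N a b
  fpf : ∀ {a b c d : Ω}, a ≠ b → c ∈ Ln N a b → d ∈ Ln N a b → c ≠ d → ∀ k ∈ X N c d, k ≠ 1 →
    ∀ f ∈ F a, f * k = k * f → f = 1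
  tr : ∀ {a b : Ω}, a ≠ b → ∀ w, w ≠ a → ∃ c ∈ Ln N a b, c ≠ a ∧ ∃ f ∈ F a, f • c = w
  uniq : ∀ {a b : Ω}, a ≠ b → ∀ c ∈ Ln N a b, c ≠ a → ∀ f ∈ F a, f • c ∈ Ln N a b → f = 1
  flag : ∀ {a b : Ω} (A : Subgroup G), a ≠ b → (∀ g ∈ A, ∀ c ∈ Ln N a b, g • c = c) →
    F a ⊓ centralizer (A : Set G) ≠ ⊥ → ∀ c ∈ Ln N a b, ∀ d ∈ Ln N a b,
      ∃ y ∈ centralizer (A : Set G), y • c = d ∧ ∀ e ∈ Ln N a b, y • e ∈ Ln N a b

/-- The rank one data invariant under the two-point stabiliser. -/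
structure T1D (F : Ω → Subgroup G) (a b : Ω) {E : Type} [Field E] [Fintype E] (x y : E → G)
    (A B : Subgroup G) : Prop where
  ld : H7.HKS.LD x y A B a b
  leA : A ≤ F a
  leB : B ≤ F b
  nA : St G a b ≤ normalizer (A : Set G)
  nB : St G a b ≤ normalizer (B : Set G)
  tri : A = F a ∨ Fintype.card E % 4 = 3 ∨ (A = F a ⊓ centralizer (F a : Set G) ∧
    F a ⊓ centralizer {sl2h x y (-1)} = A)

/-- The case of even two-point stabilisers. -/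
structure Ev (N : Ω → Subgroup G) : Prop extends TI N where
  ev : ∀ {a b : Ω}, a ≠ b → Even (Nat.card (X N a b))
  perf : ∀ a, ⁅N a, N a⁆ = N a
  /-- `O(N a)` is central -/
  oc : ∀ (a : Ω) (O : Subgroup G), O ≤ N a → N a ≤ normalizer (O : Set G) → Odd (Nat.card O) →
    ∀ o ∈ O, ∀ h ∈ N a, o * h = h * o
  /-- `O₂(N a) = 1` -/
  o2 : ∀ a, ∀ r ∈ N a, r * r = 1 → r ≠ 1 → ∃ h ∈ N a, r * (h * r * h⁻¹) ≠ h * r * h⁻¹ * r
  /-- the Z*-theorem -/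
  zc : ∀ (a : Ω) (Y T : Subgroup G) (z : G), N a ≤ Y → Y ≤ stabilizer G a → IsSyl 2 T Y → z ∈ T →
    z * z = 1 → (∀ g ∈ Y, g * z * g⁻¹ ∈ T → g * z * g⁻¹ = z) → ∀ h ∈ N a, z * h = h * z

/-- What an element `h ∈ N a` normalising `R R'` and moving `b` gives. -/
structure Phi (N : Ω → Subgroup G) (a b : Ω) (R R' : Subgroup G) (h : G) : Prop where
  ab : ∀ r ∈ R, ∀ r' ∈ R, r * r' = r' * r
  ab' : ∀ l ∈ R', ∀ l' ∈ R', l * l' = l' * l
  ce : ∀ r ∈ R, r ≠ 1 → ∀ k ∈ X N a b, k * r = r * k → ∀ r' ∈ R, k * r' = r' * k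
  surj : ∀ r ∈ R, ∃ l ∈ R', h * l * h⁻¹ = r * l

/-- Sylow data.  `B = R ⊔ R'`, `T = P ⊔ R'`, `G₁ = N a ⊔ R'`. -/
structure S2 (N : Ω → Subgroup G) (a b : Ω) (R R' P : Subgroup G) (s : G) : Prop extends Ev N where
  hab : a ≠ b
  sylR : IsSyl 2 R (X N a b)
  sylR' : IsSyl 2 R' (X N b a)
  sylP : IsSyl 2 P (N a)
  sylT : IsSyl 2 (P ⊔ R') (N a ⊔ R')
  le : R ≤ P
  nP : R' ≤ normalizer (P : Set G)
  sa : s • a = b
  sb : s • b = a
  sR : cj s R = R'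
  sR' : cj s R' = R
  rne : R ≠ ⊥
  pk : ∀ w ∈ P, w • b = b → w ∈ R
  decB : ∀ x ∈ R ⊔ R', ∃ r ∈ R, ∃ l ∈ R', x = r * l
  decT : ∀ x ∈ P ⊔ R', ∃ w ∈ P, ∃ l ∈ R', x = w * l
  decG : ∀ x ∈ N a ⊔ R', ∃ w ∈ N a, ∃ l ∈ R', x = w * l
  bn : ∀ x ∈ R ⊔ R', x ∈ N a → x ∈ R
  tn : ∀ x ∈ P ⊔ R', x ∈ N a → x ∈ P
  abB : ∀ x ∈ R ⊔ R', ∀ y ∈ R ⊔ R', x * y = y * x
  ce : ∀ r ∈ R, r ≠ 1 → ∀ k ∈ X N a b, k * r = r * k → ∀ r' ∈ R, k * r' = r' * k
  nR : ∀ h ∈ N a, h ∈ normalizer ((R ⊔ R' : Subgroup G) : Set G) → h ∈ normalizer (R : Set G) ∧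
    ∀ l ∈ R', ∃ r ∈ R, h * l * h⁻¹ = r * l
  ex : ∃ h ∈ N a, h ∈ normalizer ((R ⊔ R' : Subgroup G) : Set G) ∧ h • b ≠ b
  surj : ∀ h ∈ N a, h ∈ normalizer ((R ⊔ R' : Subgroup G) : Set G) → h • b ≠ b →
    ∀ r ∈ R, ∃ l ∈ R', h * l * h⁻¹ = r * l

/-- `W = N_P(B)`. -/
abbrev Wn (R R' P : Subgroup G) : Subgroup G := P ⊓ normalizer ((R ⊔ R' : Subgroup G) : Set G)

/-- `R` is not a Sylow subgroup of `N a`. -/
structure A2 (N : Ω → Subgroup G) (a b : Ω) (R R' P : Subgroup G) (s : G) : Prop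
    extends S2 N a b R R' P s where
  rw : R ≤ Wn R R' P
  wne : ∃ w ∈ Wn R R' P, w ∉ R
  wsq : ∀ w ∈ Wn R R' P, w * w ∈ R
  winv : ∀ w ∈ Wn R R' P, w ∉ R → ∀ r ∈ R, w * r * w⁻¹ = r⁻¹
  /-- for elementary abelian `R` the square of `w c` is that of `w` -/
  sq : (∀ r ∈ R, r * r = 1) → ∀ w ∈ Wn R R' P, ∀ c ∈ X N a b, (∀ r ∈ R, c * r = r * c) →
    w * c * (w * c) ∈ R → w * c * (w * c) = w * w

/-- The Sylow subgroup `P = W ⟨t⟩` with `W` homocyclic of exponent four. -/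
structure WL (R W P : Subgroup G) (t : G) : Prop where
  rw : R ≤ W
  wp : W ≤ P
  idx : W.relIndex P = 2
  tP : t ∈ P
  tW : t ∉ W
  four : 4 ≤ Nat.card R
  card : Nat.card W = Nat.card R ^ 2
  el : ∀ r ∈ R, r * r = 1
  ab : ∀ w ∈ W, ∀ v ∈ W, w * v = v * w
  cen : ∀ r ∈ R, ∀ x ∈ P, x * r = r * x
  sq : ∀ w ∈ W, w * w ∈ R
  om : ∀ w ∈ W, w * w = 1 → w ∈ R
  surj : ∀ r ∈ R, ∃ w ∈ W, w * w = r
  alt : (t * t ∈ R ∧ ∀ w ∈ W, t * w * t⁻¹ = w⁻¹) ∨ ∀ x ∈ P, x ∉ W → x * x ∉ R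

end Defs

/-! ### Basic facts -/

namespace TI

variable {G Ω : Type*} [Group G] [MulAction G Ω] {N : Ω → Subgroup G} (h : TI N)
include h

theorem conj_iff (g : G) (a : Ω) {u : G} : g * u * g⁻¹ ∈ N (g • a) ↔ u ∈ N a :=
  ⟨fun hu => by simpa [mul_assoc] using h.conj g⁻¹ _ _ hu, h.conj g a u⟩

theorem conj_of_fix {g : G} {a : Ω} (hg : g • a = a) {u : G} (hu : u ∈ N a) : g * u * g⁻¹ ∈ N a := by
  simpa [hg] using h.conj g a u hu

theorem le_stab (a : Ω) : N a ≤ stabilizer G a := fun u hu => h.fix a u hu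

theorem stab_le (a : Ω) : stabilizer G a ≤ normalizer (N a : Set G) := fun g hg =>
  mem_normalizer_iff.2 fun u => by
    have := h.conj_iff g a (u := u)
    rw [mem_stabilizer_iff.1 hg] at this
    exact this.symm

theorem cj_N (g : G) (a : Ω) : cj g (N a) = N (g • a) := by
  ext u
  constructor
  · rintro ⟨v, hv, rfl⟩
    exact h.conj g a v hv
  · intro hu
    exact ⟨g⁻¹ * u * g, (h.conj_iff g a).1 (by simpa [mul_assoc] using hu), by simp [mul_assoc]⟩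

theorem conj_X (g : G) {a b : Ω} {u : G} (hu : u ∈ X N a b) :
    g * u * g⁻¹ ∈ X N (g • a) (g • b) :=
  ⟨h.conj g a u hu.1, by simpa [mul_smul] using hu.2⟩

theorem cj_X (g : G) (a b : Ω) : cj g (X N a b) = X N (g • a) (g • b) := by
  ext u
  constructor
  · rintro ⟨v, hv, rfl⟩
    exact h.conj_X g hv
  · intro hu
    exact ⟨g⁻¹ * u * g, by simpa using h.conj_X g⁻¹ hu, by simp [mul_assoc]⟩

theorem card_X {a b c d : Ω} (hab : a ≠ b) (hcd : c ≠ d) :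
    Nat.card (X N a b) = Nat.card (X N c d) := by
  obtain ⟨g, rfl, rfl⟩ := h.t2.two hab hcd
  rw [← h.cj_X, card_map_of_injective (MulAut.conj g).injective]

theorem card_N (a b : Ω) : Nat.card (N a) = Nat.card (N b) := by
  obtain ⟨g, rfl⟩ := h.t2.trans a b
  rw [← h.cj_N, card_map_of_injective (MulAut.conj g).injective]

/-- `[K, L] = 1`. -/
theorem comm {a b : Ω} (hab : a ≠ b) {k l : G} (hk : k ∈ X N a b) (hl : l ∈ X N b a) :
    k * l = l * k := by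
  have h1 : k * l * k⁻¹ * l⁻¹ ∈ N b := mul_mem (h.conj_of_fix hk.2 hl.1) (inv_mem hl.1)
  have h2 : k * l * k⁻¹ * l⁻¹ ∈ N a := by
    have := mul_mem hk.1 (h.conj_of_fix hl.2 (inv_mem hk.1))
    simpa [mul_assoc] using this
  have := h.ti hab _ h2 h1
  rwa [mul_inv_eq_one, mul_inv_eq_iff_eq_mul] at this

/-- Centralisers of non-trivial elements of `N a` fix `a`. -/
theorem fixc {a : Ω} {u g : G} (hu : u ∈ N a) (h1 : u ≠ 1) (hc : g * u = u * g) : g • a = a := by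
  by_contra hn
  refine h1 (h.ti hn u ?_ hu)
  have := h.conj g a u hu
  rwa [hc, mul_inv_cancel_right] at this

/-- `C_H(l) = K`. -/
theorem cent {a b : Ω} (hab : a ≠ b) {l g : G} (hl : l ∈ X N b a) (h1 : l ≠ 1) (hg : g ∈ N a) :
    g * l = l * g ↔ g • b = b :=
  ⟨h.fixc hl.1 h1, fun hb => h.comm hab ⟨hg, hb⟩ hl⟩

theorem exists_ne {a b : Ω} (hab : a ≠ b) : ∃ k ∈ X N a b, k ≠ 1 :=
  (bot_or_exists_ne_one _).resolve_left (h.ne hab)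

/-- `N a` moves every other point. -/
theorem exists_move {a b : Ω} (hab : a ≠ b) : ∃ g ∈ N a, g • b ≠ b := by
  by_contra hn
  push Not at hn
  obtain ⟨k, hk, k1⟩ := h.exists_ne hab
  refine k1 (h.t2.faith k fun c => ?_)
  by_cases hc : c = a
  · rw [hc]
    exact h.fix a k hk.1
  · obtain ⟨g, ga, gb⟩ := h.t2.two hab (Ne.symm hc)
    have := hn _ (h.conj_of_fix (inv_smul_eq_iff.2 ga.symm) hk.1)
    rw [← gb, ← mul_smul]
    simpa [mul_smul, inv_smul_eq_iff] using this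

theorem naff : ¬ Aff G Ω := by
  rintro ⟨E, hE, tr, reg⟩
  obtain ⟨a, b, -, hab, -⟩ := h.t2.big
  obtain ⟨e, he, rfl⟩ := tr a b
  obtain ⟨l, hl, l1⟩ := h.exists_ne hab.symm
  have h1 : e⁻¹ * l * e ∈ N a := (h.conj_iff e a).1 (by simpa [mul_assoc] using hl.1)
  have h2 : l⁻¹ * (e⁻¹ * l * e) = 1 := by
    refine reg a _ ?_ ?_
    · have := mul_mem (hE.conj_mem _ (inv_mem he) l⁻¹) he
      simpa [mul_assoc] using this
    · rw [mul_smul, h.fix a _ h1, inv_smul_eq_iff]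
      exact hl.2.symm
  rw [inv_mul_eq_one] at h2
  exact l1 (h.ti hab l (h2 ▸ h1) hl.1)

theorem left_mem (a b : Ω) : a ∈ Ln N a b := fun g hg => h.fix a g hg.1

omit h in
theorem right_mem (a b : Ω) : b ∈ Ln N a b := fun _ hg => hg.2

theorem smul_mem_Ln (g : G) {a b c : Ω} (hc : c ∈ Ln N a b) : g • c ∈ Ln N (g • a) (g • b) := by
  intro u hu
  have := hc _ (by simpa using h.conj_X g⁻¹ hu)
  simpa [mul_smul, inv_smul_eq_iff] using this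

end TI

/-! ### Jobs -/

/-- The largest proper invariant subgroup. -/
def JobRed : Prop := ∀ (G Ω : Type u) [Group G] [Finite G] [MulAction G Ω] (N : Ω → Subgroup G),
  Min N → ∃ F, Base N F

/-- `|K|` odd and `|H|` even. -/
def JobEven : Prop := ∀ (G Ω : Type u) [Group G] [Finite G] [MulAction G Ω] (N : Ω → Subgroup G)
  (a b : Ω), TI N → a ≠ b → Odd (Nat.card (X N a b)) → Even (Nat.card (N a)) → False

/-- `|H|` odd. -/
def JobOdd : Prop := ∀ (G Ω : Type u) [Group G] [Finite G] [MulAction G Ω] (N F : Ω → Subgroup G),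
  Base N F → (∀ a, Odd (Nat.card (N a))) → ∃ p, FZ N F p

/-- `|K|` even. -/
def JobKev : Prop := ∀ (G Ω : Type u) [Group G] [Finite G] [MulAction G Ω] (N F : Ω → Subgroup G),
  Base N F → (∀ a b, a ≠ b → Even (Nat.card (X N a b))) → FZ N F 2 ∨ Ev N

def JobLn : Prop := ∀ (G Ω : Type u) [Group G] [Finite G] [MulAction G Ω] (N F : Ω → Subgroup G)
  (p : ℕ), FZ N F p → LN N F p

/-- The linear algebra behind the bound on the size of a line. -/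
def JobGeo2 : Prop := ∀ (p : ℕ) [Fact p.Prime] (V ι : Type u) [AddCommGroup V] [Module (ZMod p) V]
  [Finite ι] (v : ι → V) (Γ : Subgroup (V ≃ₗ[ZMod p] V)) (f₀ f₁ : V →ₗ[ZMod p] ZMod p),
  (∀ i j, i ≠ j → ∀ c : ZMod p, v i ≠ c • v j) → Submodule.span (ZMod p) (Set.range v) = ⊤ →
  (∀ g ∈ Γ, ∀ i, ∃ (j : ι) (c : ZMod p), g (v i) = c • v j) →
  (∀ i j i' j', i ≠ j → i' ≠ j' → ∃ g ∈ Γ, ∃ c d : ZMod p, g (v i) = c • v i' ∧ g (v j) = d • v j') →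
  (∀ i, f₀ (v i) ≠ 0) → (∀ i, f₁ (v i) ≠ 0) → LinearMap.ker f₀ ≠ LinearMap.ker f₁ →
  (∀ i j, ∃ g ∈ Γ, (∀ x, f₀ x = 0 → g x = x) ∧ ∃ c : ZMod p, g (v i) = c • v j) →
  Nat.card ι ≤ 3

def JobGeo1 : Prop := JobGeo2.{u} → ∀ (G Ω : Type u) [Group G] [Finite G] [MulAction G Ω]
  (N F : Ω → Subgroup G) (p : ℕ) (a b : Ω), LN N F p → a ≠ b → (Ln N a b).ncard ≤ 3

def JobL3 : Prop := ∀ (G Ω : Type u) [Group G] [Finite G] [MulAction G Ω] (N F : Ω → Subgroup G)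
  (p : ℕ) (a b : Ω), LN N F p → a ≠ b → (Ln N a b).ncard = 3 → False

def JobT1a : Prop := H7.HKS.Main.{u} → ∀ (G Ω : Type u) [Group G] [Finite G] [MulAction G Ω]
  (F : Ω → Subgroup G) (a b : Ω), H7.HKS.Rg F → ¬ Aff G Ω → a ≠ b →
  ∃ (E : Type) (_ : Field E) (_ : Fintype E) (x y : E → G) (A B : Subgroup G), T1D F a b x y A B

def JobT1b : Prop := ∀ (G Ω : Type u) [Group G] [Finite G] [MulAction G Ω] (N F : Ω → Subgroup G)
  (p : ℕ) (a b : Ω) (E : Type) [Field E] [Fintype E] (x y : E → G) (A B : Subgroup G),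
  LN N F p → H7.HKS.Rg F → a ≠ b → Ln N a b = {a, b} → T1D F a b x y A B → False

/-- The commutator map (any prime). -/
def JobPhi : Prop := ∀ (G Ω : Type u) [Group G] [Finite G] [MulAction G Ω] (N : Ω → Subgroup G)
  (a b : Ω) (p : ℕ) (R R' : Subgroup G), TI N → a ≠ b → p.Prime → IsSyl p R (X N a b) →
  IsSyl p R' (X N b a) →
  (∀ h ∈ N a, h ∈ normalizer ((R ⊔ R' : Subgroup G) : Set G) → h • b ≠ b → Phi N a b R R' h) ∧
  ∀ o ∈ X N b a, o ≠ 1 → (∃ n, o ^ p ^ n = 1) → ∀ g ∈ N a, g • b ≠ b →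
    (g * o * g⁻¹) • b = b → ∃ h ∈ N a, h ∈ normalizer ((R ⊔ R' : Subgroup G) : Set G) ∧ h • b ≠ b

def JobS2 : Prop := JobPhi.{u} → ∀ (G Ω : Type u) [Group G] [Finite G] [MulAction G Ω]
  (N : Ω → Subgroup G) (a b : Ω), Ev N → a ≠ b → ∃ R R' P s, S2 N a b R R' P s

def JobB2 : Prop := ∀ (G Ω : Type u) [Group G] [Finite G] [MulAction G Ω] (N : Ω → Subgroup G)
  (a b : Ω) (R R' : Subgroup G) (s : G), S2 N a b R R' R s → False

def JobA2 : Prop := ∀ (G Ω : Type u) [Group G] [Finite G] [MulAction G Ω] (N : Ω → Subgroup G)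
  (a b : Ω) (R R' P : Subgroup G) (s : G), S2 N a b R R' P s → R ≠ P → A2 N a b R R' P s

def JobQ2 : Prop := JobPhi.{u} → ∀ (G Ω : Type u) [Group G] [Finite G] [MulAction G Ω]
  (N : Ω → Subgroup G) (a b : Ω) (R R' P : Subgroup G) (s : G), A2 N a b R R' P s →
  Nat.card R = 2 → False

def JobWL1 : Prop := ∀ (G Ω : Type u) [Group G] [Finite G] [MulAction G Ω] (N : Ω → Subgroup G)
  (a b : Ω) (R R' P : Subgroup G) (s : G), A2 N a b R R' P s → 4 ≤ Nat.card R → Wn R R' P ≠ P →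
  ∃ t, WL R (Wn R R' P) P t

def JobWL2 : Prop := ∀ (G : Type u) [Group G] [Finite G] (H R W P : Subgroup G) (t : G),
  ⁅H, H⁆ = H → IsSyl 2 P H → WL R W P t → False

def JobWNE : Prop := ∀ (G Ω : Type u) [Group G] [Finite G] [MulAction G Ω] (N : Ω → Subgroup G)
  (a b : Ω) (R R' P : Subgroup G) (s : G), A2 N a b R R' P s → Wn R R' P = P →
  (∃ r ∈ R, r * r ≠ 1) → False

def JobWE1 : Prop := ∀ (G Ω : Type u) [Group G] [Finite G] [MulAction G Ω] (N : Ω → Subgroup G)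
  (a b : Ω) (R R' P : Subgroup G) (s : G), A2 N a b R R' P s → Wn R R' P = P →
  (∀ r ∈ R, r * r = 1) → ∀ x ∈ R ⊔ R', x ∉ R → ∀ g ∈ N a, g * x * g⁻¹ ∈ P ⊔ R' →
  g * x * g⁻¹ ∈ R ⊔ R'

def JobWE2 : Prop := ∀ (G Ω : Type u) [Group G] [Finite G] [MulAction G Ω] (N : Ω → Subgroup G)
  (a b : Ω) (R R' P : Subgroup G) (s : G), A2 N a b R R' P s → Wn R R' P = P →
  (∀ r ∈ R, r * r = 1) → (∀ w ∈ P, w * w = 1) ∨ ∀ w ∈ P, w * w = 1 → w ∈ R

def JobWE3 : Prop := ∀ (G Ω : Type u) [Group G] [Finite G] [MulAction G Ω] (N : Ω → Subgroup G)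
  (a b : Ω) (R R' P : Subgroup G) (s : G), A2 N a b R R' P s → Wn R R' P = P →
  (∀ r ∈ R, r * r = 1) → 4 ≤ Nat.card R →
  (∀ x ∈ R ⊔ R', x ∉ R → ∀ g ∈ N a, g * x * g⁻¹ ∈ P ⊔ R' → g * x * g⁻¹ ∈ R ⊔ R') →
  ((∀ w ∈ P, w * w = 1) ∨ ∀ w ∈ P, w * w = 1 → w ∈ R) → False

end H89.ON2
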