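/- Tower KU (S2196), slots M and Gl1. -/
import Cfsg.Agent.H53.KUSpec

set_option autoImplicit false

namespace H89.KUM

open Cfsg H59 H53.WU H53.KU Module

section Fr

variable {S : HS} {m : ℕ}

theorem map_W (Φ : Fr S m) (g : S.G) (k : ℕ) : (Φ.map g).W k = (Φ.W k).map g.1.toLinearMap := by
  rw [Fr.W, Fr.W, Submodule.map_span, Set.image_image]; rfl

theorem sm_of {Φ Ψ : Fr S m} (c : Fin m → S.Fˣ) (h : ∀ i, Φ.e i = (c i : S.F) • Ψ.e i) :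
    Φ.Sm Ψ := fun k => by
  refine le_antisymm (Submodule.span_le.2 ?_) (Submodule.span_le.2 ?_)
  · rintro _ ⟨i, hi, rfl⟩
    rw [h]
    exact (Ψ.W k).smul_mem _ (Ψ.e_mem_W hi)
  · rintro _ ⟨i, hi, rfl⟩
    have := (Φ.W k).smul_mem ((c i)⁻¹ : S.Fˣ).1 (Φ.e_mem_W hi)
    rwa [h, smul_smul, Units.inv_mul, one_smul] at this

theorem ev_W {Φ : Fr S m} {b : S.G} (hb : b ∈ Φ.Bo) (k : ℕ) :
    (Φ.W k).map b.1.toLinearMap = Φ.W k := by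
  obtain ⟨a, ha⟩ := hb
  refine le_antisymm ?_ fun v hv => ⟨(b⁻¹).1 v, ha.inv.map_W k hv, by simp⟩
  rintro _ ⟨v, hv, rfl⟩
  exact ha.map_W k hv

theorem map_mul' (W : Submodule S.F S.V) (g h : S.G) :
    W.map (g * h).1.toLinearMap = (W.map h.1.toLinearMap).map g.1.toLinearMap := by
  rw [← Submodule.map_comp]; rfl

end Fr

theorem jobM : JobM1 → JobMk → JobDg → JobTr → JobM := by
  intro m1 mk dg tr S Φ rk
  have ap : ∀ l, In S.q (Odd S.n) (Φ.D S.K) l → Ap S.K Φ.Bo (l.comp Φ.ev) := by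
    rintro l ⟨⟨a, ha, h1⟩, h2⟩
    refine ⟨fun h => h1 ?_, fun b hb => h2 _ ⟨b.1, hb, Φ.ev_spec b⟩⟩
    obtain ⟨t, ht⟩ := (dg _ _ Φ S.hr).1 a ha
    rw [← (Φ.ev_spec ⟨t, a, ht.ev⟩).unique ht.ev]
    exact DFunLike.congr_fun h ⟨t, a, ht.ev⟩
  obtain ⟨h1, h2⟩ := m1 S.toHS.G S.K Φ.Bo rk
  refine ⟨fun l₁ l₂ l₃ i1 i2 i3 => (h1 _ _ _ (ap _ i1) (ap _ i2) (ap _ i3)).imp (mk _ _ Φ S.hr _ _)
    (Or.imp (mk _ _ Φ S.hr _ _) (mk _ _ Φ S.hr _ _)), ?_⟩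
  rintro ⟨l₁, l₂, i1, i2, hn⟩
  have n1 : ∀ l, In S.q (Odd S.n) (Φ.D S.K) l → ¬ Mk Φ.Bo 1 (l.comp Φ.ev) := fun l i h => by
    obtain ⟨π, ε, k⟩ := mk _ _ Φ S.hr 1 l h
    obtain ⟨a, ha, h1⟩ := i.1
    exact h1 (k a ha)
  have dc := h2 _ _ (ap _ i1) (ap _ i2) (fun h => hn (mk _ _ Φ S.hr _ _ h)) (n1 _ i1) (n1 _ i2)
  have key : ∀ Ψ : S.Fm, ∃ k ∈ S.K, ∀ j, (Φ.W j).map k.1.toLinearMap = Ψ.W j := fun Ψ => by
    obtain ⟨g, c, h⟩ := tr _ _ Φ Ψ S.hr (Nat.succ_pos _)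
    obtain ⟨k, hk, b, hb, e⟩ := dc g
    refine ⟨k, hk, fun j => ?_⟩
    rw [← sm_of (Φ := Φ.map g) c h j, map_W, e, mul_one, map_mul', ev_W hb]
  intro Φ₁ Φ₂
  obtain ⟨k₁, hk₁, e₁⟩ := key Φ₁
  obtain ⟨k₂, hk₂, e₂⟩ := key Φ₂
  refine ⟨k₂ * k₁⁻¹, mul_mem hk₂ (inv_mem hk₁), fun j => ?_⟩
  rw [map_W, ← e₁, ← map_mul', inv_mul_cancel_right, e₂]

section Gl

variable {S : HS} {r : ℕ} (Φ : Fr S (r + 3))

theorem W0 {v : S.V} (h : v ∈ Φ.W 0) : v = 0 := by simpa [Fr.W] using h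

theorem W1 {v : S.V} (h : v ∈ Φ.W 1) : ∃ c : S.F, c • Φ.e 0 = v := by
  refine Submodule.mem_span_singleton.1 (Submodule.span_mono ?_ h)
  rintro _ ⟨i, hi, rfl⟩
  exact congrArg Φ.e (Fin.ext (Nat.lt_one_iff.1 hi))

theorem W2 {v : S.V} (h : v ∈ Φ.W 2) : ∃ a b : S.F, a • Φ.e 0 + b • Φ.e 1 = v := by
  refine Submodule.mem_span_pair.1 (Submodule.span_mono ?_ h)
  rintro _ ⟨i, hi, rfl⟩
  obtain h | h : i.1 = 0 ∨ i.1 = 1 := by have : i.1 < 2 := hi; omega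
  exacts [.inl (congrArg Φ.e (Fin.ext h)), .inr (congrArg Φ.e (Fin.ext h))]

theorem W3 : Φ.W 3 ≤ Submodule.span S.F {Φ.e 0, Φ.e 1, Φ.e 2} := by
  refine Submodule.span_mono ?_
  rintro _ ⟨i, hi, rfl⟩
  obtain h | h | h : i.1 = 0 ∨ i.1 = 1 ∨ i.1 = 2 := by have : i.1 < 3 := hi; omega
  exacts [.inl (congrArg Φ.e (Fin.ext h)), .inr (.inl (congrArg Φ.e (Fin.ext h))),
    .inr (.inr (congrArg Φ.e (Fin.ext h)))]

theorem ev01 {g : S.G} {a : Fin (r + 3) → S.Fˣ} (h : Φ.Ev g a) :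
    g.1 (Φ.e 0) = (a 0 : S.F) • Φ.e 0 ∧ ∃ c : S.F, g.1 (Φ.e 1) = (a 1 : S.F) • Φ.e 1 + c • Φ.e 0 := by
  refine ⟨sub_eq_zero.1 (W0 Φ (h 0)), ?_⟩
  obtain ⟨c, hc⟩ := W1 Φ (h 1)
  exact ⟨c, by rw [hc]; abel⟩

end Gl

theorem sym {S : HS} {x y : S.V} (h : S.B x y = 0) : S.B y x = 0 := by
  rw [← S.h.symm, h, map_zero]

theorem pe1 (S : HS) : PE (1 : S.G) := ⟨0, one_pow _⟩

theorem gn_ne (S : KS) : ¬ Gn (1 : S.F) := fun h => by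
  rcases h (AddSubgroup.zmultiples 1) (fun y hy => by rwa [one_mul]) with h | h
  · exact one_ne_zero (AddSubgroup.mem_bot.1 (h ▸ AddSubgroup.mem_zmultiples (1 : S.F)))
  · have c := Nat.card_zmultiples (1 : S.F)
    rw [h, AddSubgroup.card_top, Nat.card_eq_fintype_card, S.hF] at c
    haveI := CharP.addOrderOf_one S.F
    have := CharP.char_is_prime S.F (addOrderOf (1 : S.F))
    rw [← c] at this
    exact absurd this.eq_one_of_pow (by decide)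

theorem fr2 (ch : JobCh) (S : KS) {x y : S.V} (h : S.TI x y) :
    ∃ Φ : S.Fm, Φ.e 0 = x ∧ Φ.e 1 = y := by
  obtain ⟨Φ, hΦ, -⟩ := ch S.toHS _ 1 S.hr (pe1 _) 2 (by omega) ![x, y]
    (fun i j => by
      fin_cases i <;> fin_cases j
      exacts [h.1.2, h.2.2.1, sym h.2.2.1, h.2.1])
    ((LinearIndependent.pair_iff' h.1.1).2 fun c e => h.2.2.2 c e.symm) (fun i => by simp)
  exact ⟨Φ, hΦ 0, hΦ 1⟩

theorem fr3 (ch : JobCh) (S : KS) {x y z : S.V} (h : S.TI3 x y z) :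
    ∃ Φ : S.Fm, Φ.e 0 = x ∧ Φ.e 1 = y ∧ Φ.e 2 = z := by
  obtain ⟨Φ, hΦ, -⟩ := ch S.toHS _ 1 S.hr (pe1 _) 3 (by omega) ![x, y, z]
    (fun i j => by
      fin_cases i <;> fin_cases j
      exacts [h.1.1.2, h.1.2.2.1, h.2.2.1, sym h.1.2.2.1, h.1.2.1, h.2.2.2.1, sym h.2.2.1,
        sym h.2.2.2.1, h.2.1])
    (Fintype.linearIndependent_iff.2 fun g e => by
      rw [Fin.sum_univ_three] at e
      change g 0 • x + g 1 • y + g 2 • z = 0 at e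
      have h2 : g 2 = 0 := by
        by_contra k
        refine h.2.2.2.2 (-(g 0 / g 2)) (-(g 1 / g 2)) (smul_right_injective _ k ?_)
        simp only [smul_add, smul_smul, mul_neg, mul_div_cancel₀ _ k]
        linear_combination (norm := module) e
      rw [h2, zero_smul, add_zero] at e
      have := LinearIndependent.pair_iff.1
        ((LinearIndependent.pair_iff' h.1.1.1).2 fun c e => h.1.2.2.2 c e.symm) _ _ e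
      intro i
      fin_cases i
      exacts [this.1, this.2, h2]) (fun i => by simp)
  exact ⟨Φ, hΦ 0, hΦ 1, hΦ 2⟩

theorem jobGl1 : JobCh → JobFD → JobGl1 := by
  intro ch fd S ag
  refine ⟨fun x y h => ?_, fun x y h => ?_, fun x y z h => ?_⟩
  · obtain ⟨Φ, rfl, rfl⟩ := fr2 ch S h
    obtain ⟨d, ⟨k, hk, e⟩, g⟩ := (ag Φ).1
    obtain ⟨e0, c, e1⟩ := ev01 Φ e
    exact ⟨k, hk, d 0, d 1, c, e0, e1, g⟩
  · obtain ⟨Φ, rfl, rfl⟩ := fr2 ch S h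
    obtain ⟨d, hd, g⟩ := (ag Φ).2.1
    obtain ⟨Ψ, sm, hΨ⟩ := fd S.toHS _ Φ S.K S.hr
    obtain ⟨t, ht, dg⟩ := hΨ d hd
    obtain ⟨s, hs⟩ := W1 Φ (sm 1 ▸ Ψ.e_mem_W (i := 0) Nat.one_pos)
    obtain ⟨s', hs'⟩ := W1 Ψ ((sm 1).symm ▸ Φ.e_mem_W (i := 0) Nat.one_pos)
    obtain ⟨a, b, hy⟩ := W2 Ψ ((sm 2).symm ▸ Φ.e_mem_W (i := 1) Nat.one_lt_two)
    have e : Φ.e 1 + (-(a * s)) • Φ.e 0 = b • Ψ.e 1 := by rw [← hy, ← hs]; module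
    refine ⟨t, ht, d 0, d 1, -(a * s), ?_, ?_, g⟩
    · rw [← hs', map_smul, dg.1, smul_comm]
    · rw [e, map_smul, dg.1, smul_comm]
  · obtain ⟨Φ, rfl, rfl, rfl⟩ := fr3 ch S h
    obtain ⟨d, ⟨k, hk, e⟩, g⟩ := (ag Φ).1
    obtain ⟨e0, c, e1⟩ := ev01 Φ e
    refine ⟨k, hk, d 0, d 1, c, e0, e1, fun h => gn_ne S ?_,
      W3 Φ (e.map_W 3 (Φ.e_mem_W (i := 2) (Nat.lt_succ_self 2)))⟩
    rwa [h, div_self', Units.val_one] at g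

end H89.KUM
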