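import Cfsg.Agent.H57.U2CSpec

/-! # DPV-C3: the last case of the central pair -/

set_option autoImplicit false

namespace H89.DPVC3

open Subgroup Cfsg H98 H96 H97 H48.DP H57.DPC H48.DP2 H96.U2I H57.U2C
open scoped commutatorElement

universe u

theorem mem_zp {G : Type u} [Group G] {z x : G} (h : z ^ 2 = 1) (hx : x ∈ zpowers z) :
    x = 1 ∨ x = z := by
  obtain ⟨i, rfl⟩ := hx
  have h2 : z ^ (2 : ℤ) = 1 := by rw [← h]; exact zpow_natCast z 2
  obtain ⟨j, rfl | rfl⟩ := Int.even_or_odd' i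
  · left
    change z ^ (2 * j) = 1
    rw [zpow_mul, h2, one_zpow]
  · right
    change z ^ (2 * j + 1) = z
    rw [zpow_add_one, zpow_mul, h2, one_zpow, one_mul]

theorem jobC3 : JobC3.{u} := by
  intro _ c1 c2 G _ _ M K F U M' K' F' U' z z' h h' ti hU hU' _
  by_cases a : z ∈ U'
  · exact c2 G M K F U M' K' F' U' z z' h h' ti hU hU' a
  by_cases b : z' ∈ U
  swap
  · exact c1 G M K F U M' K' F' U' z z' h h' ti hU hU' ⟨a, b⟩
  have k := c2 G M' K' F' U' M K F U z' z h' h (fun e x y => ti e y x) hU' hU b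
  intro x hx
  refine mem_stab.2 ⟨centralizer_le_normalizer _ ?_, fun c hc => ?_⟩
  · rintro _ ⟨i, rfl⟩
    exact ((show Commute x z' from mem_centralizer_singleton_iff.1 (h'.Kz (hU hx))).symm.zpow_left i).eq
  · have h1 : ⁅x, c⁆ ∈ zpowers z := (mem_stab.1 (k hc)).2 x hx
    have h2 : ⁅x, c⁆ ∈ U' :=
      mul_mem (conj_mem_of_mem_normalizer (h'.KU (hU hx)) hc) (inv_mem hc)
    rcases mem_zp (h.ea.2 z h.zU) h1 with e | e
    · rw [← commutatorElement_inv, e, inv_one]
      exact one_mem _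
    · exact absurd (e ▸ h2) a

end H89.DPVC3
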