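import Cfsg.Agent.H10.FH2
import Cfsg.Agent.H63.A8Def

/-! A8S, fact FH for `SL₄(2)`. -/

set_option autoImplicit false

namespace H89.A8FH

open H64.SG (O2 Syl Cz Cs Ns cjs Is2 Inv2 IsO2 fx)
open H67.SA H29.SA Matrix H57 Subgroup H10.FH H63.A8
open scoped commutatorElement

variable {n : ℕ} {F : Type} [Field F] [Finite F] [CharP F 2]

theorem invc_cz8 (hn : 2 ≤ n) (hB : FB8 n F) {s : SLn n F} (hs : s * s = 1) : Invc (Cz s) := by
  have n0 : (0 : Fin (n + 1)) ≠ la n := zero_ne_la (by omega)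
  have h01 : (0 : Fin (n + 1)) ≠ ⟨1, by omega⟩ := by simp [Fin.ext_iff]
  have h1n : (⟨1, by omega⟩ : Fin (n + 1)) ≠ la n := by simp [Fin.ext_iff]; omega
  have hw : Inv2 (x 0 (la n) (1 : F)) := ⟨x_mul_self _ _ _, by simp [x_eq_one n0]⟩
  have root : ∀ c : F, Invc (Cz (x 0 (la n) c)) := fun c =>
    ⟨_, by
      rw [← mul_one (1 : F), ← x_cm h01 h1n n0]
      exact commutator_mem_commutator
        (mem_centralizer_singleton_iff.2 (x_comm h01.symm n0 _ _))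
        (mem_centralizer_singleton_iff.2 (x_comm n0.symm h1n _ _)), hw⟩
  by_cases h1 : s = 1
  · exact Invc.map (e := MonoidHom.id _) Function.injective_id
      (fun c _ => mem_centralizer_singleton_iff.2 (by simp [h1])) (root 0)
  obtain ⟨h, k, k1, k2, e⟩ := hB.ic s ⟨hs, h1⟩
  have : s = h⁻¹ * xk F n k * h⁻¹⁻¹ := by rw [← e]; group
  rw [this]
  refine invc_cz_conj _ ?_
  by_cases hr : Root (xk F n k)
  · obtain ⟨h', c, -, e'⟩ := hr
    exact e' ▸ invc_cz_conj _ (root c)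
  obtain ⟨q1, q2, q3, -⟩ := hB.qk k k1 k2
  have hq : x 0 (la n) (1 : F) ∈ Qk n F k :=
    Ml_le_Qk k (x_mem_Pat (by simp; omega) _)
  by_cases hc : x 0 (la n) (1 : F) ∈ Cs (Cz (xk F n k))
  · obtain ⟨c, hc⟩ := isConj_iff.1 (hB.g4 _ _ (inv2_xk k1 k2) hr hw hc).symm
    exact (hr ⟨c, 1, one_ne_zero, hc.symm⟩).elim
  obtain ⟨c, c1, c2⟩ : ∃ c ∈ Cz (xk F n k), c * x 0 (la n) 1 ≠ x 0 (la n) 1 * c := by
    by_contra! h
    exact hc (mem_centralizer_iff.2 h)
  refine invc_of_is2 (commutator_mem_commutator c1 (q1 hq)) ?_ fun h => c2 (cm_eq_one.1 h)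
  obtain ⟨a, ha⟩ := q3 ⟨_, mul_mem ((mem_normalizer_iff.1 (q2 c1) _).1 hq) (inv_mem hq)⟩
  exact ⟨a, congrArg Subtype.val ha⟩

theorem con_inner8 (hn : 2 ≤ n) (hB : FB8 n F) {β : Au n F} (h : β * β = 1)
    (ho : out n F β = 1) : H10.FH.Con β := by
  obtain ⟨s, ⟨k, hk⟩, rfl⟩ := inner_of_out hn ho ⟨1, by rw [pow_one, sq, h]⟩
  have hs : s * s = 1 := conj_inj ⟨k, by rw [← sq, ← pow_mul, mul_comm, pow_mul, hk, one_pow]⟩
    ⟨0, one_pow _⟩ (by rw [map_mul, h, map_one])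
  have e : fx (MulAut.conj s) = Cz s := Subgroup.ext fun c => by
    rw [mem_centralizer_singleton_iff]
    exact mul_inv_eq_iff_eq_mul.trans eq_comm
  rw [H10.FH.Con, e]
  exact ⟨invc_cz8 hn hB hs, Or.inl (hB.big s hs)⟩

theorem invc_s6 : Invc (⊤ : Subgroup (Equiv.Perm (Fin 6))) :=
  ⟨_, commutator_mem_commutator (mem_top (Equiv.swap 0 2 * Equiv.swap 1 3))
    (mem_top (Equiv.swap 0 1)), by decide, by decide⟩

theorem jobFH (B : J8FB) : J8FH := by
  intro n F _ _ _ hp β h2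
  have hn := hp.two_le
  have hB := B n F hp
  by_cases ho : out n F β = 1
  · exact con_inner8 hn hB h2 ho
  have triv : ∀ σ : RingAut F, σ = 1 := fun σ => RingEquiv.ext fun c => by
    rcases hp.fld c with rfl | rfl <;> simp
  rcases rep hn h2 ho with ⟨σ, s1, s2, e⟩ | ⟨J, rfl⟩ | ⟨σ, s1, s2, e⟩
  · exact (s1 (triv σ)).elim
  · have h3 := hp.three
    have hl : n + 1 = 2 + 2 := by omega
    refine ⟨?_, Or.inl (big_gr_even h2 ⟨2, hl⟩)⟩
    rcases (fx_gr h2).2 2 (by omega) with ⟨⟨e⟩⟩ | ⟨r, hr, ⟨e⟩⟩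
    · cases nonempty_fintype F
      obtain ⟨e'⟩ := Cfsg.Agent.S0247.result (F := F) (Nat.card_eq_fintype_card.symm.trans hp.two)
      exact Invc.map (e := (fx (gr J)).subtype.comp (e.trans e').symm.toMonoidHom)
        (Subtype.val_injective.comp (e.trans e').symm.injective)
        (by rintro _ ⟨a, -, rfl⟩; exact ((e.trans e').symm a).2) invc_s6
    · obtain ⟨y, y1, y2, y3⟩ := invc_tv (by omega) hr
      rw [← map_subtype_commutator] at y1
      obtain ⟨y, y1, rfl⟩ := y1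
      exact Invc.map (e := (fx (gr J)).subtype.comp e.symm.toMonoidHom)
        (Subtype.val_injective.comp e.symm.injective) (by rintro _ ⟨a, -, rfl⟩; exact (e.symm a).2)
        ⟨y, y1, Subtype.ext y2, fun h => y3 (congrArg Subtype.val h)⟩
  · exact (s1 (triv σ)).elim

end H89.A8FH
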