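import Cfsg.Agent.H63.KgvSpec
import Cfsg.Agent.H33.Ind

set_option autoImplicit false

namespace H89.KgvSm

open Finset Cfsg H63.Kgv

universe u

theorem isGen_lin {E : Type u} [Group E] (f : E → ℂ) (hm : ∀ a b, f (a * b) = f a * f b)
    (h1 : f 1 = 1) : IsGeneralizedCharacter E f := by
  refine ⟨f, 0, ⟨1, { toFun := fun g => f g • LinearMap.id
                      map_one' := by rw [h1, one_smul]; rfl
                      map_mul' := fun a b => by
                        rw [hm, smul_mul_smul_comm]; rfl }, ?_⟩,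
    ⟨0, 1, ?_⟩, by simp⟩
  · funext g
    simp [Representation.character]
  · funext g
    simp [Representation.character]

theorem ind_two {E : Type u} [Group E] [Fintype E] (H : Subgroup E) [hN : H.Normal] (x : E)
    (hi : H.index = 2) (hx : x ∉ H) (θ : H → ℂ)
    (hθ : ∀ (k h : H), θ (k * h * k⁻¹) = θ h) (h : H) :
    indFun H θ h = θ h + θ (MulAut.conjNormal x h) := by
  classical
  rw [H33.indFun_normal_apply]
  have hc : (Nat.card H : ℂ) ≠ 0 := by exact_mod_cast (Nat.card_pos (α := H)).ne'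
  rw [← Finset.sum_filter_add_sum_filter_not univ (fun y : E => y ∈ H)]
  have e1 : ∀ y ∈ univ.filter (fun y : E => y ∈ H),
      θ ⟨y * h * y⁻¹, hN.conj_mem (h : E) h.2 y⟩ = θ h := fun y hy => by
    have hy' : y ∈ H := (mem_filter.1 hy).2
    exact hθ ⟨y, hy'⟩ h
  have e2 : ∀ y ∈ univ.filter (fun y : E => ¬ y ∈ H),
      θ ⟨y * h * y⁻¹, hN.conj_mem (h : E) h.2 y⟩ = θ (MulAut.conjNormal x h) := fun y hy => by
    have hy' : y ∉ H := (mem_filter.1 hy).2
    have hk : y * x⁻¹ ∈ H := by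
      rw [Subgroup.mul_mem_iff_of_index_two hi]; simp [hy', hx]
    rw [← hθ ⟨y * x⁻¹, hk⟩ (MulAut.conjNormal x h)]
    congr 1
    apply Subtype.ext
    simp [MulAut.conjNormal_apply, mul_assoc]
  rw [Finset.sum_congr rfl e1, Finset.sum_congr rfl e2, sum_const, sum_const]
  have c1 : (univ.filter (fun y : E => y ∈ H)).card = Nat.card H := by
    rw [Nat.card_eq_fintype_card, Fintype.card_subtype]
  have c2 : (univ.filter (fun y : E => ¬ y ∈ H)).card = Nat.card H := by
    have h3 := Finset.card_filter_add_card_filter_not (s := (univ : Finset E)) (fun y : E => y ∈ H)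
    have h4 := H.card_mul_index
    rw [hi, Nat.card_eq_fintype_card (α := E)] at h4
    rw [card_univ, c1] at h3
    omega
  rw [c1, c2, nsmul_eq_mul, nsmul_eq_mul]
  field_simp

theorem split (q : ℕ) (hq : 2 ≤ q) (F : ℕ → ℂ) :
    ∑ j ∈ range (q ^ 2 - 1), F j =
      ∑ j ∈ (range (q ^ 2 - 1)).filter (fun j => j < q * j % (q ^ 2 - 1)),
        (F j + F (q * j % (q ^ 2 - 1))) + ∑ i ∈ range (q - 1), F ((q + 1) * i) := by
  obtain ⟨s, rfl⟩ : ∃ s, q = s + 1 := ⟨q - 1, by omega⟩
  have hN : (s + 1) ^ 2 - 1 = (s + 2) * s := by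
    have : (s + 1) ^ 2 = (s + 2) * s + 1 := by ring
    omega
  rw [hN, Nat.add_sub_cancel]
  set N := (s + 2) * s with hNd
  have hs : 0 < s := by omega
  have hN0 : 0 < N := by positivity
  have inv : ∀ j < N, (s + 1) * ((s + 1) * j % N) % N = j := fun j hj => by
    rw [Nat.mul_mod_mod]
    have : (s + 1) * ((s + 1) * j) = j + N * j := by rw [hNd]; ring
    rw [this, Nat.add_mul_mod_self_left, Nat.mod_eq_of_lt hj]
  rw [← Finset.sum_filter_add_sum_filter_not (range N) (fun j => j < (s + 1) * j % N),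
    ← Finset.sum_filter_add_sum_filter_not
      ((range N).filter fun j => ¬ j < (s + 1) * j % N) (fun j => (s + 1) * j % N < j),
    sum_add_distrib, add_assoc]
  congr 2
  · refine Finset.sum_bij' (fun j _ => (s + 1) * j % N) (fun j _ => (s + 1) * j % N) ?_ ?_ ?_ ?_ ?_
    · intro j hj
      simp only [mem_filter, mem_range] at hj ⊢
      refine ⟨Nat.mod_lt _ hN0, ?_⟩
      rw [inv j hj.1.1]; exact hj.2
    · intro j hj
      simp only [mem_filter, mem_range] at hj ⊢
      rw [inv j hj.1]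
      exact ⟨⟨Nat.mod_lt _ hN0, by omega⟩, hj.2⟩
    · intro j hj
      simp only [mem_filter, mem_range] at hj
      exact inv j hj.1.1
    · intro j hj
      simp only [mem_filter, mem_range] at hj
      exact inv j hj.1
    · intro j hj
      simp only [mem_filter, mem_range] at hj
      rw [inv j hj.1.1]
  · symm
    refine Finset.sum_bij (fun i _ => (s + 1 + 1) * i) ?_ ?_ ?_ ?_
    · intro i hi
      simp only [mem_filter, mem_range] at hi ⊢
      have h1 : (s + 1 + 1) * i < N := Nat.mul_lt_mul_of_pos_left hi (by omega)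
      have h2 : (s + 1) * ((s + 1 + 1) * i) % N = (s + 1 + 1) * i := by
        have : (s + 1) * ((s + 1 + 1) * i) = (s + 1 + 1) * i + N * i := by rw [hNd]; ring
        rw [this, Nat.add_mul_mod_self_left, Nat.mod_eq_of_lt h1]
      rw [h2]
      exact ⟨⟨h1, lt_irrefl _⟩, lt_irrefl _⟩
    · intro i _ k _ h
      exact Nat.eq_of_mul_eq_mul_left (by omega) h
    · intro j hj
      simp only [mem_filter, mem_range] at hj
      have h1 : (s + 1) * j % N = j := by omega
      have h2 := Nat.div_add_mod ((s + 1) * j) N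
      rw [h1] at h2
      have h3 : s * j = s * ((s + 1 + 1) * ((s + 1) * j / N)) := by
        have : N * ((s + 1) * j / N) = s * ((s + 1 + 1) * ((s + 1) * j / N)) := by rw [hNd]; ring
        rw [← this]
        have : (s + 1) * j = s * j + j := by ring
        omega
      have h4 := Nat.eq_of_mul_eq_mul_left hs h3
      refine ⟨(s + 1) * j / N, mem_range.2 ?_, h4.symm⟩
      have h5 : (s + 2) * ((s + 1) * j / N) < (s + 2) * s := by
        have := hj.1.1
        rw [h4] at this
        exact this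
      exact Nat.lt_of_mul_lt_mul_left h5
    · intro i _
      rfl

theorem job : JSM.{u} := by
  intro gc p _ E _ _ H hN q x φ a b Γ hq hi hx hm h1 hc ha hb hΓ1 hΓ2
  classical
  obtain ⟨g1, g2, g3, g4, -, g6, g7, g8⟩ := gc p E
  obtain ⟨-, -, -, k4, -, -, -, k8⟩ := gc p H
  have hpow : ∀ (h : H) (n : ℕ), φ (h ^ n) = φ h ^ n := fun h n => by
    induction n with
    | zero => simpa using h1
    | succ n ih => rw [pow_succ, hm, ih, pow_succ]
  have hinv : ∀ k : H, φ k * φ k⁻¹ = 1 := fun k => by rw [← hm, mul_inv_cancel, h1]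
  have hcl : ∀ k h : H, φ (k * h * k⁻¹) = φ h := fun k h => by
    rw [hm, hm, mul_right_comm, hinv, one_mul]
  have hout : ∀ y, y ∉ H → ∀ h : H, φ (MulAut.conjNormal y h) = φ h ^ q := fun y hy h => by
    have hk : y * x⁻¹ ∈ H := by
      rw [Subgroup.mul_mem_iff_of_index_two hi]; simp [hy, hx]
    rw [hc, ← hcl ⟨y * x⁻¹, hk⟩ (MulAut.conjNormal x h)]
    congr 1
    apply Subtype.ext
    simp [MulAut.conjNormal_apply, mul_assoc]
  have hsq : ∀ y : E, y ^ 2 ∈ H := fun y => Subgroup.sq_mem_of_index_two hi y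
  have hqq : ∀ h : H, φ h ^ (q ^ 2 - 1) = 1 := fun h => by
    have e : φ h ^ (q ^ 2) = φ h := by
      rw [sq, pow_mul, hc, hc, ← hcl ⟨x ^ 2, hsq x⟩ h]
      congr 1
      apply Subtype.ext
      simp [MulAut.conjNormal_apply, mul_assoc, sq]
    have h0 : φ h ≠ 0 := left_ne_zero_of_mul_eq_one (hinv h)
    have e2 : q ^ 2 = q ^ 2 - 1 + 1 := by
      have : 0 < q ^ 2 := by positivity
      omega
    rw [e2, pow_succ] at e
    exact mul_right_cancel₀ h0 (by rw [e, one_mul])
  let lam : E → ℂ := fun y => if hy : y ∈ H then φ ⟨y, hy⟩ ^ (q + 1) else φ ⟨y ^ 2, hsq y⟩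
  have l1 : ∀ h : H, lam h = φ h ^ (q + 1) := fun h => by simp only [lam, h.2, dif_pos]
  have l2 : ∀ y, y ∉ H → lam y = φ ⟨y ^ 2, hsq y⟩ := fun y hy => by simp only [lam, hy, dif_neg, not_false_iff]
  have lm : ∀ y z, lam (y * z) = lam y * lam z := fun y z => by
    by_cases hy : y ∈ H <;> by_cases hz : z ∈ H
    · have := l1 (⟨y, hy⟩ * ⟨z, hz⟩)
      rw [hm, mul_pow, ← l1, ← l1] at this
      exact this
    · have hyz : y * z ∉ H := by rw [Subgroup.mul_mem_iff_of_index_two hi]; simp [hy, hz]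
      rw [l2 _ hyz, l2 _ hz, show lam y = _ from l1 ⟨y, hy⟩, pow_succ' (φ _), ← hout z hz, ← hm, ← hm]
      congr 1
      apply Subtype.ext
      simp [MulAut.conjNormal_apply, mul_assoc, sq]
    · have hyz : y * z ∉ H := by rw [Subgroup.mul_mem_iff_of_index_two hi]; simp [hy, hz]
      rw [l2 _ hyz, l2 _ hy, show lam z = _ from l1 ⟨z, hz⟩, pow_succ (φ _), ← hout y hy, mul_left_comm,
        ← hm, ← hm]
      congr 1
      apply Subtype.ext
      simp [MulAut.conjNormal_apply, mul_assoc, sq]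
    · have hyz : y * z ∈ H := by rw [Subgroup.mul_mem_iff_of_index_two hi]; simp [hy, hz]
      have hzy : z * y⁻¹ ∈ H := by rw [Subgroup.mul_mem_iff_of_index_two hi]; simp [hy, hz]
      have e1 : φ (MulAut.conjNormal y ⟨y * z, hyz⟩) = φ ⟨y ^ 2, hsq y⟩ * φ ⟨z * y⁻¹, hzy⟩ := by
        rw [← hm]; congr 1; apply Subtype.ext
        simp [MulAut.conjNormal_apply, mul_assoc, sq]
      have e2 : φ ⟨y * z, hyz⟩ * φ ⟨z * y⁻¹, hzy⟩ = φ ⟨z ^ 2, hsq z⟩ := by
        have e3 : φ (MulAut.conjNormal z ⟨z ^ 2, hsq z⟩) = φ ⟨z ^ 2, hsq z⟩ := by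
          congr 1; apply Subtype.ext
          simp [MulAut.conjNormal_apply, mul_assoc, sq]
        rw [← e3, hout z hz, ← hout y hy, ← hm]
        congr 1; apply Subtype.ext
        simp [MulAut.conjNormal_apply, mul_assoc, sq]
      rw [show lam (y * z) = _ from l1 ⟨y * z, hyz⟩, l2 _ hy, l2 _ hz, pow_succ (φ _), ← hout y hy, e1,
        mul_assoc, mul_comm (φ ⟨z * y⁻¹, hzy⟩), e2]
  have lo : lam 1 = 1 := by
    have := l1 1
    rw [h1, one_pow] at this
    exact this
  let S := (range (q ^ 2 - 1)).filter (fun j => j < q * j % (q ^ 2 - 1))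
  have A : Good p H fun t h => ∑ j ∈ S, ee p (t * a j) * φ h ^ j :=
    (k8 ℕ S (fun j t h => ee p (t * a j) * φ h ^ j) fun j _ =>
      k4 (fun h => φ h ^ j) (a j)
        (isGen_lin _ (fun u v => by rw [hm, mul_pow]) (by rw [h1, one_pow]))).1
  have B : Good p E fun t y => ∑ i ∈ range (q - 1), ee p (t * (2 * b i)) * lam y ^ i :=
    (g8 ℕ (range (q - 1)) (fun i t y => ee p (t * (2 * b i)) * lam y ^ i) fun i _ =>
      g4 (fun y => lam y ^ i) (2 * b i)
        (isGen_lin _ (fun u v => by rw [lm, mul_pow]) (by rw [lo, one_pow]))).1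
  refine g1 _ _ (g3 _ _ (g6 (-1)) (g2 _ _ (g7 H _ A) B)) fun t _ y => ?_
  by_cases hy : y ∈ H
  · obtain ⟨h, rfl⟩ : ∃ h : H, (h : E) = y := ⟨⟨y, hy⟩, rfl⟩
    rw [hΓ1, ind_two H x hi hx _ (fun k h => by simp only [hcl]), split q hq, l1, ← hc,
      ← sum_add_distrib]
    push_cast
    rw [neg_one_mul]
    congr 2
    · refine sum_congr rfl fun j _ => ?_
      rw [ha, ← pow_mul, ← pow_eq_pow_mod _ (hqq h)]
    · refine sum_congr rfl fun i _ => ?_
      rw [hb, ← pow_mul]
  · rw [hΓ2 t y ⟨y ^ 2, hsq y⟩ hy rfl, H33.indFun_eq_zero_of_not_mem H _ hy, l2 y hy, zero_add]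
    push_cast
    rw [neg_one_mul]
    congr 1
    refine sum_congr rfl fun i _ => ?_
    rw [show 2 * t * b i = t * (2 * b i) by ring]

end H89.KgvSm
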