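import Cfsg.Agent.H86.SPODef

/-! STD-SP endgame, orthogonal model, slot QN. -/

set_option autoImplicit false
set_option linter.unusedSectionVars false

namespace H89.SPOQN

open H64.YE (QS NA)
open H59.SO (Om NN)
open Module Subgroup H86.SPO

theorem jobQN : JobQN := by
  intro na n F _ _ _ _ _ _ b c o V _ _ _ Q ι r w d k
  have fa := d.fa
  haveI : Finite V := Module.finite_of_finite F
  haveI : Finite (Om Q) := Finite.of_injective (fun g : Om Q => (g.1 : V → V)) fun _ _ h =>
    Subtype.ext (DFunLike.coe_injective h)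
  haveI := fa.simple
  have cb : center (Om Q) = ⊥ := eq_bot_iff.2 fun g hg => fa.cen g (MulEquiv.ext fun x => by
    rw [MulAut.conj_apply, ← mem_center_iff.1 hg x, mul_inv_cancel_right]; rfl)
  let e : (Om Q ⧸ center (Om Q)) ≃* Om Q :=
    (QuotientGroup.quotientMulEquivOfEq cb).trans QuotientGroup.quotientBot
  refine ⟨⟨?_, by rw [cb, card_bot]; exact odd_one, fun N hN =>
    hN.eq_bot_or_eq_top.imp_left fun h => h.le.trans bot_le, fun β => ?_,
    fun β h h2 => fa.a3 β h2 (Or.inr h)⟩, fun m => ⟨fun f => ?_⟩⟩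
  · refine (inferInstance : (commutator (Om Q)).Normal).eq_bot_or_eq_top.resolve_left fun h => ?_
    obtain ⟨a, ha⟩ := exists_ne (1 : Om Q)
    refine ha (mem_bot.1 (cb ▸ mem_center_iff.2 fun x => ?_))
    exact commutatorElement_eq_one_iff_mul_comm.1
      (mem_bot.1 (h ▸ commutator_mem_commutator (mem_top x) (mem_top a)))
  · have he : ∀ g : Om Q, e.symm g = (g : Om Q ⧸ center (Om Q)) := fun g => e.symm_apply_eq.2 rfl
    refine ⟨(e.symm.trans β).trans e, MulEquiv.ext fun a => ?_⟩
    obtain ⟨g, rfl⟩ := QuotientGroup.mk_surjective a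
    rw [H57.quotCenterAut_mk, ← he, ← he]
    simp
  · refine (na (Om Q) r.U d.lie r.syl.2.1 ?_ m).false (e.symm.trans f)
    rw [fa.card _ r.syl]
    have h8 := d.par.dim
    have ev := d.par.toPar0.even
    by_cases h : finrank F V = 8
    · have h4 := d.par.four h
      rw [NN, h]
      exact le_trans (by norm_num) (Nat.pow_le_pow_left h4 _)
    · obtain ⟨j, hj⟩ := ev
      have h2 : 2 ≤ Nat.card F := Finite.one_lt_card
      have : 5 * 4 ≤ NN Q := Nat.mul_le_mul (by omega) (by omega)
      exact (Nat.pow_le_pow_right (by norm_num) this).trans (Nat.pow_le_pow_left h2 _)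

end H89.SPOQN
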