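import Cfsg.Agent.H89.ON2Spec

/-! Small facts on the Sylow data of the ON2 tower. -/

set_option autoImplicit false
set_option linter.unusedSectionVars false

namespace H89.ON2

open MulAction Cfsg Subgroup H89.K H98

/-- A product of two subgroups which commute elementwise and meet trivially. -/
theorem card_sup_of_dec {G : Type*} [Group G] {A C : Subgroup G}
    (dec : ∀ x ∈ A ⊔ C, ∃ u ∈ A, ∃ v ∈ C, x = u * v) (h1 : ∀ v ∈ C, v ∈ A → v = 1) :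
    Nat.card ↥(A ⊔ C) = Nat.card A * Nat.card C := by
  rw [← Nat.card_prod]
  refine (Nat.card_congr (Equiv.ofBijective (fun x : A × C =>
    (⟨x.1 * x.2, mul_mem_sup x.1.2 x.2.2⟩ : ↥(A ⊔ C))) ⟨?_, ?_⟩)).symm
  · rintro ⟨u, v⟩ ⟨u', v'⟩ e
    have e : (u : G) * v = u' * v' := congrArg Subtype.val e
    have : (v : G) * (v' : G)⁻¹ = 1 := h1 _ (mul_mem v.2 (inv_mem v'.2)) (by
      have : (v : G) * (v' : G)⁻¹ = (u : G)⁻¹ * u' := by
        rw [eq_inv_mul_iff_mul_eq, ← mul_assoc, e, mul_inv_cancel_right]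
      exact this ▸ mul_mem (inv_mem u.2) u'.2)
    rw [mul_inv_eq_one] at this
    rw [this, mul_left_inj] at e
    exact Prod.ext (Subtype.ext e) (Subtype.ext this)
  · rintro ⟨x, hx⟩
    obtain ⟨u, hu, v, hv, rfl⟩ := dec x hx
    exact ⟨(⟨u, hu⟩, ⟨v, hv⟩), rfl⟩

namespace S2

variable {G Ω : Type*} [Group G] [MulAction G Ω] {N : Ω → Subgroup G} {a b : Ω}
  {R R' P : Subgroup G} {s : G} (d : S2 N a b R R' P s)
include d

theorem tI : TI N := d.toEv.toTI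

theorem mR {r : G} (h : r ∈ R) : r ∈ X N a b := d.sylR.le h

theorem mR' {l : G} (h : l ∈ R') : l ∈ X N b a := d.sylR'.le h

theorem mP {w : G} (h : w ∈ P) : w ∈ N a := d.sylP.le h

theorem rB {r : G} (h : r ∈ R) : r ∈ R ⊔ R' := mem_sup_left h

theorem lB {l : G} (h : l ∈ R') : l ∈ R ⊔ R' := mem_sup_right h

theorem BT : R ⊔ R' ≤ P ⊔ R' := sup_le_sup_right d.le _

theorem TG : P ⊔ R' ≤ N a ⊔ R' := d.sylT.le

theorem G_stab : N a ⊔ R' ≤ stabilizer G a :=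
  sup_le (d.tI.le_stab a) fun _ h => (d.mR' h).2

theorem cRL {r l : G} (hr : r ∈ R) (hl : l ∈ R') : r * l = l * r :=
  d.abB _ (d.rB hr) _ (d.lB hl)

theorem cRR {r r' : G} (hr : r ∈ R) (hr' : r' ∈ R) : r * r' = r' * r :=
  d.abB _ (d.rB hr) _ (d.rB hr')

theorem cLL {l l' : G} (hl : l ∈ R') (hl' : l' ∈ R') : l * l' = l' * l :=
  d.abB _ (d.lB hl) _ (d.lB hl')

theorem l_one {l : G} (hl : l ∈ R') (h : l ∈ N a) : l = 1 := d.ti d.hab l h (d.mR' hl).1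

/-- `C_H(l) = K`. -/
theorem cH {l g : G} (hl : l ∈ R') (h1 : l ≠ 1) (hg : g ∈ N a) : g * l = l * g ↔ g • b = b :=
  d.tI.cent d.hab (d.mR' hl) h1 hg

/-- `C_P(l) = R`. -/
theorem cP {l w : G} (hl : l ∈ R') (h1 : l ≠ 1) (hw : w ∈ P) (h : w * l = l * w) : w ∈ R :=
  d.pk w hw ((d.cH hl h1 (d.mP hw)).1 h)

/-- `C_T(l) = B`. -/
theorem cT {l x : G} (hl : l ∈ R') (h1 : l ≠ 1) (hx : x ∈ P ⊔ R') (h : x * l = l * x) :
    x ∈ R ⊔ R' := by
  obtain ⟨w, hw, l1, hl1, rfl⟩ := d.decT x hx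
  refine mul_mem_sup (d.cP hl h1 hw ?_) hl1
  rwa [mul_assoc, d.cLL hl1 hl, ← mul_assoc, ← mul_assoc, mul_left_inj] at h

/-- The commutator of `h ∈ H` with an element fixing `a` lies in `H`. -/
theorem comm_mem {h x : G} (hh : h ∈ N a) (hx : x • a = a) : h * x * h⁻¹ * x⁻¹ ∈ N a := by
  have := mul_mem hh (d.tI.conj_of_fix hx (inv_mem hh))
  simpa [mul_assoc] using this

theorem card_R' : Nat.card R' = Nat.card R := by rw [← d.sR, card_cj]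

theorem card_B : Nat.card ↥(R ⊔ R') = Nat.card R ^ 2 := by
  rw [card_sup_of_dec d.decB fun v hv h => d.l_one hv (d.mR h).1, d.card_R', sq]

theorem card_T : Nat.card ↥(P ⊔ R') = Nat.card P * Nat.card R := by
  rw [card_sup_of_dec d.decT fun v hv h => d.l_one hv (d.mP h), d.card_R']

theorem sB : s ∈ normalizer ((R ⊔ R' : Subgroup G) : Set G) :=
  cj_eq_self_iff.1 (by rw [cj_sup, d.sR, d.sR', sup_comm])

theorem s_R {r : G} (h : r ∈ R) : s * r * s⁻¹ ∈ R' := d.sR ▸ conj_mem_cj h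

theorem s_R' {l : G} (h : l ∈ R') : s * l * s⁻¹ ∈ R := d.sR' ▸ conj_mem_cj h

theorem s_R_inv {r : G} (h : r ∈ R) : s⁻¹ * r * s ∈ R' := mem_cj.1 (d.sR'.symm ▸ h)

theorem s_R'_inv {l : G} (h : l ∈ R') : s⁻¹ * l * s ∈ R := mem_cj.1 (d.sR.symm ▸ h)

theorem exists_r : ∃ r ∈ R, r ≠ 1 := (bot_or_exists_ne_one _).resolve_left d.rne

theorem exists_l : ∃ l ∈ R', l ≠ 1 := by
  obtain ⟨r, hr, r1⟩ := d.exists_r
  exact ⟨_, d.s_R hr, by simpa using r1⟩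

theorem elR' (h : ∀ r ∈ R, r * r = 1) {l : G} (hl : l ∈ R') : l * l = 1 := by
  have := h _ (d.s_R' hl)
  rwa [conj_mul, conj_eq_one_iff] at this

theorem elR (h : ∀ l ∈ R', l * l = 1) {r : G} (hr : r ∈ R) : r * r = 1 := by
  have := h _ (d.s_R hr)
  rwa [conj_mul, conj_eq_one_iff] at this

theorem elB (h : ∀ r ∈ R, r * r = 1) {x : G} (hx : x ∈ R ⊔ R') : x * x = 1 := by
  obtain ⟨r, hr, l, hl, rfl⟩ := d.decB x hx
  rw [mul_assoc, ← mul_assoc l, ← d.cRL hr hl, mul_assoc r l, d.elR' h hl, mul_one, h r hr]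

theorem pT : IsPGroup 2 ↥(P ⊔ R') := d.sylT.isPGroup

theorem pB : IsPGroup 2 ↥(R ⊔ R') := d.pT.to_le d.BT

/-- Elements normalising `B` and fixing `a` normalise `R`. -/
theorem conj_R {g r : G} (hg : g ∈ normalizer ((R ⊔ R' : Subgroup G) : Set G)) (ha : g • a = a)
    (hr : r ∈ R) : g * r * g⁻¹ ∈ R :=
  d.bn _ (conj_mem_of_mem_normalizer hg (d.rB hr)) (d.tI.conj_of_fix ha (d.mR hr).1)

/-- `N_T(B) = W R'`. -/
theorem decW {x : G} (hx : x ∈ P ⊔ R') (hn : x ∈ normalizer ((R ⊔ R' : Subgroup G) : Set G)) :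
    ∃ w ∈ Wn R R' P, ∃ l ∈ R', x = w * l := by
  obtain ⟨w, hw, l, hl, rfl⟩ := d.decT x hx
  exact ⟨w, ⟨hw, (mul_mem_cancel_right (le_normalizer (d.lB hl))).1 hn⟩, l, hl, rfl⟩

end S2

end H89.ON2
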