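import Cfsg.Agent.H89.SPMV
import Cfsg.Agent.H59.SOBasic

/-! STD-SP (row S3129), slot JC: the class `c₂` dies, `⟨t⟩` is Sylow in `K`; `H67.SP.JobJC`. -/

set_option autoImplicit false
set_option linter.unusedSectionVars false

namespace H89.SP

open H64.SG (O2 Syl Cz Cs Ns Is2 Inv2 IsO2 mem_Cz mem_Cs is2_of_sq isPGroup_iff_is2 syl_iff)
open Subgroup H67.UA H67.SP
open H67.SA (St)
open H59.SO (Ind B1 B0 CE NS AutOn exists_ind ind_one_iff)
open scoped commutatorElement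

universe u

section Gen

variable {X : Type} [Group X] {G : Type u} [Group G] {e : X →* G} {t g : G} {u v z : X}

theorem fu_iff (h1 : g * t * g⁻¹ = t * e z) (h2 : g * e u * g⁻¹ = e v) :
    Fu e t u ↔ Fu e t (z * v) := by
  have h3 : IsConj (t * e u) (t * e (z * v)) :=
    isConj_iff.2 ⟨g, by rw [← conj_mul, h1, h2, map_mul, mul_assoc]⟩
  exact ⟨fun h => h.trans h3, fun h => h.trans h3.symm⟩

variable [Finite X] [Finite G]

/-- No element of order four in `K`. -/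
theorem two (H : B0 e t) {A : Subgroup X} (h0 : z ≠ 1) (h1 : g * t * g⁻¹ = t * e z)
    (hA : ∀ a ∈ A, g * e a * g⁻¹ ∈ e.range)
    (cA : ∀ β : MulAut X, (∀ a ∈ A, β a = a) → ∃ ζ, ζ * ζ = 1 ∧ β = MulAut.conj ζ) : CE e t := by
  have four : ∀ r ∈ Cs e.range, t * r = r * t → r * r ≠ t := fun r hr hc h3 => by
    have a1 : g⁻¹ * r * g ∈ Cz t := mem_Cz.2 (by
      calc _ = g⁻¹ * (g * t * g⁻¹ * r) * g := by group
        _ = g⁻¹ * (r * (g * t * g⁻¹)) * g := by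
          rw [h1, mul_assoc t, hr _ ⟨_, rfl⟩, ← mul_assoc t, hc, mul_assoc r]
        _ = _ := by group)
    obtain ⟨β, hβ⟩ := exists_ind H.inj (H.cz a1)
    obtain ⟨ζ, z1, rfl⟩ := cA β fun a ha => (hβ.comm_iff H.inj).1 (by
      calc _ = g⁻¹ * (r * (g * e a * g⁻¹)) * g := by group
        _ = _ := by rw [← hr _ (hA a ha)]; group)
    have a3 : g⁻¹ * t * g ∈ Cs e.range := by
      have := hβ.mul hβ
      rwa [← map_mul, z1, map_one, ind_one_iff,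
        show g⁻¹ * r * g * (g⁻¹ * r * g) = g⁻¹ * (r * r) * g by group, h3] at this
    rcases H.uniq a3 (by
      calc _ = g⁻¹ * (t * t) * g := by group
        _ = 1 := by rw [H.inv.1]; group) (by
      calc _ = g⁻¹ * (g * t * g⁻¹ * t) * g := by group
        _ = g⁻¹ * (t * (g * t * g⁻¹)) * g := by rw [h1, mul_assoc t, ← H.comm]
        _ = _ := by group) with a4 | a4
    · exact H.inv.2 (by
        calc t = g * (g⁻¹ * t * g) * g⁻¹ := by group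
          _ = 1 := by rw [a4]; group)
    · have a5 : g * t * g⁻¹ = t := by
        calc _ = g * (g⁻¹ * t * g) * g⁻¹ := by rw [a4]
          _ = t := by group
      rw [a5, left_eq_mul, map_eq_one_iff _ H.inj] at h1
      exact h0 h1
  refine ⟨H.toB1, fun R R1 R2 => ?_⟩
  obtain ⟨T, hT, h3⟩ := H98.exists_isSyl_le (is2_of_sq H.inv.1).zpowers (zpowers_le.2 H.cen)
  obtain ⟨k, -, h4⟩ := hT.exists_cj_le R2 R1
  refine (H98.card_cj k R).ge.trans ((card_le_of_le h4).trans ?_)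
  have cy := H.cyc T hT.1 hT.2.1
  have hc : ∀ r ∈ T, t * r = r * t := fun r hr => congrArg Subtype.val
    (cy.isMulCommutative.is_comm.comm (⟨t, h3 (mem_zpowers t)⟩ : T) ⟨r, hr⟩)
  have sq : ∀ k : ℕ, ∀ r ∈ T, r ^ 2 ^ k = 1 → r * r = 1 := by
    intro k
    induction k with
    | zero => intro r _ h; rw [pow_zero, pow_one] at h; rw [h, one_mul]
    | succ k ih =>
      intro r hr h
      have a1 := ih (r * r) (mul_mem hr hr) (by rw [← pow_two, ← pow_mul, ← pow_succ', h])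
      exact (H.uniq (hT.1 (mul_mem hr hr)) a1 (hc _ (mul_mem hr hr))).resolve_right
        (four r (hT.1 hr) (hc r hr))
  refine (card_le_of_le (K := zpowers t) fun r hr => ?_).trans (H59.SO.card_zpowers_inv2 H.inv).le
  obtain ⟨k, hk⟩ := isPGroup_iff_is2.1 hT.2.1 r hr
  rcases H.uniq (hT.1 hr) (sq k r hr hk) (hc r hr) with rfl | rfl
  exacts [one_mem _, mem_zpowers _]

/-- If all automorphisms are inner, the derived group of `O₂(C(t) ∩ C(e z))` lies in `L`. -/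
theorem comm_O2 (H : B0 e t) (ns : NS X) (inn : ∀ α : MulAut X, ∃ l, α = MulAut.conj l)
    {A : Subgroup X} (hA : IsO2 A (Cz z)) :
    ⁅Cfsg.pCoreOf 2 (Cz t ⊓ Cz (e z)), Cfsg.pCoreOf 2 (Cz t ⊓ Cz (e z))⁆ = ⁅A, A⁆.map e := by
  obtain ⟨r1, r2, r3, r4⟩ := H64.SG.isO2_pCoreOf (Cz t ⊓ Cz (e z))
  generalize Cfsg.pCoreOf 2 (Cz t ⊓ Cz (e z)) = R at r1 r2 r3 r4 ⊢
  have m : ∀ c ∈ Cz z, e c ∈ Cz t ⊓ Cz (e z) := fun c hc =>
    ⟨H.mem_Cz c, mem_Cz.2 (by rw [← map_mul, mem_Cz.1 hc, map_mul])⟩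
  have a1 : A.map e ≤ R := r4 _ (by rintro _ ⟨a, ha, rfl⟩; exact m a (hA.1 ha)) (fun d hd => by
    obtain ⟨β, hβ⟩ := exists_ind H.inj (H.cz hd.1)
    exact hβ.mem_Ns_map (H4.SFAB.st_of_fix hA ((hβ.comm_iff H.inj).1 (mem_Cz.1 hd.2).symm)))
    (hA.2.2.1.map e)
  let B : Subgroup X :=
    { carrier := {l | ∃ r ∈ R, Ind e r (MulAut.conj l)}
      one_mem' := ⟨1, one_mem _, by rw [map_one]; exact H59.SO.ind_one⟩
      mul_mem' := fun ⟨r, h1, h2⟩ ⟨s, h3, h4⟩ => ⟨_, mul_mem h1 h3, by rw [map_mul]; exact h2.mul h4⟩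
      inv_mem' := fun ⟨r, h1, h2⟩ => ⟨_, inv_mem h1, by rw [map_inv]; exact h2.inv⟩ }
  have a2 : B ≤ A := hA.2.2.2 B (fun l ⟨r, h1, h2⟩ => mem_Cz.2 (by
      have := (h2.comm_iff H.inj).1 (mem_Cz.1 (r1 h1).2).symm
      rw [MulAut.conj_apply, mul_inv_eq_iff_eq_mul] at this
      exact this.symm))
    (fun c hc => H98.mem_normalizer_of_cj_le (by
      rintro _ ⟨l, ⟨r, h1, h2⟩, rfl⟩
      refine ⟨_, H98.conj_mem_of_mem_normalizer (r2 (m c hc)) h1, ?_⟩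
      change Ind e _ (MulAut.conj (c * l * c⁻¹))
      rw [map_mul, map_mul, map_inv]
      exact (H59.SO.ind_conj (e := e) c).conj h2))
    (isPGroup_iff_is2.2 fun l ⟨r, h1, h2⟩ =>
      (h2.split H.inj ns (isPGroup_iff_is2.1 r3 r h1)).1)
  have a3 : ∀ r ∈ R, ∃ l ∈ A, ∃ k ∈ R ⊓ Cs e.range, r = k * e l := fun r hr => by
    obtain ⟨β, hβ⟩ := exists_ind H.inj (H.cz (r1 hr).1)
    obtain ⟨l, rfl⟩ := inn β
    have h1 := a2 ⟨r, hr, hβ⟩
    exact ⟨l, h1, _, mem_inf.2 ⟨mul_mem hr (inv_mem (a1 ⟨l, h1, rfl⟩)),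
      H59.SO.ind_conj_iff.1 hβ⟩, by simp⟩
  refine le_antisymm (commutator_le.2 fun r hr s hs => ?_)
    (by rw [map_commutator]; exact commutator_mono a1 a1)
  obtain ⟨l, l1, k, k1, rfl⟩ := a3 r hr
  obtain ⟨l', l2, k', k2, rfl⟩ := a3 s hs
  have cy := H.cyc _ inf_le_right (r3.to_le (inf_le_left : R ⊓ Cs e.range ≤ R))
  have c1 : Commute k k' := congrArg Subtype.val
    (cy.isMulCommutative.is_comm.comm (⟨k, k1⟩ : ↥(R ⊓ Cs e.range)) ⟨k', k2⟩)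
  have c2 : ∀ a, Commute (e a) k := fun a => k1.2 _ ⟨a, rfl⟩
  have c3 : ∀ a, Commute (e a) k' := fun a => k2.2 _ ⟨a, rfl⟩
  refine ⟨⁅l, l'⁆, commutator_mem_commutator l1 l2, ?_⟩
  have c4 : k * e l * (k' * e l') = k * k' * e (l * l') := by
    rw [map_mul, mul_assoc k, ← mul_assoc (e l), (c3 l).eq]; simp only [mul_assoc]
  have c5 : k' * e l' * (k * e l) = k * k' * e (l' * l) := by
    rw [map_mul, mul_assoc k', ← mul_assoc (e l'), (c2 l').eq, c1.eq]; simp only [mul_assoc]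
  calc e ⁅l, l'⁆ = k * k' * e ⁅l, l'⁆ * (k * k')⁻¹ := by
        rw [← ((c2 _).mul_right (c3 _)).eq, mul_inv_cancel_right]
    _ = k * k' * e (l * l') * (k * k' * e (l' * l))⁻¹ := by
        simp only [commutatorElement_def, map_mul, map_inv]; group
    _ = _ := by rw [← c4, ← c5, commutatorElement_def]; group

end Gen

variable {n : ℕ} {F : Type} [Field F] [StarRing F] [TrivialStar F] [CharP F 2] [Finite F]
  [H67.SP.Par n F] [Base n F]

theorem xb_eq : xb n F = zu 1 0 := (zu_left 1).symm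
theorem xa_eq : xa n F = zu 0 1 := by rw [zu_right, one_smul]
theorem xc_eq : xc n F = zu 1 1 := by rw [zu, one_smul]

theorem sq_EE {u x : Vn n F} (c : F) (h : hf x u = 0) : EE u x c * EE u x c = 1 := by
  rw [EE_mul (FV.ok u x c h) (FV.ok u x c h), v_add_self, CharTwo.add_self_eq_zero,
    show hf x x = 0 from FV.iso x, add_zero, EE_zero]

theorem sq_Q {g : XU n F} (h : g ∈ QQ n F) : g * g = 1 := by
  obtain ⟨x, c, h1, rfl⟩ := (FV.mem_Qv _ g).1 h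
  exact sq_EE c h1

theorem sq_M {g : XU n F} (h : g ∈ Mk n F 2) : g * g = 1 := by
  obtain ⟨a, b, c, rfl⟩ := (FV.mem_M2 g).1 h
  have h0 : hf (b • ev 1 : Vn n F) (ev 0) = 0 := by rw [hf_smul_left, hf10, mul_zero]
  have h1 : ac (zu (n := n) a b) (ev 1) = ev 1 := by
    rw [ac_mul, ac_EE_fix (FV.ok _ _ _ h0) hf10 (by
      rw [hf_smul_right, show hf (ev 1 : Vn n F) (ev 1) = 0 from FV.iso _, mul_zero]),
      ac_EE_fix (FV.ok _ _ _ (hf_zero_left _)) hf10 (hf_zero_right _)]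
  have h2 := Tc_conj (FV.iso (ev 1 : Vn n F)) (star_trivial c) (zu a b)
  rw [h1, mul_inv_eq_iff_eq_mul] at h2
  calc _ = zu a b * (Tc c (ev 1) * zu a b) * Tc c (ev 1) := by simp only [mul_assoc]
    _ = zu a b * zu a b * (Tc c (ev 1) * Tc c (ev 1)) := by rw [← h2]; simp only [mul_assoc]
    _ = 1 := by rw [zu_sq, sq_EE c (hf_zero_left _), mul_one]

theorem xc_mul (b : F) : xc n F * zu 0 (1 + b) = zu 1 b := by
  have h0 : ∀ c : F, hf (c • ev 1 : Vn n F) (ev 0) = 0 := fun c => by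
    rw [hf_smul_left, hf10, mul_zero]
  rw [xc_eq, zu_right, mul_assoc, EE_mul (FV.ok _ _ _ (h0 1)) (FV.ok _ _ _ (h0 _)), ← add_smul,
    ← add_assoc, CharTwo.add_self_eq_zero, zero_add, hf_smul_left, hf_smul_right,
    show hf (ev 1 : Vn n F) (ev 1) = 0 from FV.iso _]
  simp

variable [FC n F] {G : Type u} [Group G] [Finite G] {e : XU n F →* G} {t g : G}

theorem dies (fm : FM n F) (H : B0 e t) (h : Mv e t (xc n F)) :
    Fu e t (xb n F) ∨ Fu e t (xa n F) := by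
  by_contra! hn
  obtain ⟨g, h1, h2⟩ := h
  have h3 := mul_inv_eq_iff_eq_mul.2 h2
  have T1 : ∀ w, Cr w → Fu e t w := fun w hw =>
    fu_conj H.toB1 (isConj_iff.2 ⟨g, h1⟩) ((FR.cr w).1 hw)
  have T2 : ∀ w, Lr w ∨ Sr w → ¬ Fu e t w := fun w hw h => hw.elim
    (fun hw => hn.1 (fu_conj H.toB1 h ((FR.lr w).1 hw).symm))
    fun hw => hn.2 (fu_conj H.toB1 h ((FR.sr w).1 hw).symm)
  by_cases hF : Nat.card F = 2
  · have s2 : xc n F * xc n F = 1 := by rw [xc_eq, zu_sq]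
    have k : ∀ a, a ∈ Cz t ⊓ Cz (e (xc n F)) ↔ a ∈ Cz (t * e (xc n F)) ⊓ Cz (e (xc n F)) :=
      fun a => and_congr_left fun ha => by
        change a ∈ Cz t ↔ a ∈ Cz (t * e (xc n F))
        rw [mem_Cz, mem_Cz, mul_assoc, mem_Cz.1 ha, ← mul_assoc, ← mul_assoc, mul_left_inj]
    have h4 : g ∈ Ns (Cz t ⊓ Cz (e (xc n F))) := H98.cj_eq_self_iff.1 (by
      rw [H98.cj_inf]
      change cjs g _ ⊓ cjs g _ = _
      rw [H64.SG.cj_Cz, H64.SG.cj_Cz, h1, h3]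
      exact (Subgroup.ext k).symm)
    have h5 : g ∈ Ns ((Qd n F).map e) := by
      rw [← fm.der hF, ← comm_O2 H FA.ns (FA.two hF) FC.oc]
      refine H98.cj_eq_self_iff.1 ?_
      rw [H98.cj_commutator, H98.cj_eq_self (H98.normalizer_le_normalizer_pCoreOf _ h4)]
    obtain ⟨θ, k1, k2⟩ := H59.SO.exists_autOn H.inj h5
    exact fm.m hF θ k1 (Fu e t) (by rw [Fu, map_one, mul_one]) T1 T2 fun w hw =>
      fu_iff h1 (k2 w hw)
  · obtain ⟨b, b0, b1⟩ := H59.SO.exists_ne_zero_one hF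
    have h4 := (ab H).edge g _ _ h1 h3
    rw [xc_eq] at h4
    have h5 := cjs_comm (cjs_O2 H.inj (FC.o2 1 1 one_ne_zero) (FC.o2 1 1 one_ne_zero) h4)
    rw [FC.zq] at h5
    have b2 : 1 + b ≠ 0 := fun h => b1 (by rw [← CharTwo.neg_eq 1]; linear_combination h)
    obtain ⟨_, ⟨w, hw, rfl⟩, h6⟩ : e (zu 0 (1 + b)) ∈ cjs g ((ZS n F).map e) :=
      h5.ge ⟨_, mem_ZS.2 ⟨_, rfl⟩, rfl⟩
    replace h6 : g * e w * g⁻¹ = e (zu 0 (1 + b)) := h6
    obtain ⟨c, rfl⟩ := mem_ZS.1 hw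
    have c0 : c ≠ 0 := fun h => (rt_inv2 (.inr (.inl ((FR.zc (n := n) 0 (1 + b)).2.1 b2)))).2
      (H.inj (by rw [← h6, h, zu_zero]; simp))
    refine T2 _ (.inr ((FR.zc 0 c).2.1 c0)) ((fu_iff h1 h6).2 ?_)
    rw [xc_mul]
    exact T1 _ ((FR.zc 1 b).2.2 one_ne_zero b0)

theorem ce (H : B0 e t) (h : Mv e t (xb n F) ∨ Mv e t (xa n F)) : CE e t := by
  have key : ∀ {z : XU n F} {A : Subgroup (XU n F)}, Rt z → A ≤ Pc (Cz z) → Mv e t z →
      (∀ β : MulAut (XU n F), (∀ a ∈ A, β a = a) → ∃ ζ, ζ * ζ = 1 ∧ β = MulAut.conj ζ) →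
      CE e t := fun hz hA ⟨g, h1, h2⟩ cA =>
    two H (rt_inv2 hz).2 h1 (fun a ha => map_le_range _ _
      ((ab H).edge g _ _ h1 (mul_inv_eq_iff_eq_mul.2 h2) ▸
        H67.SA.conj_mem_cjs.2 (mem_map_of_mem e (hA ha)))) cA
  rcases h with h | h
  · refine key (.inl ((FR.lr _).2 (IsConj.refl _))) (xb_eq (n := n) (F := F) ▸
      (o2_long one_ne_zero).1) h fun β hβ => ?_
    obtain ⟨ζ, z1, z2⟩ := FC.cQ β hβ
    exact ⟨ζ, sq_Q z1, z2⟩
  · refine key (.inr (.inl ((FR.sr _).2 (IsConj.refl _)))) (xa_eq (n := n) (F := F) ▸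
      (FC.o2 0 1 one_ne_zero).1) h fun β hβ => ?_
    obtain ⟨ζ, z1, z2⟩ := FC.cQ2 β hβ
    exact ⟨ζ, sq_M z1, z2⟩

theorem jobJC : JobJC.{u} := fun _ _ _ _ _ _ _ _ _ _ _ _ _ _ _ fm H => ⟨dies fm H, ce H⟩

end H89.SP
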