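import Cfsg.Agent.H89.HKII0
import Cfsg.Agent.H67.KM1

/-! HKS tower: job I0. -/

set_option autoImplicit false
set_option linter.unusedSectionVars false

namespace H89.HK

open MulAction Cfsg Subgroup H89.K H65 H7.HKS H72.HKS

universe u

variable {G Ω : Type u} [Group G] [Finite G] [MulAction G Ω] {U : Ω → Subgroup G} {a b c d : Ω} {X : Set G}
  {g s k w : G}

variable (h : Core U) (hab : a ≠ b) (ho : Odd (Nat.card (St G a b)))
include ho

theorem odd_pow (hg : g ∈ St G a b) : ∃ m, g ^ (2 * m + 1) = 1 :=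
  let ⟨m, e⟩ := ho; ⟨m, e ▸ congrArg Subtype.val (pow_card_eq_one' (x := (⟨g, hg⟩ : St G a b)))⟩

/-- an odd power of a swapping element is an involution -/
theorem sw_pow (e : Sw g a b) : ∃ m, g ^ m * g ^ m = 1 ∧ Sw (g ^ m) a b := by
  have s : g * g ∈ St G a b := ⟨show _ = _ by rw [mul_smul, e.1, e.2], show _ = _ by rw [mul_smul, e.2, e.1]⟩
  obtain ⟨m, hm⟩ := odd_pow ho s
  have := pow_mem s m
  refine ⟨2 * m + 1, by rw [← (Commute.refl g).mul_pow, hm], ?_⟩
  rw [pow_succ', pow_mul, sq]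
  exact ⟨by rw [mul_smul, this.1, e.1], by rw [mul_smul, this.2, e.2]⟩

include h hab

theorem no_fix (w2 : w * w = 1) (e : w • c = c) : w = 1 := by
  have o : Odd (Nat.card (stabilizer G c)) := by
    obtain ⟨d, h1, -⟩ := h.t2.exists_third c c
    rw [h.t2.card_stab h1.symm, h.t2.card_St_eq h1.symm hab, card_eq h.toRg a]
    exact (h.odd a).mul ho
  exact (pow_eq_one_iff_of_coprime (Nat.coprime_two_left.2 o)).1 ⟨(sq w).trans w2,
    congrArg Subtype.val (pow_card_eq_one' (x := (⟨w, e⟩ : stabilizer G c)))⟩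

theorem typI (k2 : Kit2.{u}) (hX : X ⊆ St G a b) (h1 : ∃ g ∈ X, g ≠ 1) (h2 : CU U X a ≠ ⊥) : TA U X a ∨
    ∃ (F : Type) (_ : Field F) (_ : Fintype F) (x y : F → G), LD x y (CU U X a) (CU U X b) a b ∧
      sl2h x y (-1) = 1 ∧ ∃ p : ℕ, p.Prime ∧ IsPGroup p (CU U X a) := by
  have z : ∀ {F : Type} [Field F] [Fintype F] {x y : F → G} {A B : Subgroup G}, A ≤ U a → B ≤ U b →
      LD x y A B a b → sl2h x y (-1) = 1 := fun hA hB l => no_fix h hab ho (by
    rw [l.rel.h_mul' (by simp) (by simp), neg_mul_neg, one_mul, l.rel.h_one])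
    ((k2.bas h.toRg.sr hab hA hB l).2.2.2.1 (-1) (by simp)).1
  rcases h.loc X a b hab hX h1 h2 with k | ⟨F, i1, i2, x, y, l⟩ | ⟨F, _, _, x, y, l, e, e', -⟩ | ⟨q, w, e⟩
  · exact .inl k
  · obtain ⟨p, _, n, hp, e⟩ := FiniteField.card' F
    exact .inr ⟨F, i1, i2, x, y, l, z inf_le_left inf_le_left l, p, hp,
      .of_card ((k2.bas h.toRg.sr hab inf_le_left inf_le_left l).2.1.trans e)⟩
  · refine absurd ?_ (ld_card k2 h.toRg hab (inf_le_left.trans inf_le_left) (inf_le_left.trans inf_le_left) l)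
    have : ZU U X a = CU U X a := e'.symm.trans (by
      rw [z (inf_le_left.trans inf_le_left) (inf_le_left.trans inf_le_left) l]
      exact inf_eq_left.2 fun u _ => mem_centralizer_singleton_iff.2 (by simp))
    exact (congrArg (fun A : Subgroup G => Nat.card A) this).trans e
  · have := e.ord
    rw [no_fix h hab ho (by rw [← sq, ← this, pow_orderOf_eq_one]) e.st.1, orderOf_one] at this
    omega

variable (s2 : s * s = 1) (sw : Sw s a b)
include s2 sw

omit h hab ho in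
theorem sw_mul (e : Sw w a b) : s * w ∈ St G a b :=
  ⟨show _ = _ by rw [mul_smul, e.1, sw.2], show _ = _ by rw [mul_smul, e.2, sw.1]⟩

theorem kfix (hk : k ∈ St G a b) (e : s * k * s = k⁻¹) {u : G} (hu : u ∈ U a) (c : k * u = u * k) :
    k = 1 ∨ u = 1 := or_iff_not_imp_right.2 fun u1 => by
  have hX := Set.singleton_subset_iff.2 hk
  obtain ⟨l, hl, l1⟩ := lx_two h.toRg hab hX (fun f => u1 (mem_bot.1 (f.le
    ⟨hu, mem_centralizer_singleton_iff.2 c.symm⟩))) b (mem_fx1.2 hk.2) a (mem_fx1.2 hk.1) hab.symm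
  obtain ⟨m, hm⟩ := odd_pow ho (sw_mul s2 sw l1)
  have lk : l * k = k * l := mem_centralizer_singleton_iff.1 (lx_le hl)
  have e1 : s * l * k * (s * l)⁻¹ = k⁻¹ := by
    rw [mul_assoc s, lk, ← e, mul_inv_rev, inv_eq_of_mul_eq_one_right s2]; group
  have e2 : Commute ((s * l) ^ 2) k := mul_inv_eq_iff_eq_mul.1 (by
    rw [show (s * l) ^ 2 * k * ((s * l) ^ 2)⁻¹ = s * l * (s * l * k * (s * l)⁻¹) * (s * l)⁻¹ by rw [sq]; group, e1,
      ← conj_inv, e1, inv_inv])
  have e3 : Commute (s * l) k := by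
    have := (e2.pow_left m).inv_left
    rwa [← pow_mul, inv_eq_of_mul_eq_one_right ((pow_succ _ _).symm.trans hm)] at this
  rw [e3.eq, mul_inv_cancel_right] at e1
  exact no_fix h hab ho (mul_eq_one_iff_eq_inv.2 e1) hk.1

omit h hab ho in
theorem inv_sw (w2 : w * w = 1) : s * (s * w) * s = (s * w)⁻¹ := by
  rw [cancel s2, mul_inv_rev, inv_eq_of_mul_eq_one_right s2, inv_eq_of_mul_eq_one_right w2]

omit h hab ho s2 in
theorem conj_sw (hg : g ∈ St G a b) : Sw (g * s * g⁻¹) a b :=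
  ⟨by simpa [show g • a = a from hg.1, show g • b = b from hg.2] using (conj_smul_eq (g := g)).2 sw.1,
    by simpa [show g • a = a from hg.1, show g • b = b from hg.2] using (conj_smul_eq (g := g)).2 sw.2⟩

theorem exists_k : ∃ k ∈ St G a b, s * k * s = k⁻¹ ∧ k ≠ 1 := by
  by_contra! e
  have s1 : ∀ {w : G} {x y : Ω}, x ≠ y → w • x = y → w ≠ 1 := fun n f c => n (by rw [← f, c, one_smul])
  have := H67.K.jobM1 G Ω {j | j * j = 1 ∧ j ≠ 1} h.t2.faith
    (fun j hj g => ⟨conj_sq hj.1 (isConj_iff.2 ⟨g, rfl⟩), by simpa using hj.2⟩) (fun j hj => hj.1)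
    (fun j hj x f => hj.2 (no_fix h hab ho hj.1 f)) (fun x y n => by
      obtain ⟨g, rfl, rfl⟩ := h.t2.two hab n
      refine ⟨g * s * g⁻¹, ⟨⟨conj_sq s2 (isConj_iff.2 ⟨g, rfl⟩), s1 n (conj_smul_eq.2 sw.1)⟩, conj_smul_eq.2 sw.1⟩,
        fun j hj => ?_⟩
      obtain ⟨j, rfl⟩ := (MulAut.conj g).surjective j
      have j2 : j * j = 1 := by simpa [← map_mul] using hj.1.1
      have j1 := conj_smul_eq.1 hj.2
      rw [← inv_eq_of_mul_eq_one_right (e _ (sw_mul s2 sw ⟨j1, by rw [← j1, ← mul_smul, j2, one_smul]⟩)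
        (inv_sw s2 sw j2)), inv_eq_of_mul_eq_one_right s2]
      rfl)
    fun x => by
      obtain ⟨d, h1, -⟩ := h.t2.exists_third x x
      rw [h.t2.card_stab h1.symm, h.t2.card_St_eq h1.symm hab, card_eq h.toRg a]
      exact (h.odd a).mul ho
  let N : Subgroup G :=
    { carrier := {j | j * j = 1}
      one_mem' := mul_one 1
      inv_mem' := fun {x} e => by rwa [inv_eq_of_mul_eq_one_right e]
      mul_mem' := fun {x y} e f => by
        by_cases x1 : x = 1
        · rwa [x1, one_mul]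
        by_cases y1 : y = 1
        · rwa [y1, mul_one]
        exact (this x ⟨e, x1⟩ y ⟨f, y1⟩).elim (fun c => show _ = _ by rw [c, mul_one]) And.left }
  have : N.Normal := ⟨fun x e g => conj_sq e (isConj_iff.2 ⟨g, rfl⟩)⟩
  refine h.naff (h.t2.aff_of_comm N (fun c => s1 hab sw.1 (mem_bot.1 (c.le s2))) fun x e y f => ?_)
  rw [← inv_eq_of_mul_eq_one_right (N.mul_mem e f), mul_inv_rev, inv_eq_of_mul_eq_one_right e,
    inv_eq_of_mul_eq_one_right f]

theorem kgen : closure {k | k ∈ St G a b ∧ s * k * s = k⁻¹} = St G a b := by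
  set K := closure {k | k ∈ St G a b ∧ s * k * s = k⁻¹}
  have m : ∀ w, w * w = 1 → Sw w a b → s * w ∈ K := fun w w2 e => subset_closure ⟨sw_mul s2 sw e, inv_sw s2 sw w2⟩
  have q : ∀ k, s * k * s = k⁻¹ → s * k * (s * k) = 1 := fun k e => by rw [← mul_assoc, e, inv_mul_cancel]
  have n : (K.subgroupOf (St G a b)).Normal := ⟨fun x hx g => (closure_le (K.comap (MulAut.conj g.1).toMonoidHom)).2
    (fun k hk => by
      have := mul_mem (inv_mem (m _ (conj_sq s2 (isConj_iff.2 ⟨g, rfl⟩)) (conj_sw sw g.2)))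
        (m _ (conj_sq (q k hk.2) (isConj_iff.2 ⟨g, rfl⟩)) (conj_sw (s := s * k)
          ⟨by rw [mul_smul, hk.1.1, sw.1], by rw [mul_smul, hk.1.2, sw.2]⟩ g.2))
      simpa [mul_assoc] using this) hx⟩
  refine le_antisymm ((closure_le _).2 fun _ k => k.1) fun g hg => by_contra fun g1 => ?_
  let Q := St G a b ⧸ K.subgroupOf (St G a b)
  have : Nontrivial Q := ⟨(⟨g, hg⟩ : St G a b), 1, fun e =>
    g1 ((QuotientGroup.eq_one_iff (N := K.subgroupOf (St G a b)) ⟨g, hg⟩).1 e)⟩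
  have := H42.odd_order ho
  obtain ⟨x, hx⟩ := SetLike.exists_of_lt (Group.IsSolvable.commutator_lt_top_of_nontrivial Q)
  obtain ⟨φ, hφ⟩ := CommGroup.exists_apply_ne_one_of_hasEnoughRootsOfUnity (Abelianization Q) ℂ
    (a := Abelianization.of x) fun e => hx.2 ((QuotientGroup.eq_one_iff _).1 e)
  obtain ⟨x, rfl⟩ := QuotientGroup.mk'_surjective _ x
  let χ := φ.comp (Abelianization.of.comp (QuotientGroup.mk' (K.subgroupOf (St G a b))))
  have χ1 : ∀ k : St G a b, k.1 ∈ K → χ k = 1 := fun k hk => by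
    show φ (Abelianization.of (QuotientGroup.mk' _ k)) = 1
    rw [show QuotientGroup.mk' (K.subgroupOf (St G a b)) k = 1 from (QuotientGroup.eq_one_iff k).2 hk, map_one, map_one]
  refine hφ (eta h.pre s χ hab s2 sw.1 (fun c e => hab ?_) (fun g hg => ?_) (fun g k e => ?_) (fun k e => χ1 k ?_) x)
  · rw [← sw.1, no_fix h hab ho s2 e, one_smul]
  · rw [show g = 1 from Subtype.ext (h.reg hab.symm _ hg g.2.2), map_one]
  · rw [← mul_inv_eq_one, ← map_inv, ← map_mul]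
    refine χ1 _ ?_
    have := m _ (conj_sq s2 (isConj_iff.2 ⟨g, rfl⟩)) (conj_sw sw g.2)
    simpa [e, mul_assoc] using this
  · simpa [cancel s2] using m _ (conj_sq s2 e) ⟨by rw [mul_smul, k.2.1, sw.1], by rw [mul_smul, k.2.2, sw.2]⟩

theorem i3 (k2 : Kit2.{u}) (hX : X ⊆ St G a b) (h1 : ∃ g ∈ X, g ≠ 1) (hs : s ∈ normalizer X) (h2 : CU U X a ≠ ⊥) :
    s ∈ centralizer X ∧ ∃ τ ∈ St G a b, s * τ * s = τ⁻¹ ∧
      (∀ g ∈ St G a b, g ∈ normalizer X → s * g * s * g⁻¹ ∈ zpowers τ) ∧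
      (τ = 1 ∨ ∃ p : ℕ, p.Prime ∧ IsPGroup p (CU U X a)) := by
  have fa : a ∈ Fx Ω X := fun g hg => (hX hg).1
  have fb : b ∈ Fx Ω X := fun g hg => (hX hg).2
  rcases typI h hab ho k2 hX h1 h2 with ⟨-, E, e⟩ | ⟨F, _, _, x, y, l, z, hp⟩
  · obtain ⟨w, ⟨w1, w2⟩, u⟩ := e.reg a fa b fb
    have ww := e.sq w w1
    have w3 : Sw w a b := ⟨w2, by rw [← w2, ← mul_smul, ww, one_smul]⟩
    have c : s * w * s⁻¹ = w := u _ ⟨(mem_normalizer_iff.1 (e.norm hs) w).1 w1, by
      rw [inv_eq_of_mul_eq_one_right s2, mul_smul, mul_smul, sw.1, w3.2, sw.1]⟩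
    obtain rfl : w = s := (eq_inv_of_mul_eq_one_right (no_fix h hab ho (by
      rw [← mul_assoc, ← inv_eq_of_mul_eq_one_right s2, inv_eq_of_mul_eq_one_right s2]
      nth_rewrite 2 [← inv_eq_of_mul_eq_one_right s2]
      rw [c, ww]) (sw_mul s2 sw w3).1)).trans (inv_eq_of_mul_eq_one_right s2)
    refine ⟨lx_le (e.sup ▸ mem_sup_left w1), 1, one_mem _, by simpa using s2, fun g hg hn => ?_, .inl rfl⟩
    rw [mul_assoc, mul_assoc, ← mul_assoc g, u _ ⟨(mem_normalizer_iff.1 (e.norm hn) w).1 w1, (conj_sw sw hg).1⟩, s2]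
    exact one_mem _
  · obtain ⟨b1, -, -, b4, -, b6, b7, -, b9, b10, b11, -⟩ := k2.bas h.toRg.sr hab inf_le_left inf_le_left l
    have lx := k2.lx h.toRg hab hX l
    have nf : ∀ c : Ω, s • c ≠ c := fun c e => hab (by rw [← sw.1, no_fix h hab ho s2 e, one_smul])
    have n1 : ¬ IsSquare (-1 : F) := fun ⟨i, hi⟩ => by
      have i0 : i ≠ 0 := fun f => by simp [f] at hi
      have : (-1 : F) = 1 := by
        rcases b11 i i0 (no_fix h hab ho (by rw [l.rel.h_mul' i0 i0, ← hi, z]) (b4 i i0).1) with f | f <;>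
          simpa [f] using hi
      exact Ring.neg_one_ne_one_of_char_ne_two (fun c => by
        have := FiniteField.even_card_iff_char_two.1 c
        rw [Nat.odd_iff] at b1; omega) this
    obtain ⟨μ, μ0, m1, -, m3⟩ := k2.swp h.toRg hab hX l s hs sw (fun c _ => by rw [← mul_smul, s2, one_smul])
      (by rw [Set.eq_empty_of_forall_notMem (s := Fx Ω (insert s X)) fun c k => nf c (k s (Set.mem_insert _ _))]; simp)
    obtain ⟨g, hg, e⟩ := m3.2 (by
      classical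
      have n2 : ¬ IsSquare (-μ) := fun ⟨c, hc⟩ => by
        have c0 : c ≠ 0 := fun f => μ0 (by simpa [f] using hc)
        exact nf _ ((m1 c c0).trans (by rw [← neg_div, hc, mul_div_cancel_right₀ _ c0]))
      rw [← quadraticChar_one_iff_isSquare μ0, show μ = -1 * -μ by simp, map_mul,
        quadraticChar_neg_one_iff_not_isSquare.2 n1, quadraticChar_neg_one_iff_not_isSquare.2 n2]
      simp)
    have kf : ∀ c ∈ Fx Ω X, (g⁻¹ * s) • c = c := fun c hc => by rw [mul_smul, e c hc, inv_smul_smul]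
    obtain ⟨d, d0, rfl⟩ := b10 g (lx ▸ hg) ⟨(e a fa).symm.trans sw.1, (e b fb).symm.trans sw.2⟩
    have c1 : Commute _ _ := lx_comm h.toRg hab hX _ kf _ hg
    obtain rfl : sl2n x y d = s := inv_mul_eq_one.1 (no_fix h hab ho (by
      have := c1.symm.mul_pow 2
      rwa [mul_inv_cancel_left, sq, sq, sq, s2, b6 d d0, z, one_mul, eq_comm] at this) (kf a fa))
    obtain ⟨θ, hθ⟩ := IsCyclic.exists_monoid_generator (α := Fˣ)
    have pw : ∀ n : ℕ, sl2h x y (θ ^ n : Fˣ) = sl2h x y θ ^ n := fun n => by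
      induction n with
      | zero => simpa using l.rel.h_one
      | succ n ih => rw [pow_succ, pow_succ, ← ih, l.rel.h_mul' (Units.ne_zero _) θ.ne_zero, Units.val_mul]
    refine ⟨lx_le hg, sl2h x y θ, b4 _ θ.ne_zero, ?_, fun k hk hn => ?_, .inr hp⟩
    · nth_rewrite 2 [← inv_eq_of_mul_eq_one_right s2]
      rw [b7 _ d θ.ne_zero d0]
      exact eq_inv_of_mul_eq_one_left (by
        rw [l.rel.h_mul' (inv_ne_zero θ.ne_zero) θ.ne_zero, inv_mul_cancel₀ θ.ne_zero, l.rel.h_one])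
    · obtain ⟨c, c0, f⟩ := b9 _ (lx ▸ mul_mem hg ((mem_normalizer_iff.1 (lx_norm h.toRg hn) _).1 hg))
        (sw_mul s2 sw (conj_sw sw hk))
      obtain ⟨n, hn⟩ := hθ (Units.mk0 c c0)
      rw [mul_assoc, mul_assoc, ← mul_assoc k, f, show c = (θ ^ n : Fˣ) from (congrArg Units.val hn).symm, pw]
      exact pow_mem (mem_zpowers _) n

omit h hab ho s2 sw in
theorem jobI0 (k2 : Kit2.{u}) : JobI0.{u} := by
  intro G Ω _ _ _ U a b h hab ho
  obtain ⟨g, e⟩ := h.t2.exists_swap hab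
  obtain ⟨m, s2, sw⟩ := sw_pow ho e
  obtain ⟨k, k1, k3, k4⟩ := exists_k h hab ho s2 sw
  refine ⟨_, h, hab, ho, s2, sw, simple_of h k1.1 (fun u hu e => (kfix h hab ho s2 sw k1 k3 hu e).resolve_left k4)
    ⟨_, g ^ m * k, s2, by rw [← mul_assoc, k3, inv_mul_cancel], (cancel s2 k).symm⟩,
    fun k a b u => kfix h hab ho s2 sw a b, kgen h hab ho s2 sw, fun X hX h1 => i3 h hab ho s2 sw k2 hX (by
      obtain ⟨x, hx⟩ := ne_bot_iff_exists_ne_one.1 h1
      exact ⟨x, x.2, fun c => hx (Subtype.ext c)⟩), fun y hy y1 c => ?_⟩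
  exact (typI h hab ho k2 (Set.singleton_subset_iff.2 hy) ⟨y, rfl, y1⟩ c).imp_right
    fun ⟨F, i1, i2, x, y, l, _, hp⟩ => ⟨⟨F, i1, i2, x, y, l⟩, hp⟩

end H89.HK
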