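import Cfsg.Agent.H7.HKSSpec2
import Cfsg.Agent.H72.HKS1

/-! HKS tower: job II0. -/

set_option autoImplicit false
set_option linter.unusedSectionVars false

namespace H89.HK

open MulAction Cfsg Subgroup H89.K H65 H7.HKS H72.HKS

universe u

variable {G Ω : Type u} [Group G] [Finite G] [MulAction G Ω] {U : Ω → Subgroup G} {a b c d : Ω} {X : Set G}
  {g s t w w' : G}

theorem st_conj (h : Rg U) (hg : g • a = a) {u : G} (hu : u ∈ U a) : g * u * g⁻¹ ∈ U a := by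
  simpa [hg] using h.conj g a u hu

/-- every element of `U a` is a commutator with an element acting without fixed points -/
theorem exists_comm (h : Rg U) (hg : g • a = a) (f : ∀ u ∈ U a, g * u = u * g → u = 1) {u : G} (hu : u ∈ U a) :
    ∃ v ∈ U a, v⁻¹ * (g * v * g⁻¹) = u := by
  obtain ⟨v, e⟩ := (Finite.injective_iff_surjective (f := fun v : U a =>
    (⟨v.1⁻¹ * (g * v * g⁻¹), mul_mem (inv_mem v.2) (st_conj h hg v.2)⟩ : U a))).1 (fun x y e => Subtype.ext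
      (mul_inv_eq_one.1 (f _ (mul_mem x.2 (inv_mem y.2)) (by
        have e : x.1⁻¹ * (g * x * g⁻¹) = y.1⁻¹ * (g * y * g⁻¹) := congrArg Subtype.val e
        calc _ = x * (x.1⁻¹ * (g * x * g⁻¹)) * g * y.1⁻¹ := by group
          _ = _ := by rw [e]; group)))) ⟨u, hu⟩
  exact ⟨v, v.2, congrArg Subtype.val e⟩

theorem simple_of (h : Core U) (hg : g • a = a) (f : ∀ u ∈ U a, g * u = u * g → u = 1)
    (hm : ∃ s w : G, s * s = 1 ∧ w * w = 1 ∧ g = s * w) : IsSimpleGroup G := by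
  obtain ⟨M, m⟩ := soc h.pre
  obtain ⟨s, w, h1, h2, e⟩ := hm
  have gM : g ∈ M := e ▸ mul_mem (m.inv s h1) (m.inv w h2)
  have : M = ⊤ := (sup_eq_left.2 fun u hu => by
    obtain ⟨v, -, rfl⟩ := exists_comm h.toRg hg f hu
    rw [← mul_assoc, ← mul_assoc]
    exact mul_mem (by simpa using m.normal.conj_mem g gM v⁻¹) (inv_mem gM)).symm.trans (m.sup a)
  have := m.simple
  exact ((MulEquiv.subgroupCongr ‹M = ⊤›).trans topEquiv).symm.isSimpleGroup

theorem faith_U (h : Rg U) (hab : a ≠ b) (hg : g ∈ St G a b) (e : ∀ u ∈ U a, g * u = u * g) : g = 1 :=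
  h.t2.faith g fun c => by
    by_cases k : c = a
    · exact k ▸ hg.1
    · obtain ⟨u, hu, rfl⟩ := h.tr hab.symm k
      rw [← mul_smul, e u hu, mul_smul, hg.2]

theorem ld_card (k2 : Kit2.{u}) (h : Rg U) (hab : a ≠ b) {F : Type} [Field F] [Fintype F] {x y : F → G}
    {A B : Subgroup G} (hA : A ≤ U a) (hB : B ≤ U b) (l : LD x y A B a b) :
    Nat.card A ≠ Fintype.card F ^ 3 := by
  rw [(k2.bas h.sr hab hA hB l).2.1]
  have : 1 < Fintype.card F := Fintype.one_lt_card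
  intro e
  nth_rewrite 1 [← pow_one (Fintype.card F)] at e
  exact absurd (Nat.pow_right_injective this e) (by decide)

theorem h_mem {F : Type} [Field F] {x y : F → G} {A B : Subgroup G} (l : LD x y A B a b) (c : F) :
    sl2n x y c ∈ A ⊔ B ∧ sl2h x y c ∈ A ⊔ B := by
  have n : ∀ c, sl2n x y c ∈ A ⊔ B := fun c => mul_mem (mul_mem_sup ((l.rx _).2 ⟨_, rfl⟩) ((l.ry _).2 ⟨_, rfl⟩))
    (mem_sup_left ((l.rx _).2 ⟨_, rfl⟩))
  exact ⟨n c, mul_mem (n _) (n _)⟩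

theorem mem_fx1 : c ∈ Fx Ω {g} ↔ g • c = c := by simp

theorem fx_conj (e : Fx Ω {t} = {a, b}) (g : G) : Fx Ω {g * t * g⁻¹} = {g • a, g • b} := by
  ext c
  have := Set.ext_iff.1 e (g⁻¹ • c)
  simp only [mem_fx1, Set.mem_insert_iff, Set.mem_singleton_iff, inv_smul_eq_iff, mul_smul] at this ⊢
  rw [← this, ← eq_inv_smul_iff]

theorem cancel (h : t * t = 1) (x : G) : t * (t * x) = x := by rw [← mul_assoc, h, one_mul]

theorem conj_sq (h : t * t = 1) (e : IsConj t w) : w * w = 1 := by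
  obtain ⟨g, rfl⟩ := isConj_iff.1 e
  rw [conj_mul, h]; simp

theorem inv_of (h : Rg U) (ht : t • a = a) (tt : t * t = 1) (cu : CU U {t} a = ⊥) :
    ∀ u ∈ U a, t * u * t = u⁻¹ := fun u hu => by
  obtain ⟨v, -, rfl⟩ := exists_comm h ht (fun u hu e => mem_bot.1 (cu.le
    ⟨hu, mem_centralizer_singleton_iff.2 e.symm⟩)) hu
  simp only [mul_inv_rev, inv_inv, inv_eq_of_mul_eq_one_right tt, mul_assoc, tt, mul_one]

section II

variable (h : Core U) (hab : a ≠ b) (ht : t ∈ St G a b) (tt : t * t = 1) (cu : CU U {t} a = ⊥)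
include h hab ht tt cu

theorem uniq (hw : w ∈ St G a b) (w2 : w * w = 1) (cw : CU U {w} a = ⊥) : w = t := by
  refine (eq_inv_of_mul_eq_one_right (faith_U h.toRg hab (mul_mem ht hw) fun u hu => ?_)).trans
    (inv_eq_of_mul_eq_one_right tt)
  calc _ = t * (w * u * w) * t * (t * w) := by simp only [mul_assoc, cancel tt, w2, mul_one]
    _ = _ := by rw [inv_of h.toRg hw.1 w2 cw u hu, inv_of h.toRg ht.1 tt cu _ (inv_mem hu), inv_inv]

omit tt in
theorem fx_t : Fx Ω {t} = {a, b} := by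
  ext c
  rw [fx_mem h.toRg hab (Set.singleton_subset_iff.2 ht), cu]
  simp [eq_comm]

omit tt in
theorem fixJ (e : IsConj t w) : ∃ c d, c ≠ d ∧ Fx Ω {w} = {c, d} := by
  obtain ⟨g, rfl⟩ := isConj_iff.1 e
  exact ⟨_, _, (MulAction.injective g).ne hab, fx_conj (fx_t h hab ht cu) g⟩

theorem uJ (e : IsConj t w) (hw : w ∈ St G a b) : w = t := by
  obtain ⟨c, d, h1, h2⟩ := fixJ h hab ht cu e
  have := fx_card h.toRg hab (Set.singleton_subset_iff.2 hw)
  rw [h2, Set.ncard_pair h1] at this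
  exact uniq h hab ht tt cu hw (conj_sq tt e) (card_eq_one.1 (by omega))

theorem uJ' (e : IsConj t w) (e' : IsConj t w') (hcd : c ≠ d) (hw : w ∈ St G c d) (hw' : w' ∈ St G c d) :
    w = w' := by
  obtain ⟨g, rfl, rfl⟩ := h.t2.two hcd hab
  exact (MulAut.conj g).injective ((uJ h hab ht tt cu (e.trans (isConj_iff.2 ⟨g, rfl⟩)) (conj_mem_St g hw)).trans
    (uJ h hab ht tt cu (e'.trans (isConj_iff.2 ⟨g, rfl⟩)) (conj_mem_St g hw')).symm)

theorem commJ (e : IsConj t w) (hcd : c ≠ d) (hw : w ∈ St G c d) (hg : g ∈ St G c d ∨ Sw g c d) :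
    g * w = w * g := by
  refine mul_inv_eq_iff_eq_mul.1 (uJ' h hab ht tt cu (e.trans (isConj_iff.2 ⟨g, rfl⟩)) e hcd ?_ hw)
  rcases hg with k | k
  exacts [mul_mem (mul_mem k hw) (inv_mem k), swap_conj_mem k.1 k.2 hw]

theorem cent : g * t = t * g ↔ g ∈ St G a b ∨ Sw g a b := by
  refine ⟨fun e => ?_, commJ h hab ht tt cu (IsConj.refl t) hab ht⟩
  have k : ∀ c, t • c = c → g • c = a ∨ g • c = b := fun c hc =>
    (fx_t h hab ht cu).le (mem_fx1.2 (fix_of_comm e hc))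
  have n := (MulAction.injective g).ne hab
  rcases k a ht.1 with h1 | h1 <;> rcases k b ht.2 with h2 | h2
  exacts [absurd (h1.trans h2.symm) n, .inl ⟨h1, h2⟩, .inr ⟨h1, h2⟩, absurd (h1.trans h2.symm) n]

omit tt in
theorem t_ne (h1 : c ≠ a) (h2 : c ≠ b) : c ≠ t • c := fun e =>
  ((fx_t h hab ht cu).le (mem_fx1.2 e.symm)).elim h1 h2

theorem sc (h1 : c ≠ a) (h2 : c ≠ b) : ∃ s ∈ Jsw t a b, Fx Ω {s} = {c, t • c} ∧
    ∀ k ∈ St G a b, k • c = c → k * s = s * k := by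
  have n := t_ne h hab ht cu h1 h2
  obtain ⟨g, g1, g2⟩ := h.t2.two hab n
  have e : IsConj t (g * t * g⁻¹) := isConj_iff.2 ⟨g, rfl⟩
  have m : g * t * g⁻¹ ∈ St G c (t • c) := g2 ▸ g1 ▸ conj_mem_St g ht
  refine ⟨_, ⟨e, ((cent h hab ht tt cu).1 (commJ h hab ht tt cu e n m (.inr ⟨rfl, by
    rw [← mul_smul, tt, one_smul]⟩)).symm).resolve_left fun k => n ?_⟩, g2 ▸ g1 ▸ fx_conj (fx_t h hab ht cu) g,
    fun k hk e' => commJ h hab ht tt cu e n m (.inl ⟨e', fix_of_comm ((cent h hab ht tt cu).2 (.inl hk)).symm e'⟩)⟩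
  nth_rewrite 1 [← uJ h hab ht tt cu e k]
  exact m.1.symm

omit h ht tt cu in
theorem sw_ne (k : Sw s a b) (e : s • c = c) : c ≠ a ∧ c ≠ b :=
  ⟨fun f => hab (by rw [← k.1, ← f, e]), fun f => hab (by rw [← k.2, ← f, e])⟩

theorem typL (k2 : Kit2.{u}) (hX : X ⊆ St G a b) (h1 : ∃ g ∈ X, g ≠ 1) (h2 : CU U X a ≠ ⊥) : TL U X a b := by
  have ab : ∀ u ∈ U a, ∀ v ∈ U a, u * v = v * u := fun u hu v hv => by
    have i := inv_of h.toRg ht.1 tt cu
    rw [← inv_inj, ← i _ (mul_mem hu hv), mul_inv_rev, ← i u hu, ← i v hv]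
    simp only [mul_assoc, cancel tt]
  rcases h.loc X a b hab hX h1 h2 with ⟨h7, E, e⟩ | k | ⟨F, _, _, x, y, l, e, -⟩ | ⟨q, w, e⟩
  · have := (((k2.aa h.toRg hab hX e).2.2.2.2 t ht fun g hg => (cent h hab ht tt cu).2 (.inl (hX hg))).2.2 tt 1
      (card_eq_one.2 (eq_bot_iff.2 fun u hu => cu.le ⟨hu.1, mem_centralizer_singleton_iff.2
        (hu.2 t (Set.mem_insert _ _)).symm⟩))).1
    omega
  · exact k
  · refine absurd ?_ (ld_card k2 h.toRg hab (inf_le_left.trans inf_le_left) (inf_le_left.trans inf_le_left) l)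
    rwa [inf_eq_left.2 (show CU U X a ≤ centralizer (CU U X a : Set G) from fun u hu v hv => ab v hv.1 u hu.1)]
  · have := e.der
    obtain ⟨f, rfl⟩ := e.pow
    rw [commutator_eq_bot_iff_le_centralizer.2 (show CU U X a ≤ centralizer (CU U X a : Set G) from
      fun u hu v hv => ab v hv.1 u hu.1), card_bot] at this
    exact absurd this (Nat.one_lt_pow (by omega) (by decide)).not_ge

theorem mod4 (hw : w ∈ St G a b) (w2 : w * w = 1) : Nat.card (CU U {w} a) % 4 = 1 ∧ Nat.card Ω % 4 = 2 := by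
  have h1 := (par h.pre).2.2 t tt
  have h2 := (par h.pre).2.2 w w2
  rw [fx_t h hab ht cu, Set.ncard_pair hab] at h1
  rw [fx_card h.toRg hab (Set.singleton_subset_iff.2 hw)] at h2
  unfold Nat.ModEq at h1 h2
  omega

theorem psl (k2 : Kit2.{u}) (hX : X ⊆ St G a b) {F : Type} [Field F] [Fintype F] {x y : F → G}
    (l : LD x y (CU U X a) (CU U X b) a b) : sl2h x y (-1) = 1 := by
  by_contra z1
  obtain ⟨-, -, -, b4, -, b6, -, b8, -⟩ := k2.bas h.toRg.sr hab inf_le_left inf_le_left l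
  have zS := b4 (-1) (by simp)
  have x1 : x 1 ∈ CU U {sl2h x y (-1)} a := ⟨((l.rx _).2 ⟨1, rfl⟩).1, mem_centralizer_singleton_iff.2
    (b8 _ (mem_sup_left ((l.rx _).2 ⟨1, rfl⟩)))⟩
  have zX := Set.singleton_subset_iff.2 zS
  obtain ⟨K, _, _, x', y', l'⟩ := typL h hab ht tt cu k2 zX ⟨_, rfl, z1⟩ fun e => one_ne_zero (l.inj
    ((mem_bot.1 (e.le x1)).trans l.rel.x_zero.symm))
  obtain ⟨o1, c1, -, c4, -, c6, -⟩ := k2.bas h.toRg.sr hab inf_le_left inf_le_left l'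
  obtain ⟨c', e⟩ := (l'.rx _).1 x1
  have c0 : c' ≠ 0 := fun f => one_ne_zero (l.inj (by rw [← e, f, l'.rel.x_zero, l.rel.x_zero]))
  have ez : sl2h x' y' (-1) = sl2h x y (-1) := by
    rw [← c6 c' c0, ← b6 1 one_ne_zero, k2.mu h.toRg.sr hab inf_le_left inf_le_left inf_le_left inf_le_left l l' 1 c'
      one_ne_zero e.symm]
  have z2 : sl2h x y (-1) * sl2h x y (-1) = 1 := by
    rw [l.rel.h_mul' (by simp) (by simp), neg_mul_neg, one_mul, l.rel.h_one]
  generalize sl2h x y (-1) = ζ at *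
  have sq : IsSquare (-1 : K) := FiniteField.isSquare_neg_one_iff.2 (by
    rw [← c1, (mod4 h hab ht tt cu zS z2).1]; decide)
  obtain ⟨i, hi⟩ := sq
  have i0 : i ≠ 0 := fun f => by simp [f] at hi
  have xm : ∀ c, x' c ∈ CU U {ζ} a := fun c => (l'.rx _).2 ⟨c, rfl⟩
  have n : ∀ c, x' c • b = x' 1 • b → c = 1 := fun c f => l'.inj (reg_eq h.toRg hab (xm _).1 (xm _).1 f)
  obtain ⟨s, hs, f, hc⟩ := sc h hab ht tt cu (c := x' 1 • b) (fun f => hab (by
      rw [← inv_smul_smul (x' 1) b, f, h.fix a _ (inv_mem (xm 1).1)]))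
    fun f => zero_ne_one (n 0 (by rw [l'.rel.x_zero, one_smul, f]))
  have sz := hc ζ zS (fix_of_comm (mem_centralizer_singleton_iff.1 (xm 1).2) zS.2)
  obtain ⟨μ, -, m1, m2, m3⟩ := k2.swp h.toRg hab zX l' s (centralizer_le_normalizer _
    (mem_centralizer_singleton_iff.2 sz.symm)) hs.2 (fun c _ => by rw [← mul_smul, conj_sq tt hs.1, one_smul])
    ((Set.ncard_le_ncard (s := Fx Ω (insert s {ζ})) (t := Fx Ω {s}) (fun c k => mem_fx1.2 (k s (Set.mem_insert _ _)))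
      (f ▸ Set.toFinite _)).trans (by rw [f]; exact (Set.ncard_insert_le _ _).trans (by simp)))
  have μ1 : μ = i * i := by
    have := n _ ((m1 1 one_ne_zero).symm.trans (mem_fx1.1 (f.ge (Set.mem_insert _ _))))
    rw [← hi, ← this]; simp
  obtain ⟨g, hg, e2⟩ := m3.2 ⟨i, μ1⟩
  have τL : sl2h x' y' i ∈ LX U {ζ} := k2.lx h.toRg hab zX l' ▸ (h_mem l' i).2
  have τS := c4 i i0
  have k0 := lx_comm h.toRg hab zX ((sl2h x' y' i)⁻¹ * t) ((kit1.fx h.toRg hab zX).2.2.2.2.2.2.1 _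
    (mul_mem (inv_mem τS) ht) fun u hu => by
      obtain ⟨c, rfl⟩ := (l'.rx u).1 hu
      have e1 := inv_of h.toRg ht.1 tt cu _ (xm c).1
      have e2 := l'.rel.h_mul_x i0 c
      rw [sq, ← hi, neg_one_mul, ← inv_eq_of_mul_eq_one_right ((l'.rel.x_add c (-c)).trans
        (by rw [add_neg_cancel, l'.rel.x_zero])), ← e1] at e2
      calc _ = (sl2h x' y' i)⁻¹ * (t * x' c * t * sl2h x' y' i) * ((sl2h x' y' i)⁻¹ * t) := by
            simp only [mul_assoc, mul_inv_cancel_left, tt, mul_one]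
        _ = _ := by rw [← e2, inv_mul_cancel_left]) g hg
  have kf : ∀ c ∈ Fx Ω {ζ}, (g⁻¹ * s) • c = c := fun c hc => by rw [mul_smul, e2 c hc, inv_smul_smul]
  have k1 : Commute (g⁻¹ * s) (sl2h x' y' i) := lx_comm h.toRg hab zX _ kf _ τL
  have k2' : Commute (g⁻¹ * s) t := (cent h hab ht tt cu).2 (.inl ⟨kf a (mem_fx1.2 zS.1), kf b (mem_fx1.2 zS.2)⟩)
  have k3 : Commute s ((sl2h x' y' i)⁻¹ * t) := by
    simpa using (show Commute g _ from k0.symm).mul_left (k1.inv_right.mul_right k2')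
  have k4 : Commute s (sl2h x' y' i) := by
    simpa using (k3.mul_right (show Commute s t from (cent h hab ht tt cu).2 (.inr hs.2)).inv_right).inv_right
  refine z1 ?_
  rw [← ez, hi, ← l'.rel.h_mul' i0 i0]
  nth_rewrite 2 [← mul_inv_cancel_right (sl2h x' y' i) s]
  rw [← k4.eq, m2 i i0, l'.rel.h_mul' i0 (inv_ne_zero i0), mul_inv_cancel₀ i0, l'.rel.h_one]

end II

theorem jobII0 (k2 : Kit2.{u}) : JobII0.{u} := by
  intro G Ω _ _ _ U a b t h hab ht o cu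
  have tt : t * t = 1 := by rw [← sq, ← o, pow_orderOf_eq_one]
  have := h.t2.finite
  have cJ : ∀ x ∈ {x | IsConj t x}, ∀ g : G, g * x * g⁻¹ ∈ {x | IsConj t x} := fun x hx g =>
    IsConj.trans hx (isConj_iff.2 ⟨g, rfl⟩)
  have fJ : ∀ x ∈ {x | IsConj t x}, Nat.card {c : Ω // x • c = c} = 2 := fun x hx => by
    obtain ⟨c, d, h1, h2⟩ := fixJ h hab ht cu hx
    rw [← Set.ncard_pair h1, ← h2, ← Nat.card_coe_set_eq]
    exact Nat.card_congr (Equiv.subtypeEquivRight fun _ => mem_fx1.symm)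
  have c1 := h.t2.count_two _ cJ fJ hab
  have c2 := h.t2.count_move _ cJ fJ hab
  rw [show {x | x ∈ {x | IsConj t x} ∧ x ∈ St G a b} = {t} from Set.eq_singleton_iff_unique_mem.2
    ⟨⟨IsConj.refl t, ht⟩, fun x hx => uJ h hab ht tt cu hx.1 hx.2⟩, Set.ncard_singleton] at c1
  rw [show {x | x ∈ {x | IsConj t x} ∧ x • a = b} = Jsw t a b from Set.ext fun x => ⟨fun k => ⟨k.1, k.2, by
    rw [← k.2, ← mul_smul, conj_sq tt k.1, one_smul]⟩, fun k => ⟨k.1, k.2.1⟩⟩] at c2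
  have m := (mod4 h hab ht tt cu ht tt).2
  have c3 := ncard_conj_mul ⊤ t
  rw [show {x | ∃ h ∈ (⊤ : Subgroup G), h * t * h⁻¹ = x} = {x | IsConj t x} from Set.ext fun x => by
    simp [isConj_iff], top_inf_eq, card_top, ← (centralizer {t}).index_mul_card] at c3
  replace c3 := Nat.eq_of_mul_eq_mul_right Nat.card_pos c3
  have n2 := h.t2.two_lt
  refine ⟨h, hab, ht, o, cu, simple_of h ht.1 (fun u hu e => mem_bot.1 (cu.le
      ⟨hu, mem_centralizer_singleton_iff.2 e.symm⟩)) ⟨t, 1, tt, by simp, by simp⟩, inv_of h.toRg ht.1 tt cu,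
    inv_of h.toRg ht.2 tt (card_eq_one.1 (by
      rw [← (kit1.fx h.toRg hab (Set.singleton_subset_iff.2 ht)).2.2.1, cu, card_bot])),
    fun g => cent h hab ht tt cu, fun w => uniq h hab ht tt cu, fun w => fixJ h hab ht cu,
    fun c => sc h hab ht tt cu, fun s hs => ?_, fun s hs s' hs' c e e' => ?_, ?_, m, ?_,
    fun X hX h1 h2 => let ⟨F, i1, i2, x, y, l⟩ := typL h hab ht tt cu k2 hX h1 h2
      ⟨F, i1, i2, x, y, l, psl h hab ht tt cu k2 hX l⟩⟩
  · obtain ⟨c, d, h1, h2⟩ := fixJ h hab ht cu hs.1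
    have hc := mem_fx1.1 (h2.ge (Set.mem_insert _ _))
    have n := sw_ne hab hs.2 hc
    exact ⟨c, n.1, n.2, by rw [h2, (h2.le (mem_fx1.2 (fix_of_comm ((cent h hab ht tt cu).2 (.inr hs.2)).symm
      hc))).resolve_left (t_ne h hab ht cu n.1 n.2).symm]⟩
  · have n := sw_ne hab hs.2 e
    exact uJ' h hab ht tt cu hs.1 hs'.1 (t_ne h hab ht cu n.1 n.2)
      ⟨e, fix_of_comm ((cent h hab ht tt cu).2 (.inr hs.2)).symm e⟩
      ⟨e', fix_of_comm ((cent h hab ht tt cu).2 (.inr hs'.2)).symm e'⟩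
  · rw [mul_one] at c1
    rw [← c1, mul_assoc] at c2
    have := Nat.eq_of_mul_eq_mul_left (c3 ▸ Nat.pos_of_ne_zero index_ne_zero_of_finite) c2
    omega
  · rw [← c3]
    obtain ⟨k, hk⟩ : ∃ k, Nat.card Ω = 4 * k + 2 := ⟨Nat.card Ω / 4, by omega⟩
    rw [hk, show 4 * k + 2 - 1 = 4 * k + 1 from rfl] at c1
    exact ⟨4 * k * k + 3 * k, by nlinarith⟩

end H89.HK
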