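/- Quasisimple generalized Fitting subgroups of permutation groups containing a Sylow 2-subgroup of
the alternating group. -/
import Cfsg.Agent.H72.Alt3
import Cfsg.Agent.H89.Prim

set_option autoImplicit false
set_option linter.unusedSectionVars false

namespace H89.A2

open Subgroup Equiv Equiv.Perm H98
open scoped commutatorElement

variable {α : Type*} [Fintype α] [DecidableEq α] {H L : Subgroup (Perm α)} {μ ν : Perm α}
  {f f' x y : α}

theorem card_le (l : List α) (h : ∀ x, x ∈ l) : Fintype.card α ≤ l.length :=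
  (Finset.card_le_card fun x _ => List.mem_toFinset.2 (h x)).trans (List.toFinset_card_le l)

theorem ex_not (l : List α) (h : l.length < Fintype.card α) : ∃ y, y ∉ l := by
  by_contra k
  push Not at k
  exact absurd (card_le l k) (by omega)

theorem ai (g : Perm α) (x : α) : g (g⁻¹ x) = x := g.apply_symm_apply x

/-- The permutations that preserve every cycle of the involution `μ`. -/
def km (μ : Perm α) (h : ∀ x, μ (μ x) = x) : Subgroup (Perm α) where
  carrier := {g | ∀ x, g x = x ∨ g x = μ x}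
  one_mem' := fun _ => Or.inl rfl
  mul_mem' := fun {a b} ha hb x => by
    rw [mul_apply]
    rcases hb x with e | e <;> rw [e]
    · exact ha x
    · exact (ha (μ x)).symm.imp_left fun k => k.trans (h x)
  inv_mem' := fun {a} ha x => by
    rcases ha (a⁻¹ x) with e | e <;> rw [ai] at e
    · exact Or.inl e.symm
    · exact Or.inr ((h _).symm.trans (congrArg μ e.symm))

theorem km_sq {h : ∀ x, μ (μ x) = x} {g : Perm α} (hg : g ∈ km μ h) : g * g = 1 := by
  ext x
  rw [mul_apply, one_apply]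
  rcases hg x with e | e
  · rw [e, e]
  · rcases hg (μ x) with k | k
    · rw [g.injective (k.trans e.symm)] at e
      rw [e, e]
    · rw [e, k, h]

theorem km_comm {h : ∀ x, μ (μ x) = x} {a b : Perm α} (ha : a ∈ km μ h) (hb : b ∈ km μ h) :
    a * b = b * a := by
  rw [eq_inv_of_mul_eq_one_left (km_sq (mul_mem ha hb)), mul_inv_rev,
    inv_eq_of_mul_eq_one_right (km_sq ha), inv_eq_of_mul_eq_one_right (km_sq hb)]

theorem sw_mem (h : ∀ x, μ (μ x) = x) (x : α) : swap x (μ x) ∈ km μ h := fun w => by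
  by_cases k1 : w = x
  · exact Or.inr (by rw [k1, swap_apply_left])
  by_cases k2 : w = μ x
  · exact Or.inr (by rw [k2, swap_apply_right, h])
  · exact Or.inl (swap_apply_of_ne_of_ne k1 k2)

/-- The product of two transpositions of `μ`. -/
def tt (μ : Perm α) (x y : α) : Perm α := swap x (μ x) * swap y (μ y)

theorem tt_supp {w : α} (h : tt μ x y w ≠ w) : w ∈ [x, μ x, y, μ y] := by
  by_contra k
  simp only [List.mem_cons, List.not_mem_nil, or_false, not_or] at k
  exact h (by rw [tt, mul_apply, swap_apply_of_ne_of_ne k.2.2.1 k.2.2.2,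
    swap_apply_of_ne_of_ne k.1 k.2.1])

theorem tt_ne (h : ∀ x, μ (μ x) = x) (hx : μ x ≠ x) (h1 : y ≠ x) (h2 : y ≠ μ x) :
    tt μ x y x ≠ x := by
  rwa [tt, mul_apply, swap_apply_of_ne_of_ne h1.symm (fun e => h2 (by rw [e, h])), swap_apply_left]

/-- `H` contains the even permutations preserving the cycles of the matching `μ`. -/
structure Mt (H : Subgroup (Perm α)) (μ : Perm α) (f : α) : Prop where
  sq : ∀ x, μ (μ x) = x
  fix : ∀ x, μ x = x → x = f
  mem : ∀ g : Perm α, (∀ x, g x = x ∨ g x = μ x) → sign g = 1 → g ∈ H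

theorem Mt.cj {K : Subgroup (Perm α)} (M : Mt K μ f) {g : Perm α} (h : cj g K ≤ H) :
    Mt H (g * μ * g⁻¹) (g f) where
  sq x := by simp [M.sq]
  fix x e := by
    rw [← M.fix (g⁻¹ x) (g.injective (by simpa using e)), ai]
  mem a ha hs := by
    have := h (conj_mem_cj (g := g) (M.mem (g⁻¹ * a * g) (fun x => (ha (g x)).imp
      (fun e => by simp [e]) fun e => by simp [e]) (by simp [hs])))
    simpa [mul_assoc] using this

theorem Mt.conj (M : Mt H μ f) {g : Perm α} (h : g ∈ H) : Mt H (g * μ * g⁻¹) (g f) :=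
  M.cj (cj_eq_self (le_normalizer h)).le

theorem Mt.tt_mem (M : Mt H μ f) (hx : μ x ≠ x) (hy : μ y ≠ y) : tt μ x y ∈ H :=
  M.mem _ (mul_mem (sw_mem M.sq x) (sw_mem M.sq y)) (by
    rw [tt, Perm.sign_mul, sign_swap hx.symm, sign_swap hy.symm]; rfl)

section No3

variable (n3 : ∀ g ∈ H, ¬ IsThreeCycle g) (M : Mt H μ f) (N : Mt H ν f')
include n3 M N

theorem core (hx : ν x ≠ x) (hy : ν y ≠ y) (h1 : y ≠ x) (h2 : y ≠ ν x)
    (hu : μ x ∉ [x, ν x, y, ν y]) (v : α) :
    v = f ∨ v ∈ [x, ν x, y, ν y] ∨ μ v ∈ [x, ν x, y, ν y] := by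
  by_contra k
  simp only [not_or] at k
  obtain ⟨k0, k1, k2⟩ := k
  have m0 : x ∈ [x, ν x, y, ν y] := List.mem_cons_self
  have hx' : μ x ≠ x := fun e => hu (e.symm ▸ m0)
  have a := N.tt_mem hx hy
  have b := M.tt_mem hx' (mt (M.fix v) k0)
  refine n3 _ (mul_mem (mul_mem (mul_mem a b) (inv_mem a)) (inv_mem b))
    (H89.isThreeCycle_commutator (tt_ne N.sq hx h1 h2)
      (tt_ne M.sq hx' (fun e => k1 (e ▸ m0)) fun e => hu (e ▸ absurd (by rw [e, M.sq]; exact m0) k2))
      fun w hw => ?_)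
  by_contra r
  simp only [not_or] at r
  have r1 := tt_supp r.1
  have r2 := tt_supp r.2
  simp only [List.mem_cons, List.not_mem_nil, or_false] at r2
  rcases r2 with rfl | rfl | rfl | rfl
  exacts [hw rfl, hu r1, k1 r1, k2 r1]

theorem fix_of (h8 : 8 ≤ Fintype.card α) (h : μ x = x) : ν x = x := by
  by_contra k
  obtain ⟨y, hy⟩ := ex_not [x, ν x, μ (ν x), ν (μ (ν x)), f'] (by simp; omega)
  simp only [List.mem_cons, List.not_mem_nil, or_false, not_or] at hy
  obtain ⟨y1, y2, y3, y4, y5⟩ := hy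
  have e := M.fix x h
  have := card_le [ν x, x, y, ν y, μ (ν x), μ y, μ (ν y)] fun v => by
    have := core n3 M N (x := ν x) (y := y) (by rw [N.sq]; exact Ne.symm k) (mt (N.fix y) y5) y2
      (by rwa [N.sq]) (by
        simp only [List.mem_cons, List.not_mem_nil, or_false, not_or, N.sq]
        exact ⟨fun r => k ((M.fix _ r).trans e.symm), fun r => k (μ.injective (r.trans h.symm)),
          Ne.symm y3, fun r => y4 (by rw [r, N.sq])⟩) v
    simp only [List.mem_cons, List.not_mem_nil, or_false, N.sq] at this ⊢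
    rw [← M.sq v]
    rcases this with r | (r | r | r | r) | r | r | r | r <;> simp [r, M.sq, h, ← e]
  simp at this
  omega

theorem comm_of (h8 : 8 ≤ Fintype.card α) : μ * ν = ν * μ := by
  ext x
  rw [mul_apply, mul_apply]
  by_cases h1 : μ x = x
  · rw [h1, fix_of n3 M N h8 h1, h1]
  have h2 : ν x ≠ x := mt (fix_of n3 N M h8) h1
  by_cases h3 : ν x = μ x
  · rw [h3, M.sq, ← h3, N.sq]
  by_contra k
  have := card_le [ν x, x, μ x, ν (μ x), μ (ν x), μ (ν (μ x)), f] fun v => by
    have := core n3 M N (x := ν x) (y := μ x) (by rw [N.sq]; exact h2.symm)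
      (fun r => h1 ((M.sq x).symm.trans (fix_of n3 N M h8 r)).symm) (Ne.symm h3)
      (by rwa [N.sq]) (by
        simp only [List.mem_cons, List.not_mem_nil, or_false, not_or, N.sq]
        exact ⟨fun r => h2 ((N.sq x).symm.trans (fix_of n3 M N h8 r)).symm,
          fun r => h3 (by rw [← M.sq (ν x), r]), fun r => h2 (μ.injective r), k⟩) v
    simp only [List.mem_cons, List.not_mem_nil, or_false, N.sq] at this ⊢
    rw [← M.sq v]
    rcases this with r | (r | r | r | r) | r | r | r | r <;> simp [r, M.sq]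
  simp at this
  omega

theorem eq_of (h10 : 10 ≤ Fintype.card α) : ν = μ := by
  ext x
  by_cases h1 : μ x = x
  · rw [h1, fix_of n3 M N (by omega) h1]
  have h2 : ν x ≠ x := mt (fix_of n3 N M (by omega)) h1
  by_contra k
  obtain ⟨y, hy⟩ := ex_not [x, ν x, μ x, ν (μ x), f'] (by simp; omega)
  simp only [List.mem_cons, List.not_mem_nil, or_false, not_or] at hy
  obtain ⟨y1, y2, y3, y4, y5⟩ := hy
  have := card_le [x, ν x, y, ν y, μ x, μ (ν x), μ y, μ (ν y), f] fun v => by
    have := core n3 M N h2 (mt (N.fix y) y5) y1 y2 (by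
        simp only [List.mem_cons, List.not_mem_nil, or_false, not_or]
        exact ⟨h1, Ne.symm k, Ne.symm y3, fun r => y4 (by rw [r, N.sq])⟩) v
    simp only [List.mem_cons, List.not_mem_nil, or_false] at this ⊢
    rw [← M.sq v]
    rcases this with r | (r | r | r | r) | r | r | r | r <;> simp [r, M.sq]
  simp at this
  omega

end No3

/-- An abelian subgroup of `H` normalised by `L` is centralised by `L`. -/
theorem cen_ab (hq : Cfsg.IsQuasisimple L) (hn : H ≤ normalizer (L : Set (Perm α)))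
    {A : Subgroup (Perm α)} (hA : A ≤ H) (hL : L ≤ normalizer (A : Set (Perm α)))
    (hc : ∀ a ∈ A, ∀ b ∈ A, a * b = b * a) : ∀ a ∈ A, ∀ l ∈ L, a * l = l * a := by
  rcases H14.quasi_sub_normalized hq hL with h | h
  · exact fun a ha l hl => hc a ha l (h hl)
  refine H14.commutator_eq_bot_iff_comm.1 (H14.commutator_eq_bot_of_perfect
    (H14.quasi_sub_perfect hq) (H14.commutator_eq_bot_mono h (commutator_le.2 fun a ha l hl => ?_)
      le_rfl))
  rw [commutatorElement_def]
  exact mem_inf.2 ⟨by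
    simpa [mul_assoc] using mul_mem ha (conj_mem_of_mem_normalizer (hL hl) (inv_mem ha)),
    mul_mem (conj_mem_of_mem_normalizer (hn (hA ha)) hl) (inv_mem hl)⟩

theorem exists_three (hq : Cfsg.IsQuasisimple L) (hn : H ≤ normalizer (L : Set (Perm α)))
    (hLH : L ≤ H) (M : Mt H μ f) (h8 : 8 ≤ Fintype.card α)
    (h : 10 ≤ Fintype.card α ∨ sign μ = 1) : ∃ g ∈ H, IsThreeCycle g := by
  by_contra n3
  push Not at n3
  have c1 : ∀ l ∈ L, μ * l = l * μ := by
    rcases h with h | h
    · exact fun l hl => (mul_inv_eq_iff_eq_mul.1 (eq_of n3 M (M.conj (hLH hl)) h)).symm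
    have hm := M.mem μ (fun _ => Or.inr rfl) h
    refine cen_ab hq hn (A := closure {a | ∃ g ∈ H, a = g * μ * g⁻¹}) ((closure_le _).2 ?_)
      (le_normalizer_closure_iff.2 ?_) (fun a ha b hb => ?_) μ (subset_closure ⟨1, one_mem _, by simp⟩)
    · rintro _ ⟨g, hg, rfl⟩
      exact mul_mem (mul_mem hg hm) (inv_mem hg)
    · rintro l hl _ ⟨g, hg, rfl⟩
      exact subset_closure ⟨l * g, mul_mem (hLH hl) hg, by group⟩
    · refine closure_induction₂ (p := fun a b _ _ => Commute a b) ?_ (fun _ _ => .one_left _)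
        (fun _ _ => .one_right _) (fun _ _ _ _ _ _ => .mul_left) (fun _ _ _ _ _ _ => .mul_right)
        (fun _ _ _ _ => .inv_left) (fun _ _ _ _ => .inv_right) ha hb
      rintro _ _ ⟨g, hg, rfl⟩ ⟨k, hk, rfl⟩
      exact comm_of n3 (M.conj hg) (M.conj hk) h8
  have c2 : ∀ l ∈ L, ∀ x, μ (l x) = l (μ x) := fun l hl x => DFunLike.congr_fun (c1 l hl) x
  have c3 := cen_ab hq hn (A := km μ M.sq ⊓ H) inf_le_right (le_normalizer_inf
    (fun l hl => mem_normalizer_of_cj_le (by
      rintro _ ⟨a, ha, rfl⟩ x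
      change l (a (l⁻¹ x)) = x ∨ l (a (l⁻¹ x)) = μ x
      exact (ha (l⁻¹ x)).imp (fun e => by rw [e, ai]) fun e => by rw [e, ← c2 l hl, ai]))
    (hLH.trans le_normalizer)) fun a ha b hb => km_comm ha.1 hb.1
  have c4 : L ≤ km μ M.sq := fun l hl x => by
    by_cases h1 : μ x = x
    · exact Or.inl ((M.fix _ (by rw [c2 l hl, h1])).trans (M.fix x h1).symm)
    obtain ⟨y, hy⟩ := ex_not [x, μ x, f, l x, μ (l x)] (by simp; omega)
    simp only [List.mem_cons, List.not_mem_nil, or_false, not_or] at hy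
    obtain ⟨y1, y2, y3, y4, y5⟩ := hy
    have k : tt μ x y (l x) = l (tt μ x y x) := DFunLike.congr_fun (c3 _
      ⟨mul_mem (sw_mem M.sq x) (sw_mem M.sq y), M.tt_mem h1 (mt (M.fix y) y3)⟩ l hl) x
    have := tt_supp (k ▸ l.injective.ne (tt_ne M.sq h1 y1 y2))
    simp only [List.mem_cons, List.not_mem_nil, or_false] at this
    rcases this with r | r | r | r
    exacts [Or.inl r, Or.inr r, absurd r.symm y4, absurd (by rw [r, M.sq]) y5]
  exact H14.quasi_sub_commutator_ne_bot hq (H14.commutator_eq_bot_iff_comm.2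
    fun a ha b hb => km_comm (c4 ha) (c4 hb))

theorem main (hq : Cfsg.IsQuasisimple L) (hn : H ≤ normalizer (L : Set (Perm α))) (hLH : L ≤ H)
    (hC : ∀ h ∈ H, (∀ l ∈ L, h * l = l * h) → h ∈ L) {P : Subgroup (Perm α)}
    (sy : IsSyl 2 P (alternatingGroup α)) (hP : P ≤ H) (h8 : 8 ≤ Fintype.card α)
    (sq : ∀ x, μ (μ x) = x) (fix : ∀ x, μ x = x → x = f) (h : 10 ≤ Fintype.card α ∨ sign μ = 1) :
    ∃ m, Fintype.card α ≤ m + 3 ∧ m ≤ Fintype.card α ∧ Nonempty (L ≃* alternatingGroup (Fin m)) := by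
  haveI : Fact (Nat.Prime 2) := ⟨Nat.prime_two⟩
  obtain ⟨g, -, hg⟩ := sy.exists_cj_le (Q := km μ sq ⊓ alternatingGroup α)
    (isPGroup_iff_forall.2 fun a ha => ⟨1, by rw [pow_one, pow_two, km_sq ha.1]⟩) inf_le_right
  obtain ⟨t, ht, h3⟩ := exists_three hq hn hLH
    ((⟨sq, fix, fun _ a b => ⟨a, b⟩⟩ : Mt (km μ sq ⊓ alternatingGroup α) μ f).cj (hg.trans hP)) h8
    (h.imp_right fun e => by simp [e])
  obtain ⟨s, h5, e⟩ := H72.A3.alt_of hq hn hLH hC h3 ht
  refine ⟨s.card, ?_, s.card_le_univ, ⟨(MulEquiv.subgroupCongr e).trans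
    ((equivMapOfInjective _ _ ofSubtype_injective).symm.trans
      (Equiv.altCongrHom s.equivFin))⟩⟩
  by_contra hlt
  have out : ∀ l ∈ L, ∀ x ∉ s, l x = x := fun l hl x hx => by
    obtain ⟨k, -, rfl⟩ := e.le hl
    exact ofSubtype_apply_of_not_mem k hx
  have ins : ∀ x ∈ s, ∃ l ∈ L, l x ≠ x := fun x hx => by
    obtain ⟨y, hy, ne⟩ := s.exists_mem_ne (by omega) x
    obtain ⟨k, hk⟩ := (alternatingGroup.isPretransitive_of_three_le_card {x // x ∈ s}
      (by simp; omega)).exists_smul_eq ⟨x, hx⟩ ⟨y, hy⟩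
    refine ⟨ofSubtype k.1, e.ge ⟨k, k.2, rfl⟩, ?_⟩
    rw [ofSubtype_apply_of_mem _ hx, show k.1 ⟨x, hx⟩ = ⟨y, hy⟩ from hk]; exact ne
  have pres : ∀ h ∈ H, ∀ x ∈ s, h x ∈ s := fun h hh x hx => by
    obtain ⟨l, hl, ne⟩ := ins x hx
    by_contra h1
    have := out _ ((mem_normalizer_iff.1 (hn hh) l).1 hl) _ h1
    exact ne (by simpa using this)
  let M : Subgroup (Perm α) :=
    { carrier := {g | ∀ x, g x ∈ s ↔ x ∈ s}
      one_mem' := fun _ => Iff.rfl
      mul_mem' := fun ha hb x => (ha _).trans (hb x)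
      inv_mem' := fun {a} ha x => by rw [← ha]; simp }
  have HM : H ≤ M := fun h hh x =>
    ⟨fun hx => by simpa using pres _ (inv_mem hh) _ hx, pres h hh x⟩
  obtain ⟨u, hu, h4⟩ := Finset.exists_subset_card_eq (s := sᶜ) (n := 4)
    (by rw [Finset.card_compl]; omega)
  obtain ⟨a, b, c, d, ab, ac, ad, bc, bd, cd, rfl⟩ := Finset.card_eq_four.1 h4
  simp only [Finset.insert_subset_iff, Finset.singleton_subset_iff, Finset.mem_compl] at hu
  obtain ⟨ha, hb, hc, hd⟩ := hu
  have fx : ∀ x ∈ s, (swap a b * swap c d) x = x := fun x hx => by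
    rw [mul_apply, swap_apply_of_ne_of_ne (a := c), swap_apply_of_ne_of_ne] <;>
      (rintro rfl; contradiction)
  have s2 : (swap a b * swap c d) ^ 2 = 1 := by
    rw [(Perm.Disjoint.commute (disjoint_swap_swap (by simp [*]))).mul_pow, pow_two, pow_two,
      swap_mul_self, swap_mul_self, one_mul]
  obtain ⟨g, hg, ht⟩ := (sy.of_le (le_inf (hP.trans HM) sy.le) inf_le_right).exists_cj_le
    (isPGroup_zpowers (k := 1) (by rw [pow_one, s2])) (zpowers_le.2 (mem_inf.2 ⟨fun x => ⟨fun hx => by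
      rwa [(swap a b * swap c d).injective (fx _ hx)] at hx, fun hx => by rwa [fx x hx]⟩, by
      rw [mem_alternatingGroup, Perm.sign_mul, sign_swap ab, sign_swap cd]; rfl⟩))
  have f2 : ∀ x ∈ s, (g * (swap a b * swap c d) * g⁻¹) x = x := fun x hx => by
    rw [mul_apply, mul_apply, fx _ ((M.inv_mem hg.1 x).2 hx), ai]
  have cm : ∀ l ∈ L, g * (swap a b * swap c d) * g⁻¹ * l = l * (g * (swap a b * swap c d) * g⁻¹) :=
    fun l hl => Perm.Disjoint.commute fun x => by
      by_cases hx : x ∈ s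
      exacts [Or.inl (f2 x hx), Or.inr (out l hl x hx)]
  have := out _ (hC _ (hP (ht (conj_mem_cj (mem_zpowers _)))) cm) (g a) (mt (hg.1 a).1 ha)
  rw [mul_apply, mul_apply, show g⁻¹ (g a) = a from g.symm_apply_apply a, g.injective.eq_iff,
    mul_apply, swap_apply_of_ne_of_ne ac ad, swap_apply_left] at this
  exact ab this.symm

end H89.A2
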