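import Cfsg.Agent.H41.C3Spec
import Cfsg.Agent.H21.McA
import Cfsg.Agent.H2.CoreFree
import Cfsg.Agent.H9.ExtraAut
import Cfsg.Agent.H78.XSMap
import Cfsg.Agent.H78.Card

/-! CO2T tower: calculus in `C(z) = 3^(1+4).2^(1+4).A5`, with `z` central. -/

set_option autoImplicit false
open Cfsg H56.L3 H42.L3 H98 Subgroup
open scoped commutatorElement

namespace H89.C3

variable {Γ Y : Type*} [Group Γ] [Finite Γ] [Group Y]

/-- `Q` is a normal extraspecial subgroup of order `243` with central `z`, `μ` is the map mod `z`. -/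
structure QZ (z : Γ) (Q : Subgroup Γ) (μ : Γ →* Y) : Prop where
  ord : orderOf z = 3
  zc : ∀ g, g * z = z * g
  zQ : z ∈ Q
  Qn : Q.Normal
  ex : IsExtraspecial 3 Q
  cardQ : Nat.card Q = 243
  ker : ∀ g, μ g = 1 ↔ g ∈ zpowers z

/-- elements acting trivially on `Q / Z` -/
def KK (Q : Subgroup Γ) (μ : Γ →* Y) : Subgroup Γ := (centralizer (Q.map μ : Set Y)).comap μ

omit [Finite Γ] in
theorem mem_KK {Q : Subgroup Γ} {μ : Γ →* Y} {g : Γ} :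
    g ∈ KK Q μ ↔ ∀ q ∈ Q, μ q * μ g = μ g * μ q :=
  ⟨fun h q hq => h _ ⟨q, hq, rfl⟩, fun h _ ⟨q, hq, e⟩ => e ▸ h q hq⟩

theorem modEq5 {l : Γ} (h5 : l ^ 5 = 1) {U : Subgroup Γ} (hU : l ∈ nr U) :
    Nat.card U % 5 = Nat.card (U ⊓ Ce l : Subgroup Γ) % 5 := by
  have := Fact.mk Nat.prime_five
  have := H2.card_modEq_card_inf_centralizer (isPGroup_zpowers (p := 5) (k := 1) h5)
    (zpowers_le.2 hU)
  rwa [zpowers_eq_closure, centralizer_closure] at this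

theorem frat_inv {A : Type*} [Group A] {p : ℕ} [Fact p.Prime] (π : Γ →* A) (L : Subgroup Γ)
    (hL : ∀ α, ∃ l ∈ L, π l = α) {ω β : A} (hω : ω ^ p = 1) (hβ : β * ω * β⁻¹ = ω⁻¹) (h2 : β * β = 1) :
    ∃ P : Subgroup Γ, IsPGroup p P ∧ ∃ x ∈ P ⊓ L, ∃ f ∈ L ⊓ nr P, π x = ω ∧
      π (f * x * f⁻¹ * x) = 1 ∧ π (f * f) = 1 := by
  obtain ⟨P, hP⟩ := exists_isSyl p (L ⊓ (zpowers ω).comap π)
  have h1 : (L ⊓ (zpowers ω).comap π).map π = zpowers ω := le_antisymm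
    (map_le_iff_le_comap.2 inf_le_right) fun α hα => by
      obtain ⟨l, hl, rfl⟩ := hL α; exact ⟨l, ⟨hl, hα⟩, rfl⟩
  have h3 := hP.map π
  rw [h1] at h3
  obtain ⟨x, hx, e⟩ := (h3.eq_of_isPGroup (isPGroup_zpowers (k := 1) (by simpa))).ge (mem_zpowers ω)
  have h4 : ∀ α ∈ zpowers ω, β * α * β⁻¹ = α⁻¹ := by
    rintro _ ⟨k, rfl⟩; simp only [← conj_zpow, hβ, inv_zpow]
  obtain ⟨g, hg, rfl⟩ := hL β
  obtain ⟨f, hf, n, hn, rfl⟩ := hP.frattini_mem (g := g) (mem_normalizer_of_cj_le (by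
    rintro _ ⟨y, hy, rfl⟩
    refine ⟨L.mul_mem (L.mul_mem hg hy.1) (L.inv_mem hg), ?_⟩
    change π (g * y * g⁻¹) ∈ zpowers ω
    rw [map_mul, map_mul, map_inv, h4 _ hy.2]
    exact inv_mem hy.2))
  have h5 : π n * ω = ω * π n := by
    obtain ⟨k, hk⟩ := hn.2
    rw [← hk]; exact (Commute.self_zpow ω k).symm
  have h6 := h4 _ (inv_mem hn.2)
  rw [map_mul] at hβ h2 h6
  refine ⟨P, hP.isPGroup, x, ⟨hx, (hP.le hx).1⟩, f, ⟨by simpa using mul_mem hg (inv_mem hn.1), hf⟩,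
    e, ?_, ?_⟩
  · rw [map_mul, map_mul, map_mul, map_inv, e, ← eq_inv_iff_mul_eq_one, ← hβ, mul_assoc _ (π n), h5]
    group
  · rw [map_mul]
    calc π f * π f = π f * π n * (π n)⁻¹ * (π f * π n)⁻¹ * (π f * π n * (π f * π n)) * (π n)⁻¹ := by
          group
      _ = _ := by rw [h6, h2]; group

namespace QZ
variable {z : Γ} {Q : Subgroup Γ} {μ : Γ →* Y} (H : QZ z Q μ) {a c g q q' w : Γ}
include H

omit [Finite Γ] in
theorem cen (hc : c ∈ zpowers z) (g : Γ) : g * c = c * g := by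
  obtain ⟨k, rfl⟩ := hc
  exact (show Commute g z from H.zc g).zpow_right k

omit [Finite Γ] in
theorem z3 (hc : c ∈ zpowers z) : c ^ 3 = 1 := by
  obtain ⟨k, rfl⟩ := hc
  simp only
  rw [← zpow_natCast, ← zpow_mul, mul_comm, zpow_mul, zpow_natCast, ← H.ord, pow_orderOf_eq_one,
    one_zpow]

omit [Finite Γ] in
theorem z1 : z ≠ 1 := fun e => by simpa [e] using H.ord

omit [Finite Γ] in
theorem eq_one (hc : c ∈ zpowers z) (h : c * c = 1) : c = 1 := by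
  have := H.z3 hc
  rwa [pow_succ, pow_two, h, one_mul] at this

omit [Finite Γ] in
theorem ZQ : zpowers z ≤ Q := zpowers_le.2 H.zQ

omit [Finite Γ] in
theorem cardZ : Nat.card (zpowers z) = 3 := by rw [Nat.card_zpowers, H.ord]

theorem of_center {x : Q} (hx : x ∈ center Q) : (x : Γ) ∈ zpowers z := by
  have h1 : zpowers z = (center Q).map Q.subtype := eq_of_le_of_card_ge (zpowers_le.2
    ⟨⟨z, H.zQ⟩, mem_center_iff.2 fun g => Subtype.ext (H.zc g), rfl⟩)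
    (by rw [card_map_of_injective Q.subtype_injective, H.ex.2, H.cardZ])
  exact h1.ge ⟨x, hx, rfl⟩

theorem center (hq : q ∈ Q) (h : ∀ y ∈ Q, y * q = q * y) : q ∈ zpowers z :=
  H.of_center (x := ⟨q, hq⟩) (mem_center_iff.2 fun g => Subtype.ext (h g g.2))

theorem cm (hq : q ∈ Q) (hq' : q' ∈ Q) : q * q' * q⁻¹ * q'⁻¹ ∈ zpowers z :=
  H.of_center (x := ⁅(⟨q, hq⟩ : Q), ⟨q', hq'⟩⁆)
    (H.ex.1.2.2 ▸ commutator_mem_commutator trivial trivial)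

theorem ab (hq : q ∈ Q) (hq' : q' ∈ Q) : μ q * μ q' = μ q' * μ q := by
  have := (H.ker _).2 (H.cm hq hq')
  rwa [map_mul, map_mul, map_mul, map_inv, map_inv, mul_inv_eq_one, mul_inv_eq_iff_eq_mul] at this

theorem cube (hq : q ∈ Q) : q ^ 3 ∈ zpowers z :=
  have := Fact.mk Nat.prime_three
  H.of_center (x := ⟨q, hq⟩ ^ 3) (H.ex.1.2.1 ▸ H78.pow_mem_frattini H.ex.1.1 _)

omit [Finite Γ] in
theorem conj (hq : q ∈ Q) (g : Γ) : g * q * g⁻¹ ∈ Q := H.Qn.conj_mem q hq g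

omit [Finite Γ] in
theorem KK_normal : (KK Q μ).Normal := ⟨fun k hk g => mem_KK.2 fun q hq => by
  have := mem_KK.1 hk _ (H.conj hq g⁻¹)
  simp only [map_mul, map_inv, inv_inv] at this ⊢
  calc _ = μ g * ((μ g)⁻¹ * μ q * μ g * μ k) * (μ g)⁻¹ := by group
    _ = _ := by rw [this]; group⟩

theorem Q_le : Q ≤ KK Q μ := fun _ hq => mem_KK.2 fun _ hq' => H.ab hq' hq

omit [Finite Γ] in
theorem comm_of_pow (h : μ q * μ g = μ g * μ q) {n : ℕ} (hn : g ^ n * q = q * g ^ n)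
    (ho : n.Coprime 3) : g * q = q * g := by
  have h1 : g * q * g⁻¹ * q⁻¹ ∈ zpowers z := (H.ker _).1 (by simp [← h])
  have h2 := H21.MC.pow_conj (inv_mul_cancel_right (g * q * g⁻¹) q).symm (H.cen h1 g) n
  rw [hn, mul_inv_cancel_right, eq_comm, mul_eq_right] at h2
  have := (pow_eq_one_iff_of_coprime ho).1 ⟨h2, H.z3 h1⟩
  rwa [mul_inv_eq_one, mul_inv_eq_iff_eq_mul] at this

theorem fix2 (hq : q ∈ Q) (h : a * a * q = q * (a * a)) : q * (a * q * a⁻¹) ∈ Q ⊓ Ce a := by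
  have h1 : a * (a * q * a⁻¹) = q * a := by
    calc _ = a * a * q * a⁻¹ := by group
      _ = _ := by rw [h]; group
  refine ⟨mul_mem hq (H.conj hq a), mem_Ce.2 (H.comm_of_pow (n := 2) ?_ ?_ (by decide)).symm⟩
  · have h2 := congrArg μ h1
    have h3 := H.ab hq (H.conj hq a)
    simp only [map_mul, map_inv] at h2 h3 ⊢
    calc _ = μ a * μ q * (μ a)⁻¹ * (μ q * μ a) := by rw [h3]; group
      _ = _ := by rw [← h2]; group
  · rw [pow_two, ← mul_assoc, h]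
    calc _ = q * a * (a * a * q) * a⁻¹ := by group
      _ = _ := by rw [h]; group

omit [Finite Γ] in
theorem inv_of (h1 : q * (a * q * a⁻¹) ∈ zpowers z) :
    μ a * μ q * (μ a)⁻¹ = (μ q)⁻¹ := by
  have := (H.ker _).2 h1
  rwa [map_mul, map_mul, map_mul, map_inv, ← eq_inv_iff_mul_eq_one, eq_comm, inv_eq_iff_eq_inv] at this

theorem card3 {U : Subgroup Γ} (h1 : zpowers z ≤ U) (h2 : U ≤ Q) (h3 : Nat.card U % 5 = 3) :
    U ≤ zpowers z ∨ Q ≤ U := by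
  have h5 : Nat.card U ∣ 3 ^ 5 := (card_dvd_of_le h2).trans H.cardQ.dvd
  obtain ⟨k, hk, e⟩ := (Nat.dvd_prime_pow Nat.prime_three).1 h5
  rw [e] at h3
  interval_cases k <;> first | omega | skip
  · exact Or.inl (eq_of_le_of_card_ge h1 (by rw [e, H.cardZ]; rfl)).ge
  · exact Or.inr (eq_of_le_of_card_ge h2 (by rw [e, H.cardQ]; rfl)).ge

omit [Finite Γ] in
theorem Z_le (g : Γ) : zpowers z ≤ Q ⊓ Ce g := zpowers_le.2 ⟨H.zQ, mem_Ce.2 (H.zc g).symm⟩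

omit [Finite Γ] H in
theorem mem_KK_of (h : Q ≤ Q ⊓ Ce g) : g ∈ KK Q μ :=
  mem_KK.2 fun q hq => by rw [← map_mul, mem_Ce.1 (h hq).2, map_mul]

theorem five (h5 : w ^ 5 = 1) (hw : w ∉ KK Q μ) : Q ⊓ Ce w ≤ zpowers z :=
  have := H.Qn
  (H.card3 (H.Z_le w) inf_le_left (by
    rw [← modEq5 h5 (le_normalizer_of_normal (mem_top w)), H.cardQ])).resolve_right
    fun h => hw (mem_KK_of h)

theorem winv (h5 : w ^ 5 = 1) (hw : w ∉ KK Q μ) {U : Subgroup Γ} (h1 : zpowers z ≤ U) (h2 : U ≤ Q)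
    (h3 : w ∈ nr U) : U ≤ zpowers z ∨ Q ≤ U :=
  H.card3 h1 h2 (by
    rw [modEq5 h5 h3, le_antisymm ((inf_le_inf_right _ h2).trans (H.five h5 hw))
      (le_inf h1 ((H.Z_le w).trans inf_le_right)), H.cardZ])

theorem no_inv (h5 : w ^ 5 = 1) (hw : w ∉ KK Q μ) (ha : a * w * a⁻¹ = w⁻¹)
    (h2 : ∀ q ∈ Q, a * a * q = q * (a * a)) : False := by
  by_cases h : Q ⊓ Ce a ≤ zpowers z
  · have h3 := fun q hq => H.inv_of (h (H.fix2 hq (h2 q hq)))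
    have h4 : w * w ∈ KK Q μ := mem_KK.2 fun q hq => by
      have e1 := h3 _ (H.conj hq w)
      have e2 := h3 q hq
      have e3 := congrArg μ ha
      simp only [map_mul, map_inv] at e1 e3 ⊢
      have e4 : (μ w)⁻¹ * (μ q)⁻¹ * μ w = (μ w * μ q * (μ w)⁻¹)⁻¹ := by
        calc _ = μ a * μ w * (μ a)⁻¹ * (μ a * μ q * (μ a)⁻¹) * (μ a * μ w * (μ a)⁻¹)⁻¹ := by
              rw [e2, e3, inv_inv]
          _ = _ := by rw [← e1]; group
      calc _ = μ w * ((μ w)⁻¹ * (μ q)⁻¹ * μ w)⁻¹ * μ w := by group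
        _ = _ := by rw [e4]; group
    refine hw ?_
    have := pow_mem h4 3
    rwa [← pow_two, ← pow_mul, pow_succ, h5, one_mul] at this
  obtain ⟨x, ⟨hx, hxa⟩, hxz⟩ := SetLike.not_le_iff_exists.1 h
  have h3 : ∀ g ∈ zpowers w, g * x * g⁻¹ * x = x * (g * x * g⁻¹) := fun g hg => by
    have e1 : a * g * a⁻¹ = g⁻¹ := by
      obtain ⟨k, rfl⟩ := hg; simp only [← conj_zpow, ha, inv_zpow]
    have e2 := H.cm hx (H.conj hx g)
    have e3 : a * x * a⁻¹ = x := mem_Ce'.1 (mem_Ce.2 (mem_Ce.1 hxa).symm)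
    have e4 := H.eq_one e2 (by
      have f1 := H.cen e2 (g * a)
      rw [← mul_inv_eq_iff_eq_mul] at f1
      nth_rewrite 1 [← f1]
      calc _ = g * ((a * x * a⁻¹) * ((a * g * a⁻¹) * (a * x * a⁻¹) * (a * g * a⁻¹)⁻¹) * (a * x * a⁻¹)⁻¹ *
          ((a * g * a⁻¹) * (a * x * a⁻¹) * (a * g * a⁻¹)⁻¹)⁻¹) * g⁻¹ *
          (x * (g * x * g⁻¹) * x⁻¹ * (g * x * g⁻¹)⁻¹) := by group
        _ = 1 := by rw [e1, e3]; group)
    rw [mul_inv_eq_one, mul_inv_eq_iff_eq_mul] at e4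
    exact e4.symm
  rcases H.winv h5 hw (U := Q ⊓ centralizer {y | ∃ g ∈ zpowers w, g * x * g⁻¹ = y})
    (le_inf H.ZQ fun c hc y _ => H.cen hc y) inf_le_left (mem_normalizer_of_cj_le (by
      rintro _ ⟨y, hy, rfl⟩
      refine ⟨H.conj hy.1 w, ?_⟩
      rintro _ ⟨g, hg, rfl⟩
      have := hy.2 _ ⟨w⁻¹ * g, mul_mem (inv_mem (mem_zpowers w)) hg, rfl⟩
      change _ * (w * y * w⁻¹) = w * y * w⁻¹ * _
      calc _ = w * (w⁻¹ * g * x * (w⁻¹ * g)⁻¹ * y) * w⁻¹ := by group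
        _ = _ := by rw [this]; group)) with h4 | h4
  · exact hxz (h4 ⟨hx, by rintro _ ⟨g, hg, rfl⟩; exact h3 g hg⟩)
  · exact hxz (H.center hx fun y hy => ((h4 hy).2 x ⟨1, one_mem _, by simp⟩).symm)

end QZ

/-- The content of `H41.C3.Pre` inside `C(z)`. -/
structure PreC (z s : Γ) (Q R : Subgroup Γ) (μ : Γ →* Y) (π : Γ →* alternatingGroup (Fin 5)) : Prop
    extends QZ z Q μ where
  xs : H78.XS R s
  cardR : Nat.card R = 32
  Rn : Ce s ≤ nr R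
  surj : Function.Surjective π
  kerπ : ∀ g, π g = 1 ↔ g ∈ Q ⊔ R
  frat : ∀ g, ∃ q ∈ Q, q⁻¹ * g ∈ Ce s
  inv : ∀ q ∈ Q, s * q * s⁻¹ * q ∈ zpowers z
  faith : KK Q μ ≤ Q

end H89.C3
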