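import Cfsg.Agent.H89.C3Pre

/-! CO2T tower, §2: `JobMid`. -/

set_option autoImplicit false
open Cfsg H56.L3 H42.L3 H98 Subgroup
open scoped commutatorElement

namespace H89.C3

variable {Γ Y : Type*} [Group Γ] [Group Y]

theorem inv_inv_comm {a b q : Y} (h1 : a * q * a⁻¹ = q⁻¹) (h2 : b * q * b⁻¹ = q⁻¹) :
    q * (a * b) = a * b * q := by
  calc _ = (a * q * a⁻¹)⁻¹⁻¹⁻¹⁻¹⁻¹ * (a * b) := by rw [h1]; group
    _ = a * (b * q * b⁻¹) * b := by rw [h2]; group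
    _ = _ := by group

/-- the conjugates of `u` under `L` -/
def Ob (L : Subgroup Γ) (u : Γ) : Set Γ := {x | ∃ l ∈ L, l * u * l⁻¹ = x}

theorem ncard_Ob (L : Subgroup Γ) (u : Γ) : (Ob L u).ncard = (Ce u).relIndex L := by
  let _ : MulAction L Γ := MulAction.compHom Γ (MulAut.conj.comp L.subtype)
  have h := MulAction.index_stabilizer L u
  rw [show MulAction.stabilizer L u = (Ce u).subgroupOf L from Subgroup.ext fun l => mem_Ce'.symm,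
    show MulAction.orbit L u = Ob L u from Set.ext fun x =>
      ⟨fun ⟨l, e⟩ => ⟨l, l.2, e⟩, fun ⟨l, hl, e⟩ => ⟨⟨l, hl⟩, e⟩⟩] at h
  exact h.symm

variable [Finite Γ]

theorem exists_fix {g : Γ} (h3 : g ^ 3 = 1) {S : Set Γ} (hS : ∀ x, g * x * g⁻¹ ∈ S ↔ x ∈ S)
    (hc : ¬ 3 ∣ S.ncard) : ∃ x ∈ S, g * x = x * g := by
  classical
  have := Fact.mk Nat.prime_three
  have := Fintype.ofFinite S
  obtain ⟨x, hx⟩ := Equiv.Perm.exists_fixed_point_of_prime (p := 3) (n := 1) (α := S)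
    (by rwa [← Nat.card_eq_fintype_card, Nat.card_coe_set_eq])
    (σ := Equiv.Perm.subtypePerm (MulAut.toPerm Γ (MulAut.conj g)) hS) (by
      ext x
      change g * (g * (g * x * g⁻¹) * g⁻¹) * g⁻¹ = x
      calc _ = g ^ 3 * x * (g ^ 3)⁻¹ := by simp only [pow_succ, pow_zero, one_mul, mul_inv_rev, mul_assoc]
        _ = x := by simp [h3])
  exact ⟨x, x.2, mul_inv_eq_iff_eq_mul.1 (congrArg Subtype.val hx)⟩

theorem xs_half {R : Subgroup Γ} {s x : Γ} (h : H78.XS R s) (hc : Nat.card R = 32) (hx : x ∈ R) :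
    16 ≤ Nat.card (Ce x ⊓ R : Subgroup Γ) := by
  have h1 := H46.card_inf_mul_relIndex (Ce x) R
  have h2 : (Ob R x).ncard ≤ 2 := (Set.ncard_le_ncard (t := {x, x * s}) (by
    rintro _ ⟨l, hl, rfl⟩; exact h.conj_eq_or hx hl)).trans ((Set.ncard_insert_le _ _).trans (by simp))
  rw [ncard_Ob] at h2
  rw [hc] at h1
  nlinarith

/-- the non-central involutions of `R` -/
def TT (R : Subgroup Γ) (s : Γ) : Set Γ := {u | u ∈ R ∧ u * u = 1 ∧ u ≠ 1 ∧ u ≠ s}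

namespace PreC
variable {z s : Γ} {Q R : Subgroup Γ} {μ : Γ →* Y} {π : Γ →* alternatingGroup (Fin 5)}
  (H : PreC z s Q R μ π) {a b g q u x : Γ}
include H

omit [Finite Γ] in
theorem split (hq : q ∈ Q) : ∃ c ∈ zpowers z, s * (q * c) * s⁻¹ = (q * c)⁻¹ := by
  have h := H.inv q hq
  refine ⟨_, h, eq_inv_of_mul_eq_one_left ?_⟩
  rw [← H.z3 h]
  generalize hc : s * q * s⁻¹ * q = c at h
  calc _ = s * q * (c * s⁻¹) * q * c := by group
    _ = s * q * s⁻¹ * (c * q) * c := by rw [← H.cen h]; group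
    _ = _ := by rw [← H.cen h, ← mul_assoc, hc, pow_succ, pow_two]

theorem exp3 (hq : q ∈ Q) : q ^ 3 = 1 := by
  obtain ⟨c, hc, h⟩ := H.split hq
  have h1 := H.cube (mul_mem hq (H.ZQ hc))
  have h2 := H.eq_one h1 (by
    nth_rewrite 1 [← mul_inv_eq_iff_eq_mul.2 (H.cen h1 s), ← conj_pow, h, inv_pow, inv_mul_cancel]; rfl)
  rwa [(show Commute q c from H.cen hc q).mul_pow, H.z3 hc, mul_one] at h2

omit [Finite Γ] in
theorem inv' (hq : q ∈ Q) : μ s * μ q * (μ s)⁻¹ = (μ q)⁻¹ := by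
  simpa [← eq_inv_iff_mul_eq_one] using (H.ker _).2 (H.inv q hq)

theorem Qs : Q ⊓ Ce s ≤ zpowers z := fun q hq => by
  have h := H.inv q hq.1
  rw [← mem_Ce.1 hq.2, mul_inv_cancel_right] at h
  have := mul_mem h h
  rwa [show q * q * (q * q) = q ^ 3 * q by simp only [pow_succ, pow_zero, one_mul, mul_assoc], H.exp3 hq.1, one_mul] at this

theorem RQ (h : x ∈ R) (h' : x ∈ Q) : x = 1 := by
  have := H.xs.pow_four h
  rwa [pow_succ, H.exp3 h', one_mul] at this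

omit [Finite Γ] in
theorem Rs (h : x ∈ R) : x ∈ Ce s := mem_Ce.2 (H.xs.z_comm x h).symm

omit [Finite Γ] in
theorem T_mul (h : u ∈ TT R s) : u * s ∈ TT R s :=
  ⟨mul_mem h.1 H.xs.z_mem, by
    rw [mul_assoc, ← mul_assoc s, H.xs.z_comm u h.1, mul_assoc, H.xs.z_sq, mul_one, h.2.1],
    fun e => h.2.2.2 (by rw [eq_inv_of_mul_eq_one_left e, H.xs.z_inv]), fun e => h.2.2.1 (by simpa using e)⟩

omit [Finite Γ] in
theorem mss (u : Γ) : u * s * s = u := by rw [mul_assoc, H.xs.z_sq, mul_one]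

theorem dec (h : u ∈ TT R s) (hq : q ∈ Q) : ∃ a ∈ Q ⊓ Ce u, ∃ b ∈ Q ⊓ Ce (u * s), q = a * b := by
  obtain ⟨y, hy, rfl⟩ : ∃ y ∈ Q, q = y * y := ⟨q * q, mul_mem hq hq, by
    rw [mul_assoc, ← pow_three, H.exp3 hq, mul_one]⟩
  have h1 := H.fix2 (a := u) hy (by simp [h.2.1])
  have h2 := H.fix2 (a := u * s) hy (by simp [(H.T_mul h).2.1])
  refine ⟨y * y * (y * (u * s * y * (u * s)⁻¹))⁻¹, ?_, _, h2, (inv_mul_cancel_right _ _).symm⟩
  have h3 : y * y * (y * (u * s * y * (u * s)⁻¹))⁻¹ * (y * (u * y * u⁻¹))⁻¹ ∈ zpowers z :=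
    (H.ker _).1 (by
      have e2 := H.ab hy (H.conj hy u)
      simp only [map_mul, map_inv] at e2 ⊢
      calc _ = μ y * (μ y * (μ u * (μ s * μ y * (μ s)⁻¹)⁻¹ * (μ u)⁻¹)) *
            (μ y * (μ u * μ y * (μ u)⁻¹) * μ y)⁻¹ := by group
        _ = 1 := by rw [H.inv' hy, inv_inv]; nth_rewrite 1 [e2]; group)
  simpa only [inv_mul_cancel_right] using mul_mem (H.Z_le u h3) h1

theorem comm (ha : a ∈ Q ⊓ Ce u) (hb : b ∈ Q ⊓ Ce (u * s)) : a * b = b * a := by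
  have h1 := H.cm ha.1 hb.1
  have h3 := H.inv b hb.1
  have h4 : u⁻¹ * b * u = s * b * s⁻¹ * b * b⁻¹ := by
    calc _ = u⁻¹ * (b * (u * s)) * s⁻¹ := by group
      _ = _ := by rw [mem_Ce.1 hb.2]; group
  have h5 : u⁻¹ * a * u = a := by rw [mul_assoc, mem_Ce.1 ha.2]; group
  have h6 : a * b * a⁻¹ * b⁻¹ = a * b⁻¹ * a⁻¹ * b := by
    generalize s * b * s⁻¹ * b = c at h3 h4
    calc _ = u⁻¹ * (a * b * a⁻¹ * b⁻¹ * u) := by rw [← H.cen h1]; group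
      _ = (u⁻¹ * a * u) * (u⁻¹ * b * u) * (u⁻¹ * a * u)⁻¹ * (u⁻¹ * b * u)⁻¹ := by group
      _ = a * (c * (b⁻¹ * a⁻¹ * b)) * c⁻¹ := by rw [h4, h5]; group
      _ = _ := by rw [← H.cen h3]; group
  have h7 := H.eq_one h1 (by
    nth_rewrite 2 [h6]
    calc _ = b⁻¹ * (b * (a * b * a⁻¹ * b⁻¹)) * (a * b⁻¹ * a⁻¹ * b) := by group
      _ = 1 := by rw [H.cen h1]; group)
  rwa [mul_inv_eq_one, mul_inv_eq_iff_eq_mul] at h7

theorem eq_one_of (h : u ∈ TT R s) (hx : x ∈ R) (h1 : ∀ q ∈ Q ⊓ Ce u, μ q * μ x = μ x * μ q)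
    (h2 : ∀ q ∈ Q ⊓ Ce (u * s), μ q * μ x = μ x * μ q) : x = 1 :=
  H.RQ hx (H.faith (mem_KK.2 fun q hq => by
    obtain ⟨a, ha, b, hb, rfl⟩ := H.dec h hq
    rw [map_mul, mul_assoc, h2 b hb, ← mul_assoc, h1 a ha, mul_assoc]))

omit [Finite Γ] in
theorem us_inv (hq : q ∈ Q ⊓ Ce u) : μ (u * s) * μ q * (μ (u * s))⁻¹ = (μ q)⁻¹ := by
  have := congrArg μ (mem_Ce.1 hq.2)
  simp only [map_mul] at this ⊢
  calc _ = μ u * (μ s * μ q * (μ s)⁻¹) * (μ u)⁻¹ := by group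
    _ = (μ q)⁻¹ * (μ q * μ u) * (μ q)⁻¹ * (μ u)⁻¹ := by rw [H.inv' hq.1]; group
    _ = _ := by rw [this]; group

theorem exists_κ0 (h : u ∈ TT R s) : ∃ κ : H27 →* Γ, Function.Injective κ ∧ κ.range ≤ Q ⊓ Ce u ∧
    κ hz = z ∧ ∀ m, s * κ m * s⁻¹ = κ (ng m) := by
  obtain ⟨p, hp, q, hq, hpq⟩ : ∃ p ∈ Q ⊓ Ce u, ∃ q ∈ Q ⊓ Ce u, p * q = z * q * p := by
    have : ∃ p ∈ Q ⊓ Ce u, ∃ q ∈ Q ⊓ Ce u, p * q * p⁻¹ * q⁻¹ ≠ 1 := by
      by_contra! h0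
      have h1 : Q ⊓ Ce u ≤ zpowers z := fun a ha => H.center ha.1 fun q hq => by
        obtain ⟨a', ha', b, hb, rfl⟩ := H.dec h hq
        have := h0 a' ha' a ha
        rw [mul_inv_eq_one, mul_inv_eq_iff_eq_mul] at this
        rw [mul_assoc, ← H.comm ha hb, ← mul_assoc, this, mul_assoc]
      refine (H.T_mul h).2.2.1 (H.eq_one_of h (H.T_mul h).1 (fun q hq => ?_) fun q hq => ?_)
      · rw [(H.ker q).2 (h1 hq)]; simp
      · rw [← map_mul, mem_Ce.1 hq.2, map_mul]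
    obtain ⟨p, hp, q, hq, e⟩ := this
    rcases H83.mem_zpowers_of_orderOf_three H.ord (H.cm hp.1 hq.1) with e' | e' | e'
    · exact (e e').elim
    · exact ⟨p, hp, q, hq, by rw [← e']; group⟩
    · exact ⟨q, hq, p, hp, by rw [← inv_inv z, ← e']; group⟩
  obtain ⟨c, hc, e1⟩ := H.split hp.1
  obtain ⟨c', hc', e2⟩ := H.split hq.1
  have hp' := mul_mem hp (H.Z_le u hc)
  have hq' := mul_mem hq (H.Z_le u hc')
  obtain ⟨κ, k1, k2, k3⟩ := exists_heis (H.exp3 hp'.1) (H.exp3 hq'.1) (H.exp3 H.zQ) (H.zc _).symm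
    (H.zc _).symm (by
      calc p * c * (q * c') = p * (c * q) * c' := by group
        _ = z * q * (p * c * c') := by rw [← H.cen hc, ← mul_assoc, hpq]; group
        _ = _ := by rw [H.cen hc']; group)
  refine ⟨κ, heis_inj (k3 ▸ H.z1), ?_, k3, h27_ext (f := (MulAut.conj s).toMonoidHom.comp κ)
    (g := κ.comp ng) ?_ ?_ ?_⟩
  · rintro _ ⟨m, rfl⟩
    rw [h27_eq m]
    simp only [map_mul, map_pow, k1, k2, k3]
    exact mul_mem (mul_mem (pow_mem (H.Z_le u (mem_zpowers z)) _) (pow_mem hp' _)) (pow_mem hq' _)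
  · change s * κ _ * s⁻¹ = κ (ng _)
    rw [show ng H56.L3.hp = H56.L3.hp⁻¹ by decide, map_inv, k1, e1]
  · change s * κ _ * s⁻¹ = κ (ng _)
    rw [show ng H56.L3.hq = H56.L3.hq⁻¹ by decide, map_inv, k2, e2]
  · change s * κ _ * s⁻¹ = κ (ng _)
    rw [show ng hz = hz by decide, k3, H.zc, mul_inv_cancel_right]

theorem us_le : Q ⊓ Ce (u * s) ⊓ (Q ⊓ Ce u) ≤ zpowers z := fun q hq => H.Qs ⟨hq.1.1, mem_Ce.2 (by
  have := mem_Ce.1 hq.1.2
  rw [← mul_assoc, mem_Ce.1 hq.2.2, mul_assoc, mul_assoc] at this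
  exact mul_left_cancel this)⟩

theorem exists_κ (h : u ∈ TT R s) : Nat.card (Q ⊓ Ce u : Subgroup Γ) = 27 ∧ ∃ κ : H27 →* Γ,
    Function.Injective κ ∧ κ.range = Q ⊓ Ce u ∧ κ hz = z ∧ ∀ m, s * κ m * s⁻¹ = κ (ng m) := by
  have c : ∀ κ : H27 →* Γ, Function.Injective κ → Nat.card κ.range = 27 := fun κ hκ => by
    rw [← Nat.card_congr (MonoidHom.ofInjective hκ).toEquiv, HS.card_eq]; simp
  obtain ⟨κ, k1, k2, k3⟩ := H.exists_κ0 h
  obtain ⟨κ', k4, k5, -⟩ := H.exists_κ0 (H.T_mul h)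
  have h1 := H21.MC.card_mul_le (A := Q ⊓ Ce u) (B := Q ⊓ Ce (u * s)) inf_le_left inf_le_left
  have h2 := card_le_of_le (H.us_le (u := u))
  have h3 := card_le_of_le k5
  rw [H.cardZ] at h2
  rw [c _ k4] at h3
  rw [H.cardQ] at h1
  have h4 := eq_of_le_of_card_ge k2 (by rw [c _ k1]; nlinarith)
  exact ⟨h4 ▸ c _ k1, κ, k1, h4, k3⟩

theorem dich (h : u ∈ TT R s) (hx : x ∈ R) (h2 : x * x = 1) (hc : x * u = u * x) :
    (∀ q ∈ Q ⊓ Ce u, μ x * μ q * (μ x)⁻¹ = (μ q)⁻¹) ∨ ∀ q ∈ Q ⊓ Ce u, μ q * μ x = μ x * μ q := by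
  have key : ∀ y, y * y = 1 → y ∈ Ce u → Q ⊓ Ce u ⊓ Ce y ≤ zpowers z →
      ∀ q ∈ Q ⊓ Ce u, μ y * μ q * (μ y)⁻¹ = (μ q)⁻¹ := fun y e1 e2 e3 q hq => by
    have := H.fix2 (a := y) hq.1 (by simp [e1])
    exact H.inv_of (e3 ⟨⟨this.1, (Ce u).mul_mem hq.2 (mul_mem (mul_mem e2 hq.2) (inv_mem e2))⟩, this.2⟩)
  by_cases h0 : Q ⊓ Ce u ⊓ Ce x ≤ zpowers z
  · exact Or.inl (key x h2 (mem_Ce.2 hc) h0)
  obtain ⟨a, ha, ha'⟩ := SetLike.not_le_iff_exists.1 h0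
  obtain ⟨-, κ, k1, k2, k3, -⟩ := H.exists_κ h
  have h3 := key (x * s) (by
      rw [mul_assoc, ← mul_assoc s, H.xs.z_comm x hx, mul_assoc, H.xs.z_sq, mul_one, h2])
    (mul_mem (mem_Ce.2 hc) (mem_Ce.2 (H.xs.z_comm u h.1))) fun b hb => by
      obtain ⟨m, rfl⟩ := k2.ge ha.1
      obtain ⟨n, rfl⟩ := k2.ge hb.1
      have e := H.comm (u := x) ⟨ha.1.1, ha.2⟩ ⟨hb.1.1, hb.2⟩
      rw [← map_mul, ← map_mul] at e
      obtain ⟨i, -, e' | ⟨j, -, e'⟩⟩ := (by decide +kernel : ∀ m n : H27, m * n = n * m →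
        ∃ i < 3, m = hz ^ i ∨ ∃ j < 3, n = hz ^ j * m ^ i) m n (k1 e)
      · exact (ha' (by rw [e', map_pow, k3]; exact pow_mem (mem_zpowers z) i)).elim
      · refine H.us_le (u := x) ⟨⟨hb.1.1, hb.2⟩, hb.1.1, ?_⟩
        rw [e', map_mul, map_pow, map_pow, k3]
        exact mul_mem (pow_mem (H.Z_le x (mem_zpowers z)).2 j) (pow_mem ha.2 i)
  refine Or.inr fun q hq => ?_
  rw [← H.mss x, map_mul]
  exact inv_inv_comm (h3 q hq) (H.inv' hq.1)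

theorem only (h : u ∈ TT R s) (hx : x ∈ R) (h2 : x * x = 1) (hc : x * u = u * x) :
    x = 1 ∨ x = s ∨ x = u ∨ x = u * s := by
  have h' := H.T_mul h
  have c : ∀ y, ∀ q ∈ Q ⊓ Ce y, μ q * μ y = μ y * μ q := fun y q hq => by
    rw [← map_mul, mem_Ce.1 hq.2, map_mul]
  have c2 : ∀ {a b q : Y}, q * a = a * q → q * b = b * q → q * (a * b) = a * b * q :=
    fun e e' => Commute.mul_right e e'
  have i : ∀ y, y * y = 1 → x * y = 1 → x = y := fun y e e' => by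
    rw [eq_inv_of_mul_eq_one_left e', inv_eq_of_mul_eq_one_left e]
  rcases H.dich h hx h2 hc with h3 | h3 <;> rcases H.dich h' hx h2 (by
    rw [← mul_assoc, hc, mul_assoc, mul_assoc, H.xs.z_comm x hx]) with h4 | h4
  · exact Or.inr (Or.inl (i s H.xs.z_sq (H.eq_one_of h (mul_mem hx H.xs.z_mem)
      (fun q hq => by rw [map_mul]; exact inv_inv_comm (h3 q hq) (H.inv' hq.1))
      fun q hq => by rw [map_mul]; exact inv_inv_comm (h4 q hq) (H.inv' hq.1))))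
  · exact Or.inr (Or.inr (Or.inr (i _ h'.2.1 (H.eq_one_of h (mul_mem hx h'.1)
      (fun q hq => by rw [map_mul]; exact inv_inv_comm (h3 q hq) (H.us_inv hq))
      fun q hq => by rw [map_mul]; exact c2 (h4 q hq) (c _ q hq)))))
  · exact Or.inr (Or.inr (Or.inl (i _ h.2.1 (H.eq_one_of h (mul_mem hx h.1)
      (fun q hq => by rw [map_mul]; exact c2 (h3 q hq) (c _ q hq))
      fun q hq => by rw [map_mul]; exact inv_inv_comm (h4 q hq) (H.mss u ▸ H.us_inv hq)))))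
  · exact Or.inl (H.eq_one_of h hx h3 h4)

theorem cardL : Nat.card (Ce s) = 5760 := by
  have := H.Qn
  have h1 : Q ⊔ Ce s = ⊤ := eq_top_iff.2 fun g _ => by
    obtain ⟨q, hq, h⟩ := H.frat g
    simpa using mul_mem (mem_sup_left hq : q ∈ Q ⊔ Ce s) (mem_sup_right h)
  have h2 := H46.card_inf_mul_relIndex Q (Ce s)
  have h3 := H46.card_inf_mul_relIndex Q R
  have h4 := relIndex_mul_index (le_sup_left : Q ≤ Q ⊔ R)
  rw [relIndex_sup_left, ← show π.ker = Q ⊔ R from Subgroup.ext H.kerπ, index_ker,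
    MonoidHom.range_eq_top.2 H.surj, card_top, card_A5] at h4
  rw [(eq_bot_iff_forall (Q ⊓ R)).2 fun x hx => H.RQ hx.2 hx.1, card_bot, H.cardR] at h3
  rw [le_antisymm H.Qs (H.Z_le s), H.cardZ, ← relIndex_sup_left, h1, relIndex_top_right] at h2
  omega

theorem idx (h : u ∈ TT R s) : (TT R s).ncard ≤ 18 ∧ Ob (Ce s) u ⊆ TT R s ∧
    (Ob (Ce s) u).ncard = 10 ∧ Nat.card (Ce u ⊓ Ce s : Subgroup Γ) = 576 := by
  have := Fact.mk Nat.prime_five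
  have h1 : (TT R s).ncard ≤ 18 := by
    have e1 := xs_half H.xs H.cardR h.1
    have e2 : (TT R s) ⊆ {u, u * s} ∪ ((R : Set Γ) \ (Ce u ⊓ R : Subgroup Γ)) := fun x hx => by
      by_cases e : x ∈ Ce u
      · exact Or.inl (((H.only h hx.1 hx.2.1 (mem_Ce.1 e)).resolve_left hx.2.2.1).resolve_left hx.2.2.2)
      · exact Or.inr ⟨hx.1, fun e' => e e'.1⟩
    have e3 := (Set.ncard_le_ncard e2).trans (Set.ncard_union_le _ _)
    have e4 := Set.ncard_insert_le u {u * s}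
    rw [Set.ncard_sdiff (inf_le_right : Ce u ⊓ R ≤ R), ← Nat.card_coe_set_eq (R : Set Γ),
      ← Nat.card_coe_set_eq ((Ce u ⊓ R : Subgroup Γ) : Set Γ)] at e3
    have e5 := H.cardR
    simp only [Set.ncard_singleton, SetLike.coe_sort_coe] at e3 e4
    omega
  have h2 : Ob (Ce s) u ⊆ TT R s := by
    rintro _ ⟨l, hl, rfl⟩
    refine ⟨conj_mem_of_mem_normalizer (H.Rn hl) h.1, by rw [conj_mul, h.2.1]; simp,
      by simpa using h.2.2.1, fun e => h.2.2.2 ?_⟩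
    rw [← mem_Ce'.1 hl] at e
    simpa using e
  have h3 := H46.card_inf_mul_relIndex (Ce u) (Ce s)
  have h4 : ¬ 5 ∣ Nat.card (Ce u ⊓ Ce s : Subgroup Γ) := fun e => by
    obtain ⟨⟨w, hw⟩, e⟩ := exists_prime_orderOf_dvd_card' 5 e
    rw [← orderOf_coe] at e
    have w5 : w ^ 5 = 1 := e ▸ pow_orderOf_eq_one w
    have e1 := H.five w5 fun e' => by
      have := orderOf_dvd_of_pow_eq_one (H.exp3 (H.faith e'))
      simp [e] at this
    have := H.Qn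
    have e2 := modEq5 w5 (U := Q ⊓ Ce u) (inf_normalizer_le_normalizer_inf
      ⟨le_normalizer_of_normal (mem_top w), le_normalizer hw.1⟩)
    rw [(H.exists_κ h).1, le_antisymm ((inf_le_inf_right _ inf_le_left).trans e1)
      (le_inf (H.Z_le u) ((H.Z_le w).trans inf_le_right)), H.cardZ] at e2
    omega
  have h5 : 2 ∣ (Ce u).relIndex (Ce s) := by
    by_contra e
    obtain ⟨P, hP⟩ := exists_isSyl 2 (Ce u ⊓ Ce s)
    have e1 := isSyl_of_not_dvd_relIndex (hP.le.trans inf_le_right) hP.isPGroup (by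
      rw [← relIndex_mul_relIndex _ _ _ hP.le inf_le_right, inf_relIndex_right]
      exact Nat.prime_two.not_dvd_mul hP.not_dvd_relIndex e)
    have e2 := e1.le_of_le_normalizer H.xs.isPGroup (fun x => H.Rs) (e1.le.trans H.Rn)
    exact (H.xs.center u h.1 fun y hy => (mem_Ce.1 (hP.le (e2 hy)).1).symm).elim h.2.2.1 h.2.2.2
  have h6 := (Set.ncard_le_ncard h2).trans h1
  rw [ncard_Ob] at h6 ⊢
  rw [H.cardL] at h3
  have h7 : 5 ∣ (Ce u).relIndex (Ce s) := (Nat.prime_five.dvd_mul.1 (h3 ▸ by decide)).resolve_left h4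
  have h8 : (Ce u).relIndex (Ce s) = 10 := by
    have : (Ce u).relIndex (Ce s) ≠ 0 := fun e => by simp [e] at h3
    omega
  exact ⟨h1, h2, h8, by rw [h8] at h3; omega⟩

theorem cls (h : u ∈ TT R s) (hx : x ∈ TT R s) : u ∈ Ob (Ce s) x := by
  obtain ⟨h1, h2, h3, -⟩ := H.idx h
  obtain ⟨-, h4, h5, -⟩ := H.idx hx
  obtain ⟨_, ⟨l, hl, rfl⟩, l', hl', e⟩ := Set.not_disjoint_iff.1 fun e => by
    have := (Set.ncard_le_ncard (Set.union_subset h2 h4)).trans h1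
    rw [Set.ncard_union_eq e] at this
    omega
  exact ⟨l⁻¹ * l', mul_mem (inv_mem hl) hl', by
    calc _ = l⁻¹ * (l' * x * l'⁻¹) * l := by group
      _ = u := by rw [e]; group⟩

theorem cardT : (TT R s).ncard = 10 := by
  obtain ⟨u, h⟩ : ∃ u, u ∈ TT R s := by
    by_contra! h0
    have sq : ∀ x ∈ R, x ∉ zpowers s → x * x = s := fun x hx e => (H.xs.sq x hx).resolve_left fun e' =>
      h0 x ⟨hx, e', fun e'' => e (e'' ▸ one_mem _), fun e'' => e (e'' ▸ mem_zpowers _)⟩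
    obtain ⟨x, hx, y, hy, e⟩ := H.xs.nonab
    have h1 := sq x hx fun e' => by
      rcases (H78.mem_zpowers_invol H.xs.z_sq x).1 e' with rfl | rfl
      · simp at e
      · exact e (H.xs.z_comm y hy)
    have h2 : zpowers s ≤ zpowers x := zpowers_le.2 (h1 ▸ mul_mem (mem_zpowers x) (mem_zpowers x))
    obtain ⟨v, hv, hv'⟩ := SetLike.not_le_iff_exists.1 fun e' : Ce x ⊓ R ≤ zpowers x => by
      have e1 := (xs_half H.xs H.cardR hx).trans (card_le_of_le e')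
      have e2 := orderOf_le_of_pow_eq_one (by decide) (H.xs.pow_four hx)
      rw [Nat.card_zpowers] at e1
      omega
    have h3 := sq (x * v) (mul_mem hx hv.2) fun e' =>
      hv' (by simpa using mul_mem (inv_mem (mem_zpowers x)) (h2 e'))
    rw [mul_assoc, ← mul_assoc v, mem_Ce.1 hv.1, mul_assoc, sq v hv.2 fun e' => hv' (h2 e'), ← mul_assoc,
      h1, H.xs.z_sq] at h3
    exact H.xs.z_ne h3.symm
  obtain ⟨-, h2, h3, -⟩ := H.idx h
  rw [← h3, Set.Subset.antisymm h2 fun x hx => H.cls hx h]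

theorem exists_df : ∃ d ∈ Ce s, ∃ f, d ^ 3 = 1 ∧ d ∉ Q ∧ f * d * f⁻¹ = d⁻¹ ∧
    ∀ w, w ^ 5 = 1 → Commute w d → w = 1 := by
  have := Fact.mk Nat.prime_three
  have := H.Qn
  obtain ⟨ω, β, a1, a2, a3, a4, a5⟩ : ∃ ω β : alternatingGroup (Fin 5), ω ^ 3 = 1 ∧ ω ≠ 1 ∧
      β * ω * β⁻¹ = ω⁻¹ ∧ β * β = 1 ∧ ∀ b : Equiv.Perm (Fin 5), b ^ 5 = 1 → b * ω = ω * b → b = 1 :=
    ⟨⟨c[0, 1, 2], Equiv.Perm.mem_alternatingGroup.2 (by decide)⟩,
      ⟨Equiv.swap 0 1 * Equiv.swap 3 4, Equiv.Perm.mem_alternatingGroup.2 (by decide)⟩,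
      by decide +kernel⟩
  have hQ : ∀ q ∈ Q, π q = 1 := fun q hq => (H.kerπ q).2 (mem_sup_left hq)
  obtain ⟨P, p1, x, ⟨p2, p3⟩, f, ⟨p0, p4⟩, p5, p6, -⟩ := frat_inv (p := 3) π (Ce s) (fun α => by
    obtain ⟨g, rfl⟩ := H.surj α
    obtain ⟨q, hq, h⟩ := H.frat g
    exact ⟨_, h, by rw [map_mul, map_inv, hQ q hq]; simp⟩) a1 a3 a4
  have p8 : ∀ y ∈ P ⊓ Ce s, π y = 1 → y ∈ zpowers z := fun y hy e => by
    obtain ⟨k, hk⟩ := isPGroup_iff_forall.1 p1 y hy.1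
    obtain ⟨q, hq, r, hr, rfl⟩ := (mem_sup_right_norm le_normalizer_of_normal).1 ((H.kerπ y).1 e)
    have e1 : q ∈ zpowers z := H.Qs ⟨hq, by simpa using (Ce s).mul_mem hy.2 (inv_mem (H.Rs hr))⟩
    have e2 : r ^ 3 ^ (k + 1) = 1 := by
      have := congrArg (· ^ 3) hk
      simp only [← pow_mul, ← pow_succ, one_pow] at this
      rwa [(show Commute q r from (H.cen e1 r).symm).mul_pow, pow_succ', pow_mul, H.z3 e1, one_pow,
        one_mul, ← pow_succ'] at this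
    rwa [(pow_eq_one_iff_of_coprime (Nat.Coprime.pow_left (k + 1) (by decide))).1 ⟨e2, H.xs.pow_four hr⟩,
      mul_one]
  have c1 := p8 _ ⟨mul_mem (conj_mem_of_mem_normalizer p4 p2) p2,
    (Ce s).mul_mem (mul_mem (mul_mem p0 p3) (inv_mem p0)) p3⟩ p6
  have c2 := p8 _ ⟨pow_mem p2 3, (Ce s).pow_mem p3 3⟩ (by rw [map_pow, p5, a1])
  obtain ⟨c, hc⟩ : ∃ c, f * x * f⁻¹ = c * x⁻¹ := ⟨_, (mul_inv_cancel_right _ x).symm⟩
  rw [hc, inv_mul_cancel_right] at c1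
  have c3 : x ^ 3 = 1 := H.eq_one c2 (by
    nth_rewrite 1 [← mul_inv_eq_iff_eq_mul.2 (H.cen c2 f), ← conj_pow, hc,
      (show Commute c x⁻¹ from (H.cen c1 _).symm).mul_pow, H.z3 c1, one_mul, inv_pow, inv_mul_cancel]; rfl)
  have c4 : π (x * c) = ω := by rw [map_mul, hQ c (H.ZQ c1), mul_one, p5]
  refine ⟨x * c, (Ce s).mul_mem p3 (H.Z_le s c1).2, f, ?_, fun e => a2 (c4 ▸ hQ _ e), ?_,
    fun w w5 hw => ?_⟩
  · rw [(show Commute x c from H.cen c1 x).mul_pow, c3, H.z3 c1, one_mul]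
  · calc _ = f * x * (c * f⁻¹) := by group
      _ = c * (x⁻¹ * c) := by rw [← H.cen c1, ← mul_assoc, hc, mul_assoc]
      _ = (c ^ 3)⁻¹ * c * c * x⁻¹ := by rw [H.cen c1, H.z3 c1]; group
      _ = _ := by group
  · have e1 : π w = 1 := Subtype.ext (a5 _ (by rw [← coe_pow, ← map_pow, w5, map_one]; rfl)
      (by rw [← c4, ← coe_mul, ← coe_mul, ← map_mul, hw.eq, map_mul]))
    obtain ⟨q, hq, r, hr, rfl⟩ := (mem_sup_right_norm le_normalizer_of_normal).1 ((H.kerπ w).1 e1)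
    have e2 : (q * r) ^ 4 ∈ Q := by
      rw [← QuotientGroup.eq_one_iff, QuotientGroup.mk_pow, QuotientGroup.mk_mul,
        (QuotientGroup.eq_one_iff q).2 hq, one_mul, ← QuotientGroup.mk_pow, H.xs.pow_four hr]
      rfl
    exact (pow_eq_one_iff_of_coprime (by decide : Nat.Coprime 5 (4 * 3))).1
      ⟨w5, by rw [pow_mul, H.exp3 e2]⟩

theorem exists_tr {d : Γ} (hd : d ∈ Ce s) (h3 : d ^ 3 = 1) : ∃ t ∈ TT R s, ∃ r ∈ TT R s,
    d * t = t * d ∧ d * r = r * d ∧ r * t * r = t * s := by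
  have inv : ∀ x, d * x * d⁻¹ ∈ TT R s ↔ x ∈ TT R s := fun x =>
    ⟨fun h => (H.idx h).2.1 ⟨d⁻¹, inv_mem hd, by group⟩, fun h => (H.idx h).2.1 ⟨d, hd, rfl⟩⟩
  obtain ⟨t, ht, h1⟩ := exists_fix h3 inv (by rw [H.cardT]; decide)
  have h2 : d * (t * s) = t * s * d := by rw [← mul_assoc, h1, mul_assoc, mem_Ce.1 hd, mul_assoc]
  have key : ∀ x y, d * y = y * d → (d * x * d⁻¹ = y ↔ x = y) := fun x y e => by
    rw [mul_inv_eq_iff_eq_mul, ← e, mul_right_inj]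
  obtain ⟨r, ⟨hr, hr'⟩, h4⟩ := exists_fix h3 (S := TT R s \ {t, t * s})
    (fun x => by simp only [Set.mem_sdiff, inv, Set.mem_insert_iff, Set.mem_singleton_iff, key _ _ h1,
      key _ _ h2]) (by
      rw [Set.ncard_sdiff (by rintro _ (rfl | rfl); exacts [ht, H.T_mul ht]), H.cardT,
        Set.ncard_pair fun e => H.xs.z_ne (by simpa using e)]
      decide)
  refine ⟨t, ht, r, hr, h1, h4, ?_⟩
  have h5 := (H.xs.conj_eq_or ht.1 hr.1).resolve_left fun e => hr' (((H.only ht hr.1 hr.2.1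
    (mul_inv_eq_iff_eq_mul.1 e)).resolve_left hr.2.2.1).resolve_left hr.2.2.2)
  rwa [inv_eq_of_mul_eq_one_left hr.2.1] at h5

end PreC

universe u

theorem jobMid : H41.C3.JobMid.{u} := by
  intro G _ _ z s Q R π h
  obtain ⟨Q, rfl⟩ : ∃ Q' : Subgroup (Ce z), Q = Q'.map (Ce z).subtype :=
    ⟨_, (map_subgroupOf_eq_of_le h.Qz).symm⟩
  obtain ⟨R, rfl⟩ : ∃ R' : Subgroup (Ce z), R = R'.map (Ce z).subtype :=
    ⟨_, (map_subgroupOf_eq_of_le h.Rz).symm⟩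
  obtain ⟨s, -, rfl⟩ := h.xs.z_mem
  have hi := (Ce z).subtype_injective
  have mm : ∀ {A : Subgroup (Ce z)} {x : Ce z}, (x : G) ∈ A.map (Ce z).subtype ↔ x ∈ A :=
    mem_map_iff_mem hi
  have mc : ∀ {x y : Ce z}, (x : G) ∈ Ce (y : G) ↔ x ∈ Ce y := by
    intro x y; rw [mem_Ce, mem_Ce, Subtype.ext_iff]; rfl
  let z' : Ce z := ⟨z, mem_Ce.2 rfl⟩
  have zc : ∀ g : Ce z, g * z' = z' * g := fun g => Subtype.ext (mem_Ce.1 g.2)
  have : (zpowers z').Normal := ⟨by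
    rintro _ ⟨k, rfl⟩ g
    simp only [((show Commute g z' from zc g).zpow_right k).eq, mul_inv_cancel_right]
    exact ⟨k, rfl⟩⟩
  have hzz : ∀ x : Ce z, x ∈ zpowers z' ↔ (x : G) ∈ zpowers z := fun x =>
    ⟨fun ⟨k, hk⟩ => ⟨k, by simp [← hk, z']⟩, fun ⟨k, hk⟩ => ⟨k, Subtype.ext (by simpa [z'] using hk)⟩⟩
  have H : PreC z' s Q R (QuotientGroup.mk' (zpowers z')) π := by
    refine ⟨⟨by rw [← orderOf_coe]; exact h.ord, zc, mm.1 h.zQ,
      ⟨fun q hq g => mm.1 (conj_mem_of_mem_normalizer (h.Qn g.2) (mm.2 hq))⟩,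
      H78.isExtraspecial_of_equiv (equivMapOfInjective _ _ hi).symm h.ex,
      (card_map_of_injective hi).symm.trans h.cardQ, fun g => QuotientGroup.eq_one_iff g⟩, ?_,
      (card_map_of_injective hi).symm.trans h.cardR, fun l hl => mem_normalizer_of_cj_le ?_, h.surj,
      fun g => by rw [h.ker, ← Subgroup.map_sup, mm], fun g => ?_,
      fun q hq => (hzz _).2 (h.inv q (mm.2 hq)), fun g hg => mm.1 (h.faith g g.2 ?_)⟩
    · have := h.xs.subgroupOf h.Rz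
      rwa [subgroupOf, comap_map_eq_self_of_injective hi] at this
    · rintro _ ⟨r, hr, rfl⟩
      exact mm.1 (conj_mem_of_mem_normalizer (h.Rn ⟨l.2, mc.2 hl⟩) (mm.2 hr))
    · obtain ⟨_, ⟨q, hq, rfl⟩, e⟩ := h.frat g g.2
      exact ⟨q, hq, mc.1 e⟩
    · rintro _ ⟨q, hq, rfl⟩
      refine (hzz ⁅g, q⁆).1 ((QuotientGroup.eq_one_iff _).1 ?_)
      change QuotientGroup.mk' _ _ = 1
      rw [map_commutatorElement, commutatorElement_eq_one_iff_mul_comm, mem_KK.1 hg q hq]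
  obtain ⟨d, d1, f, d2, d3, d4, d5⟩ := H.exists_df
  obtain ⟨t, ht, r, hr, t1, t2, t3⟩ := H.exists_tr d1 d2
  obtain ⟨-, κ, k1, k2, k3, k4⟩ := H.exists_κ ht
  have ri : r⁻¹ = r := inv_eq_of_mul_eq_one_left hr.2.1
  have k5 : ∀ b, b ∈ Q ⊓ Ce t → r * b * r ∈ Q ⊓ Ce (t * s) := fun b hb => by
    have := conj_mem_Ce hb.2 r
    rw [ri, t3] at this
    exact ⟨by have := H.conj hb.1 r; rwa [ri] at this, this⟩
  have v := fun {x y : Ce z} (e : x = y) => congrArg Subtype.val e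
  refine ⟨d, f, t, r, (Ce z).subtype.comp κ, h, ⟨d.2, mc.2 d1⟩, v d2, fun e => d3 (mm.1 e), f.2, v d4,
    mm.2 ht.1, mm.2 hr.1, v ht.2.1, v hr.2.1, v t3, v t1, v t2, ?_, ?_, ?_,
    fun w w5 e1 e2 => v (d5 ⟨w, mem_Ce.2 e1⟩ (Subtype.ext w5) (Subtype.ext e2)), hi.comp k1, ?_, v k3,
    fun m => v (k4 m), ?_, fun m n => v (H.comm (k2.le ⟨m, rfl⟩) (k5 _ (k2.le ⟨n, rfl⟩)))⟩
  · rw [← (H.idx ht).2.2.2, ← card_map_of_injective hi]
    congr 2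
    exact le_antisymm (fun x hx => ⟨⟨x, hx.1.1⟩, ⟨mc.1 hx.2, mc.1 hx.1.2⟩, rfl⟩)
      (by rintro _ ⟨x, hx, rfl⟩; exact ⟨⟨x.2, mc.2 hx.2⟩, mc.2 hx.1⟩)
  · rintro _ ⟨x, hx, rfl⟩ e1 e2 e3
    obtain ⟨l, hl, e⟩ := H.cls ht (x := x) ⟨hx, Subtype.ext e1, fun e => e2 (v e), fun e => e3 (v e)⟩
    exact ⟨l, ⟨l.2, mc.2 hl⟩, v e⟩
  · rintro _ ⟨x, hx, rfl⟩ e1 e2
    exact (H.only ht hx (Subtype.ext e1) (Subtype.ext e2)).imp v (Or.imp v (Or.imp v v))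
  · rw [MonoidHom.range_comp, k2]
    exact le_antisymm (by rintro _ ⟨x, hx, rfl⟩; exact ⟨mm.2 hx.1, mc.2 hx.2⟩)
      (by rintro _ ⟨⟨x, hx, rfl⟩, e⟩; exact ⟨x, ⟨hx, mc.1 e⟩, rfl⟩)
  · rintro _ ⟨q, hq, rfl⟩
    obtain ⟨a, ha, b, hb, rfl⟩ := H.dec ht hq
    obtain ⟨m, rfl⟩ := k2.ge ha
    have := conj_mem_Ce hb.2 r
    rw [← t3, ri, ← mul_assoc, ← mul_assoc, hr.2.1, one_mul, mul_assoc t, hr.2.1, mul_one] at this
    obtain ⟨n, hn⟩ := k2.ge (show r * b * r ∈ Q ⊓ Ce t from ⟨by have := H.conj hb.1 r; rwa [ri] at this, this⟩)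
    refine ⟨m, n, v (show κ m * b = κ m * (r * κ n * r) from ?_)⟩
    rw [hn, ← mul_assoc r, ← mul_assoc r, hr.2.1, one_mul, mul_assoc b, hr.2.1, mul_one]

end H89.C3
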