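import Cfsg.Agent.H89.C3Base

/-! CO2T tower, §1: `JobPre`. -/

set_option autoImplicit false
open Cfsg H56.L3 H42.L3 H98 Subgroup
open scoped commutatorElement

namespace H89.C3

theorem card_A5 : Nat.card (alternatingGroup (Fin 5)) = 60 := by
  rw [nat_card_alternatingGroup]; simp [Nat.factorial]

theorem sq_mem {X : Type*} [Group X] [Finite X] {R : Subgroup X} [R.Normal] {s : X} (h : H78.XS R s)
    (hc : Nat.card R = 32) (sc : ∀ x, x * s = s * x) (π : X →* alternatingGroup (Fin 5))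
    (hs : Function.Surjective π) (hk : ∀ x, π x = 1 ↔ x ∈ R) {w a : X} (h5 : w ^ 5 = 1) (hw : π w ≠ 1)
    (ha : a * a ∈ R) (hc' : a * a * w = w * (a * a)) : a * a = 1 ∨ a * a = s := by
  by_cases h1 : R ≤ Ce w
  · have hn : ∀ x, x ∈ nr (zpowers s) := fun x => centralizer_le_normalizer _ (by
      rintro _ ⟨k, rfl⟩; exact ((show Commute x s from sc x).zpow_right k).symm)
    have : (stab R (zpowers s)).Normal := normal_of_top_le_normalizer
      (le_normalizer_stab le_normalizer_of_normal fun x _ => hn x)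
    rcases (Normal.map this π hs).eq_bot_or_eq_top with h2 | h2
    · exact (hw (mem_bot.1 (h2 ▸ mem_map_of_mem π (mem_stab.2 ⟨hn w, fun c hc => by
        rw [commutatorElement_def, mem_Ce.1 (h1 hc)]; simp⟩)))).elim
    obtain ⟨k, hk1, hk2⟩ := h2.ge (mem_top (π a))
    have h3 : a ∈ stab R (zpowers s) := by
      have h4 : k⁻¹ * a ∈ R := (hk _).1 (by simp [hk2])
      have h5 : k⁻¹ * a ∈ stab R (zpowers s) := mem_stab.2 ⟨hn _, fun c hc => by
        rw [commutatorElement_def, H78.mem_zpowers_invol h.z_sq]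
        rcases h.comm c hc _ h4 with e | e <;> rw [e]
        · left; group
        · right; rw [sc]; group⟩
      simpa using mul_mem hk1 h5
    refine h.center _ ha fun r hr => ?_
    rcases (H78.mem_zpowers_invol h.z_sq _).1 (h3.2 r hr) with e | e <;>
      rw [commutatorElement_def, mul_inv_eq_iff_eq_mul, mul_inv_eq_iff_eq_mul] at e
    · rw [← mul_assoc, e, one_mul, mul_assoc a r, e, one_mul, mul_assoc]
    · rw [← mul_assoc, e, mul_assoc _ r, e, ← sc a, ← mul_assoc, mul_assoc a s, ← mul_assoc s, ← sc a,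
        mul_assoc a s, h.z_sq, mul_one]
  have h2 : Nat.card (R ⊓ Ce w : Subgroup X) ∣ 2 ^ 5 := (card_dvd_of_le inf_le_left).trans hc.dvd
  obtain ⟨k, hk5, e⟩ := (Nat.dvd_prime_pow Nat.prime_two).1 h2
  have h3 := modEq5 h5 (U := R) (le_normalizer_of_normal (mem_top w))
  rw [hc, e] at h3
  rw [← H78.mem_zpowers_invol h.z_sq]
  interval_cases k <;> first | omega | skip
  · exact (eq_of_le_of_card_ge (zpowers_le.2 (show s ∈ R ⊓ Ce w from ⟨h.z_mem, mem_Ce.2 (sc w).symm⟩))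
      (by rw [e, Nat.card_zpowers, h.orderOf_z]; rfl)).ge ⟨ha, mem_Ce.2 hc'⟩
  · exact (h1 ((eq_of_le_of_card_ge inf_le_left (by rw [e, hc]; rfl)).ge.trans inf_le_right)).elim

theorem card_ker_mul {Γ X : Type*} [Group Γ] [Group X] {ρ : Γ →* X} (h : Function.Surjective ρ)
    {Q : Subgroup Γ} (hQ : ∀ g, ρ g = 1 ↔ g ∈ Q) : Nat.card Γ = Nat.card Q * Nat.card X := by
  rw [← ρ.ker.card_mul_index, index_ker, MonoidHom.range_eq_top.2 h, card_top,
    show ρ.ker = Q from Subgroup.ext hQ]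

variable {Γ Y X : Type*} [Group Γ] [Finite Γ] [Group Y] [Group X] [Finite X]

theorem preC {z : Γ} {Q : Subgroup Γ} {μ : Γ →* Y} (H : QZ z Q μ) (ρ : Γ →* X)
    (hρ : Function.Surjective ρ) (kρ : ∀ g, ρ g = 1 ↔ g ∈ Q) (R₁ : Subgroup X) [R₁.Normal]
    (hR : IsExtraspecial 2 R₁) (hc : Nat.card R₁ = 32) (π : X →* alternatingGroup (Fin 5))
    (hπ : Function.Surjective π) (kπ : ∀ x, π x = 1 ↔ x ∈ R₁) {P : Subgroup Γ} (hP : IsSyl 3 P ⊤)
    (hZ : P ⊓ cn P ≤ zpowers z) : Nat.card P = 729 ∧ ∃ s R, PreC z s Q R μ (π.comp ρ) := by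
  have := Fact.mk Nat.prime_three
  have := Fact.mk Nat.prime_five
  have := H.Qn
  have c1 : Nat.card P = 729 := by
    rw [hP.card_eq, card_top, card_ker_mul hρ kρ, card_ker_mul hπ kπ, H.cardQ, hc, card_A5,
      ← Nat.primeFactorsList_count_eq]
    simp
  refine ⟨c1, ?_⟩
  have q9 : ∀ q ∈ Q, q ^ 9 = 1 := fun q hq => by rw [show 9 = 3 * 3 from rfl, pow_mul, H.z3 (H.cube hq)]
  obtain ⟨R, hS⟩ := exists_isSyl 2 (R₁.comap ρ)
  have r1 : R.map ρ = R₁ := by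
    have := hS.map ρ
    rw [map_comap_eq_self_of_surjective hρ] at this
    exact this.eq_of_isPGroup hR.1.1
  have r2 : ∀ x ∈ R, ρ x = 1 → x = 1 := fun x hx e => by
    obtain ⟨k, hk⟩ := isPGroup_iff_forall.1 hS.isPGroup x hx
    exact (pow_eq_one_iff_of_coprime (Nat.Coprime.pow_left k (by decide))).1 ⟨hk, q9 x ((kρ x).1 e)⟩
  let e : R ≃* R.map ρ := MulEquiv.ofBijective (ρ.subgroupMap R) ⟨(injective_iff_map_eq_one _).2
    fun x hx => Subtype.ext (r2 x x.2 (congrArg Subtype.val hx)), ρ.subgroupMap_surjective R⟩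
  obtain ⟨s, xs⟩ := H78.exists_XS (H78.isExtraspecial_of_equiv e.symm (r1 ▸ hR))
  have xs1 : H78.XS R₁ (ρ s) := r1 ▸ xs.map ρ r2
  have sc : ∀ x, x * ρ s = ρ s * x := fun x => by
    have := xs1.conj x
    rw [show R₁.map (MulAut.conj x).toMonoidHom = R₁ from cj_eq_self_of_normal x R₁] at this
    exact mul_inv_eq_iff_eq_mul.1 (xs1.unique this)
  have k1 : ∀ g, (π.comp ρ) g = 1 ↔ g ∈ Q ⊔ R := fun g => by
    rw [MonoidHom.comp_apply, kπ, ← r1, ← mem_comap, comap_map_eq, sup_comm,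
      show ρ.ker = Q from Subgroup.ext kρ]
  have k2 : ∀ g, (π.comp ρ) g = 1 → g ^ 36 = 1 := fun g hg => by
    rw [show 36 = 4 * 9 from rfl, pow_mul]
    exact q9 _ ((kρ _).1 (by rw [map_pow]; exact xs1.pow_four ((kπ _).1 hg)))
  have frat : ∀ g, ∃ q ∈ Q, q⁻¹ * g ∈ Ce s := fun g => by
    have f1 : g * s * g⁻¹ * s⁻¹ ∈ Q := (kρ _).1 (by simp [sc])
    have f2 : g * s * g⁻¹ * (g * s * g⁻¹) = 1 := by rw [conj_mul, xs.z_sq]; simp
    obtain ⟨q, hq⟩ : ∃ q, g * s * g⁻¹ = q * s := ⟨_, (inv_mul_cancel_right _ s).symm⟩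
    rw [hq, mul_inv_cancel_right] at f1
    rw [hq] at f2
    have f3 : s * q * s⁻¹ = q⁻¹ := by
      rw [xs.z_inv, eq_inv_iff_mul_eq_one, ← conj_eq_one_iff (a := q), ← f2]; group
    refine ⟨q ^ 5, pow_mem f1 5, mem_Ce'.2 ?_⟩
    calc _ = (q ^ 5)⁻¹ * (g * s * g⁻¹) * q ^ 5 := by group
      _ = (q ^ 5)⁻¹ * q * (s * q * s⁻¹) ^ 5 * s := by rw [hq, conj_pow]; group
      _ = (q ^ 9)⁻¹ * s := by rw [f3]; group
      _ = s := by rw [q9 q f1]; simp
  have hKn := H.KK_normal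
  have k3 : ∀ g ∈ KK Q μ, (π.comp ρ) g = 1 := by
    rcases (Normal.map hKn (π.comp ρ) (hπ.comp hρ)).eq_bot_or_eq_top with h | h
    · exact fun g hg => mem_bot.1 (h ▸ mem_map_of_mem _ hg)
    exfalso
    have f1 := (hP.inf_of_le_normalizer (N := KK Q μ) le_top le_normalizer_of_normal).map (π.comp ρ)
    rw [h] at f1
    have f2 : ¬ P ⊓ KK Q μ ≤ Q := fun e => f1.eq_bot_iff.1 ((Subgroup.map_eq_bot_iff _).2 fun g hg =>
      (k1 g).2 (mem_sup_left (e hg))) (by rw [card_top, card_A5]; decide)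
    obtain ⟨x, ⟨hx1, hx2⟩, hx3⟩ := SetLike.not_le_iff_exists.1 f2
    obtain ⟨q, hq, hy⟩ := H9.mem_sup_centralizer_of_isExtraspecial H.ex (g := x) fun q hq => by
      have : ⁅x, q⁆ ∈ zpowers z := (H.ker _).1 (by
        simp [commutatorElement_def, ← mem_KK.1 hx2 q hq])
      exact ⟨H.ZQ this, fun y _ => H.cen this y⟩
    have f3 : Q ≤ P := hP.le_of_le_normalizer H.ex.1.1 le_top le_normalizer_of_normal
    have f4 : q⁻¹ * x ∈ P := mul_mem (inv_mem (f3 hq)) hx1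
    have f5 : q⁻¹ * x ∉ Q := fun e => hx3 (by simpa using mul_mem hq e)
    have f6 : P ⊓ Ce (q⁻¹ * x) = P := H21.MC.eq_of_index_three (A := Q)
      (le_inf f3 fun y hy' => mem_Ce.2 (hy y hy')) inf_le_left (by rw [c1, H.cardQ])
      fun e => f5 (e ⟨f4, mem_Ce.2 rfl⟩)
    exact f5 (H.ZQ (hZ ⟨f4, fun y hy' => mem_Ce.1 (f6.ge hy').2⟩))
  obtain ⟨ω, β, a1, a2, a3, a4⟩ : ∃ ω β : alternatingGroup (Fin 5), ω ^ 5 = 1 ∧ ω ≠ 1 ∧
      β * ω * β⁻¹ = ω⁻¹ ∧ β * β = 1 :=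
    ⟨⟨c[0, 1, 2, 3, 4], Equiv.Perm.mem_alternatingGroup.2 (by decide)⟩,
      ⟨Equiv.swap 1 4 * Equiv.swap 2 3, Equiv.Perm.mem_alternatingGroup.2 (by decide)⟩,
      by decide +kernel⟩
  obtain ⟨P5, p1, w, ⟨p2, p3⟩, f, ⟨-, p4⟩, p5, p6, p7⟩ := frat_inv (p := 5) (π.comp ρ) (Ce s) (fun α => by
    obtain ⟨g, rfl⟩ := (hπ.comp hρ) α
    obtain ⟨q, hq, h⟩ := frat g
    exact ⟨_, h, by rw [map_mul, map_inv, (k1 q).2 (mem_sup_left hq)]; simp⟩) a1 a3 a4
  have p8 : ∀ y ∈ P5, (π.comp ρ) y = 1 → y = 1 := fun y hy e => by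
    obtain ⟨k, hk⟩ := isPGroup_iff_forall.1 p1 y hy
    exact (pow_eq_one_iff_of_coprime (Nat.Coprime.pow_left k (by decide))).1 ⟨hk, k2 y e⟩
  have w5 : w ^ 5 = 1 := p8 _ (pow_mem p2 5) (by rw [map_pow, p5, a1])
  have wf : f * w * f⁻¹ = w⁻¹ :=
    eq_inv_of_mul_eq_one_left (p8 _ (mul_mem (conj_mem_of_mem_normalizer p4 p2) p2) p6)
  have wK : w ∉ KK Q μ := fun e => a2 (p5 ▸ k3 w e)
  have sK : s ∉ KK Q μ := fun hs => by
    obtain ⟨k, m, ⟨j, rfl⟩, hm⟩ := Nat.exists_eq_two_pow_mul_odd (orderOf_pos f).ne'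
    have f0 : f * f * w = w * (f * f) := by
      calc _ = f * (f * w * f⁻¹) * f := by group
        _ = (f * w * f⁻¹)⁻¹ * (f * f) := by rw [wf]; nth_rewrite 2 [← wf]; group
        _ = _ := by rw [wf, inv_inv]
    obtain ⟨a, ha⟩ : ∃ a, a = (f * f) ^ j * f := ⟨_, rfl⟩
    have ha' : a = f ^ (2 * j + 1) := by rw [ha, pow_succ, pow_mul, pow_two]
    have f1 : a * w * a⁻¹ = w⁻¹ := by
      have : Commute ((f * f) ^ j) w⁻¹ := (Commute.pow_left f0 j).inv_right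
      calc _ = (f * f) ^ j * (f * w * f⁻¹) * ((f * f) ^ j)⁻¹ := by rw [ha]; group
        _ = _ := by rw [wf, this.eq, mul_inv_cancel_right]
    have f2 : a * a = (f * f) ^ (2 * j + 1) := by rw [ha', ← (Commute.refl f).mul_pow]
    have f3 : a * a ∈ KK Q μ := by
      rcases sq_mem xs1 hc sc π hπ kπ (w := ρ w) (a := ρ a) (by rw [← map_pow, w5, map_one])
        (p5 ▸ a2 : (π.comp ρ) w ≠ 1) ((kπ _).1 (by
          rw [← map_mul, f2, map_pow, map_pow, show π (ρ (f * f)) = 1 from p7, one_pow]))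
        (by rw [← map_mul, ← map_mul, ← map_mul, f2, (Commute.pow_left f0 _).eq]) with e | e
      · exact H.Q_le ((kρ _).1 (by rw [map_mul, e]))
      · simpa using mul_mem (H.Q_le ((kρ (a * a * s⁻¹)).1 (by simp [e]))) hs
    refine H.no_inv w5 wK f1 fun q hq => H.comm_of_pow (mem_KK.1 f3 q hq) (n := 2 ^ k) ?_
      (Nat.Coprime.pow_left k (by decide))
    rw [(Commute.refl a).mul_pow, ha', ← pow_mul, mul_comm (2 * j + 1), ← hm, pow_orderOf_eq_one]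
    simp
  have s1 : Q ⊓ Ce s ≤ zpowers z := (H.winv w5 wK (H.Z_le s) inf_le_left
    (inf_normalizer_le_normalizer_inf ⟨le_normalizer_of_normal (mem_top w), mem_normalizer_of_cj_le (by
      rintro _ ⟨y, hy, rfl⟩; exact mul_mem (mul_mem p3 hy) (inv_mem p3))⟩)).resolve_right
    fun h => sK (QZ.mem_KK_of h)
  refine ⟨s, R, H, xs, by rw [Nat.card_congr e.toEquiv, r1, hc], fun l hl => mem_normalizer_of_cj_le ?_,
    hπ.comp hρ, k1, frat, fun q hq => ?_, fun g hg => ?_⟩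
  · rintro _ ⟨r, hr, rfl⟩
    change l * r * l⁻¹ ∈ R
    obtain ⟨q, hq, r', hr', e'⟩ := (mem_sup_right_norm le_normalizer_of_normal).1 ((k1 (l * r * l⁻¹)).1
      (by rw [map_mul, map_mul, (k1 r).2 (mem_sup_right hr)]; simp))
    have f1 : q ∈ zpowers z := s1 ⟨hq, by
      rw [← mul_inv_eq_iff_eq_mul] at e'
      rw [← e']
      exact (Ce s).mul_mem (mul_mem (mul_mem hl (mem_Ce.2 (xs.z_comm r hr).symm)) (inv_mem hl))
        (inv_mem (mem_Ce.2 (xs.z_comm r' hr').symm))⟩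
    have f2 := congrArg (· ^ 4) e'
    simp only [conj_pow, xs.pow_four hr, (show Commute q r' from (H.cen f1 r').symm).mul_pow,
      xs.pow_four hr', mul_one, mul_inv_cancel] at f2
    rw [pow_succ, H.z3 f1, one_mul] at f2
    rwa [e', ← f2, one_mul]
  · rw [H.cen (s1 (H.fix2 hq (by rw [xs.z_sq]; simp))) q |> fun e => (by
      calc s * q * s⁻¹ * q = q⁻¹ * (q * (s * q * s⁻¹) * q) := by group
        _ = q * (s * q * s⁻¹) := by rw [← e]; group : s * q * s⁻¹ * q = q * (s * q * s⁻¹))]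
    exact s1 (H.fix2 hq (by rw [xs.z_sq]; simp))
  · obtain ⟨q, hq, r, hr, rfl⟩ := (mem_sup_right_norm le_normalizer_of_normal).1 ((k1 g).1 (k3 g hg))
    have f1 : r ∈ KK Q μ := by simpa using mul_mem (inv_mem (H.Q_le hq)) hg
    by_cases e1 : r = 1
    · simpa [e1]
    by_cases e2 : r = s
    · exact (sK (e2 ▸ f1)).elim
    obtain ⟨y, -, hy⟩ := xs.exists_conj_eq hr e1 e2
    exact (sK (by simpa [hy] using mul_mem (inv_mem f1) (hKn.conj_mem r f1 y))).elim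

universe u

theorem jobPre : H41.C3.JobPre.{u} := by
  intro G _ _ S Z C hZ hC hQ cQ hR cR ⟨e⟩ hw
  have := Fact.mk Nat.prime_three
  have hZS : Z ≤ S := hZ ▸ inf_le_left
  have hSC : (S : Subgroup G) ≤ C := hC ▸ fun g hg x hx => ((hZ ▸ hx : x ∈ _ ⊓ _).2 g hg).symm
  obtain ⟨g, g1, g2⟩ : ∃ g : G, cj g Z ≤ S ∧ cj g Z ≠ Z := by
    by_contra! h; exact hw ⟨hZS, h⟩
  obtain ⟨z, hz, hz1⟩ : ∃ z ∈ Z, z ≠ 1 := by
    by_contra! h
    rw [(eq_bot_iff_forall Z).2 h] at g2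
    exact g2 (cj_bot g)
  have hc : ∀ x (hx : x ∈ Z), ∃ h : (⟨x, hSC (hZS hx)⟩ : C) ∈ pCore 3 C,
      (⟨_, h⟩ : pCore 3 C) ∈ center (pCore 3 C) := fun x hx => by
    have h1 : ∀ y (hy : y ∈ Z) (g : C), g * ⟨y, hSC (hZS hy)⟩ = ⟨y, hSC (hZS hy)⟩ * g := fun y hy g =>
      Subtype.ext ((hC ▸ g.2 : g.1 ∈ centralizer (Z : Set G)) y hy).symm
    refine ⟨H78.le_pCore (N := Z.subgroupOf C) ⟨fun y hy g => ?_⟩
      (isPGroup_subgroupOf (S.isPGroup'.to_le hZS) C) hx,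
      mem_center_iff.2 fun g => Subtype.ext (h1 x hx g)⟩
    rw [show g * y = y * g from h1 y hy g, mul_inv_cancel_right]; exact hy
  obtain ⟨z1, z2⟩ := hc z hz
  have z3 : zpowers (⟨_, z2⟩ : center (pCore 3 C)) = ⊤ := zpowers_eq_top_of_prime_card hQ.2
    fun e => hz1 (congrArg (fun x : center (pCore 3 C) => (x.1.1 : G)) e)
  have z4 : orderOf z = 3 := by
    rw [← hQ.2, ← card_top, ← z3, Nat.card_zpowers, ← orderOf_coe, ← orderOf_coe, ← orderOf_coe]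
  have z5 : Z = zpowers z := le_antisymm (fun x hx => by
    obtain ⟨x1, x2⟩ := hc x hx
    obtain ⟨k, hk⟩ := z3.ge (mem_top ⟨_, x2⟩)
    exact ⟨k, by simpa using congrArg (fun x : center (pCore 3 C) => (x.1.1 : G)) hk⟩) (zpowers_le.2 hz)
  obtain rfl : C = Ce z := by rw [hC, z5, zpowers_eq_closure, centralizer_closure]
  let z' : Ce z := ⟨z, hSC (hZS hz)⟩
  have zc : ∀ g : Ce z, g * z' = z' * g := fun g => Subtype.ext (mem_Ce.1 g.2)
  have : (zpowers z').Normal := ⟨by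
    rintro _ ⟨k, rfl⟩ g
    simp only [((show Commute g z' from zc g).zpow_right k).eq, mul_inv_cancel_right]
    exact ⟨k, rfl⟩⟩
  have hzz : ∀ x : Ce z, x ∈ zpowers z' ↔ (x : G) ∈ zpowers z := fun x =>
    ⟨fun ⟨k, hk⟩ => ⟨k, by simp [← hk, z']⟩, fun ⟨k, hk⟩ => ⟨k, Subtype.ext (by simpa [z'] using hk)⟩⟩
  obtain ⟨c1, s, R, H⟩ := preC (z := z') (μ := QuotientGroup.mk' (zpowers z'))
    ⟨by rw [← orderOf_coe, z4], zc, z1, inferInstance, hQ, cQ, fun g => QuotientGroup.eq_one_iff g⟩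
    (QuotientGroup.mk' _) (QuotientGroup.mk'_surjective _) (fun g => QuotientGroup.eq_one_iff g) _ hR cR
    (e.toMonoidHom.comp (QuotientGroup.mk' _)) (e.surjective.comp (QuotientGroup.mk'_surjective _))
    (fun g => by simp) (isSyl_sylow_of_le S hSC).subgroupOf_top fun x hx => (hzz x).2 (by
      rw [← z5, hZ]
      exact ⟨hx.1, fun y hy => congrArg Subtype.val (hx.2 ⟨y, hSC hy⟩ hy)⟩)
  have hi := (Ce z).subtype_injective
  refine ⟨z, s, (pCore 3 (Ce z)).map (Ce z).subtype, R.map (Ce z).subtype, _, z4, ⟨_, z1, rfl⟩,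
    map_subtype_le _, le_normalizer_map_subtype _,
    H78.isExtraspecial_of_equiv (equivMapOfInjective _ _ hi) hQ, (card_map_of_injective hi).trans cQ,
    H.xs.map _ fun x _ e => Subtype.ext e, (card_map_of_injective hi).trans H.cardR, map_subtype_le _,
    fun g hg => le_normalizer_map _ ⟨⟨g, hg.1⟩, H.Rn (mem_Ce.2 (Subtype.ext (mem_Ce.1 hg.2))), rfl⟩,
    H.surj, fun g => by rw [H.kerπ, ← Subgroup.map_sup]; exact (mem_map_iff_mem hi).symm, fun g hg => ?_, ?_,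
    fun g hg h => ⟨⟨g, hg⟩, H.faith (mem_KK.2 fun q hq => ?_), rfl⟩, fun P hP => ?_, g, ?_, fun h => g2 ?_⟩
  · obtain ⟨q, hq, h⟩ := H.frat ⟨g, hg⟩
    exact ⟨q, ⟨q, hq, rfl⟩, mem_Ce.2 (congrArg Subtype.val (mem_Ce.1 h))⟩
  · rintro _ ⟨q, hq, rfl⟩
    exact (hzz _).1 (H.inv q hq)
  · have := (H.ker ⁅(⟨g, hg⟩ : Ce z), q⁆).2 ((hzz _).2 (h q ⟨q, hq, rfl⟩))
    rw [map_commutatorElement, commutatorElement_eq_one_iff_mul_comm] at this
    exact this.symm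
  · rw [← c1, Nat.card_congr (subgroupOfEquivOfLe hSC).toEquiv]
    exact (isSyl_sylow S).card_le hP le_top
  · exact hSC (g1 (conj_mem_cj hz))
  · refine eq_of_le_of_card_ge ?_ (card_cj g Z).ge
    rw [z5, cj, MonoidHom.map_zpowers]
    exact zpowers_le.2 h

end H89.C3
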