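import Cfsg.Agent.H89.OScott
import Cfsg.Agent.S0493

/-! Composition length: chains of subgroups each normal in the next, and the bound
`4 (n - r) / 3` for permutation groups. -/

set_option autoImplicit false
set_option linter.unusedSectionVars false

namespace H89

open MulAction Cfsg
open scoped Pointwise

/-- number of prime factors with multiplicity -/
abbrev om (n : ℕ) : ℕ := ArithmeticFunction.cardFactors n

theorem om_le_log (m : ℕ) : om m ≤ Nat.log 2 m := by
  rcases eq_or_ne m 0 with rfl | h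
  · simp
  refine Nat.le_log_of_pow_le one_lt_two ?_
  conv_rhs => rw [← Nat.prod_primeFactorsList h]
  exact List.pow_card_le_prod _ _ fun x hx => (Nat.prime_of_mem_primeFactorsList hx).two_le

variable {G G' : Type*} [Group G] [Group G']

theorem om_card [Finite G] (A : Subgroup G) : om (Nat.card G) = om A.index + om (Nat.card A) := by
  rw [← A.index_mul_card]
  exact ArithmeticFunction.cardFactors_mul A.index_ne_zero_of_finite Nat.card_pos.ne'

theorem om_card_of_le [Finite G] {A B : Subgroup G} (h : A ≤ B) :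
    om (Nat.card B) = om (A.relIndex B) + om (Nat.card A) := by
  rw [om_card (A.subgroupOf B), Nat.card_congr (Subgroup.subgroupOfEquivOfLe h).toEquiv]
  rfl

theorem om_card_lt [Finite G] {A B : Subgroup G} (h : A < B) :
    om (Nat.card A) < om (Nat.card B) := by
  rw [om_card_of_le h.le]
  refine Nat.lt_add_of_pos_left (ArithmeticFunction.cardFactors_pos_iff_one_lt.2 ?_)
  exact Subgroup.one_lt_index_of_ne_top fun e => h.not_ge (Subgroup.subgroupOf_eq_top.1 e)

/-- a chain of length `n` from `A` to `B`, each term normal in the next -/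
inductive Ch (A : Subgroup G) : Subgroup G → ℕ → Prop
  | refl : Ch A A 0
  | step {B C : Subgroup G} {n : ℕ} : Ch A B n → B < C →
      (∀ c ∈ C, ∀ b ∈ B, c * b * c⁻¹ ∈ B) → Ch A C (n + 1)

theorem Ch.trans {A B C : Subgroup G} {m n : ℕ} (h : Ch A B m) (h' : Ch B C n) :
    Ch A C (m + n) := by
  induction h' with
  | refl => exact h
  | step _ h1 h2 ih => exact ih.step h1 h2

theorem Ch.comap (f : G' →* G) {A B : Subgroup G} {n : ℕ} (h : Ch A B n) (hB : B ≤ f.range) :
    Ch (A.comap f) (B.comap f) n := by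
  induction h with
  | refl => exact .refl
  | step _ h1 h2 ih =>
    refine (ih (h1.le.trans hB)).step (lt_of_le_not_ge (Subgroup.comap_mono h1.le) fun e =>
      h1.not_ge ((Subgroup.comap_le_comap_of_le_range hB).1 e)) fun c hc b hb => ?_
    simpa using h2 _ hc _ hb

theorem map_conj_mem (f : G →* G') {B C : Subgroup G} (h : ∀ c ∈ C, ∀ b ∈ B, c * b * c⁻¹ ∈ B) :
    ∀ c ∈ C.map f, ∀ b ∈ B.map f, c * b * c⁻¹ ∈ B.map f := by
  rintro _ ⟨c, hc, rfl⟩ _ ⟨b, hb, rfl⟩
  exact ⟨_, h c hc b hb, by simp⟩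

theorem Ch.map {f : G →* G'} (hf : Function.Injective f) {A B : Subgroup G} {n : ℕ}
    (h : Ch A B n) : Ch (A.map f) (B.map f) n := by
  induction h with
  | refl => exact .refl
  | step _ h1 h2 ih =>
    exact ih.step (lt_of_le_not_ge (Subgroup.map_mono h1.le) fun e =>
      h1.not_ge ((Subgroup.map_le_map_iff_of_injective hf).1 e)) (map_conj_mem f h2)

theorem Ch.split (f : G →* G') {A B : Subgroup G} {n : ℕ} (h : Ch A B n) :
    ∃ a b, n ≤ a + b ∧ Ch (A ⊓ f.ker) (B ⊓ f.ker) a ∧ Ch (A.map f) (B.map f) b := by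
  induction h with
  | refl => exact ⟨0, 0, le_rfl, .refl, .refl⟩
  | @step B C n _ h1 h2 ih =>
    obtain ⟨a, b, h3, h4, h5⟩ := ih
    have n1 : ∀ c ∈ C ⊓ f.ker, ∀ b ∈ B ⊓ f.ker, c * b * c⁻¹ ∈ B ⊓ f.ker := fun c hc b hb =>
      ⟨h2 c hc.1 b hb.1, f.normal_ker.conj_mem b hb.2 c⟩
    rcases (inf_le_inf_right f.ker h1.le).eq_or_lt with e | e <;>
      rcases (Subgroup.map_mono (f := f) h1.le).eq_or_lt with e' | e'
    · refine absurd (fun c hc => ?_) h1.not_ge
      obtain ⟨b, hb, e2⟩ := e'.ge ⟨c, hc, rfl⟩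
      exact (B.mul_mem_cancel_left (B.inv_mem hb)).1 (e.ge ⟨C.mul_mem (C.inv_mem (h1.le hb)) hc,
        MonoidHom.mem_ker.2 (by simp [e2])⟩).1
    · exact ⟨a, b + 1, by omega, e ▸ h4, h5.step e' (map_conj_mem f h2)⟩
    · exact ⟨a + 1, b, by omega, h4.step e n1, e' ▸ h5⟩
    · exact ⟨a + 1, b + 1, by omega, h4.step e n1, h5.step e' (map_conj_mem f h2)⟩

theorem Ch.le_om [Finite G] {A B : Subgroup G} {n : ℕ} (h : Ch A B n) :
    n + om (Nat.card A) ≤ om (Nat.card B) := by
  induction h with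
  | refl => simp
  | step _ h1 _ ih => have := om_card_lt h1; omega

/-- composition length -/
noncomputable def cl (G : Type*) [Group G] : ℕ := sSup {n | Ch (⊥ : Subgroup G) ⊤ n}

variable [Finite G] [Finite G']

theorem Ch.le_cl {n : ℕ} (h : Ch (⊥ : Subgroup G) ⊤ n) : n ≤ cl G :=
  le_csSup ⟨om (Nat.card (⊤ : Subgroup G)), fun _ h => le_of_add_le_left h.le_om⟩ h

theorem ch_cl (G : Type*) [Group G] [Finite G] : Ch (⊥ : Subgroup G) ⊤ (cl G) := by
  refine Nat.sSup_mem (s := {n | Ch (⊥ : Subgroup G) ⊤ n}) ?_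
    ⟨om (Nat.card (⊤ : Subgroup G)), fun _ h => le_of_add_le_left h.le_om⟩
  rcases (bot_le (a := (⊤ : Subgroup G))).eq_or_lt with e | e
  · exact ⟨0, e ▸ .refl⟩
  · exact ⟨1, Ch.refl.step e (by simp)⟩

theorem cl_le_om : cl G ≤ om (Nat.card G) := by
  simpa using (ch_cl G).le_om

theorem cl_eq_add (f : G →* G') (hf : Function.Surjective f) : cl G = cl f.ker + cl G' := by
  refine le_antisymm ?_ ?_
  · obtain ⟨a, b, h1, h2, h3⟩ := (ch_cl G).split f
    have h4 := h2.comap f.ker.subtype (by simp)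
    rw [Subgroup.map_bot, Subgroup.map_top_of_surjective f hf] at h3
    simp only [bot_le, inf_of_le_left, Subgroup.comap_subtype, Subgroup.bot_subgroupOf, le_top,
      inf_of_le_right, Subgroup.subgroupOf_self] at h4
    exact h1.trans (add_le_add h4.le_cl h3.le_cl)
  · have h1 := (ch_cl f.ker).map f.ker.subtype_injective
    rw [Subgroup.map_bot, ← MonoidHom.range_eq_map, Subgroup.range_subtype] at h1
    exact (h1.trans ((ch_cl G').comap f (MonoidHom.range_eq_top.2 hf).ge)).le_cl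

theorem cl_le_of_surjective (f : G →* G') (hf : Function.Surjective f) : cl G' ≤ cl G :=
  cl_eq_add f hf ▸ Nat.le_add_left _ _

theorem cl_le_one [IsSimpleGroup G] : cl G ≤ 1 := by
  have := ch_cl G
  generalize cl G = n, e : (⊤ : Subgroup G) = T at this
  cases this with
  | refl => omega
  | step h h1 h2 =>
    subst e
    rcases (Subgroup.Normal.mk fun b hb c => h2 c trivial b hb).eq_bot_or_eq_top with rfl | rfl
    · simpa using h.le_om
    · exact absurd h1 (lt_irrefl _)

theorem cl_sup_le {A B : Subgroup G} (h : A ≤ Subgroup.normalizer (B : Set G)) :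
    cl (A ⊔ B : Subgroup G) ≤ cl A + cl B := by
  haveI := Subgroup.normal_subgroupOf_sup_of_le_normalizer h
  rw [cl_eq_add _ (QuotientGroup.mk'_surjective (B.subgroupOf (A ⊔ B))), QuotientGroup.ker_mk',
    add_comm]
  refine add_le_add (cl_le_of_surjective ((QuotientGroup.mk' _).comp
    (Subgroup.inclusion le_sup_left)) fun x => ?_) (cl_le_of_surjective
      (Subgroup.subgroupOfEquivOfLe le_sup_right).symm.toMonoidHom (MulEquiv.surjective _))
  obtain ⟨⟨x, hx⟩, rfl⟩ := QuotientGroup.mk_surjective x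
  have : x ∈ (A : Set G) * (B : Set G) := by
    rw [← Subgroup.coe_mul_of_left_le_normalizer_right A B h]; exact hx
  obtain ⟨a, ha, b, hb, rfl⟩ := this
  exact ⟨⟨a, ha⟩, QuotientGroup.eq.2 (by simpa [Subgroup.mem_subgroupOf] using hb)⟩

theorem comp_sSup_bounds (hF : fittingSubgroup G = ⊥) (s : Set (Subgroup G))
    (hs : ∀ T ∈ s, IsComponent T) :
    cl (sSup s : Subgroup G) ≤ s.ncard ∧ s.ncard ≤ om (Nat.card (sSup s : Subgroup G)) := by
  induction s, Set.toFinite s using Set.Finite.induction_on with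
  | empty => simpa using cl_le_om (G := (sSup ∅ : Subgroup G))
  | @insert T s hT hf ih =>
    have h1 := hs T (Set.mem_insert _ _)
    have h2 : ∀ L ∈ s, IsComponent L := fun L hL => hs L (Set.mem_insert_of_mem _ hL)
    obtain ⟨h3, h4⟩ := ih h2
    haveI := comp_simple hF h1
    rw [sSup_insert, Set.ncard_insert_of_notMem hT hf]
    have h5 := cl_sup_le (A := T) (B := sSup s) fun t ht => Subgroup.mem_normalizer_fintype
      fun x hx => (sSup_le (a := (sSup s).comap (MulAut.conj t).toMonoidHom) fun L hL y hy =>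
        le_sSup hL (comp_norm (h2 L hL) (H14.comp_le_layer h1 ht) hy)) hx
    have h6 := om_card_lt (right_lt_sup.2 fun e => hT (H14.comp_mem_of_le_sSup h2 h1 e))
    have := cl_le_one (G := T)
    omega

variable {Ω : Type*} [MulAction G Ω] [Finite Ω]

theorem relIndex_stabilizer (K : Subgroup G) (β : Ω) :
    (K ⊓ stabilizer G β).relIndex K = (orbit K β).ncard := by
  rw [Subgroup.inf_relIndex_left, ← index_stabilizer]
  rfl

theorem om_le_of_regular [FaithfulSMul G Ω] {M X : Subgroup G} (hMX : M ≤ X)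
    (hX : X ≤ Subgroup.normalizer (M : Set G)) [IsPretransitive M Ω] {α : Ω}
    (reg : ∀ m ∈ M, m • α = α → m = 1) :
    om (Nat.card X) ≤ om (Nat.card Ω) * (1 + Nat.log 2 (Nat.card Ω - 1)) := by
  have key : ∀ K : Subgroup G, K ≤ X ⊓ stabilizer G α → om (Nat.card K) +
      om (Nat.card (M ⊓ Subgroup.centralizer (K : Set G) : Subgroup G)) *
        Nat.log 2 (Nat.card Ω - 1) ≤ om (Nat.card M) * Nat.log 2 (Nat.card Ω - 1) := by
    intro K
    induction K using WellFoundedLT.induction with | ind K ih => ?_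
    intro hK
    rcases eq_or_ne K ⊥ with rfl | h
    · simp
    obtain ⟨⟨k, hk⟩, k1⟩ := (Subgroup.ne_bot_iff_exists_ne_one).1 h
    obtain ⟨β, hβ⟩ : ∃ β : Ω, k • β ≠ β := by
      by_contra hc
      push Not at hc
      exact k1 (Subtype.ext (eq_of_smul_eq_smul (α := Ω) fun β => by simp [hc]))
    obtain ⟨⟨v, hv⟩, rfl⟩ := exists_smul_eq M α β
    change k • v • α ≠ v • α at hβ
    have h1 := ih (K ⊓ stabilizer G (v • α)) (lt_of_le_not_ge inf_le_left fun e => hβ (e hk).2)
      (inf_le_left.trans hK)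
    have h2 := om_card_lt (A := M ⊓ Subgroup.centralizer (K : Set G))
      (B := M ⊓ Subgroup.centralizer (K ⊓ stabilizer G (v • α) : Subgroup G))
      (lt_of_le_not_ge (inf_le_inf_left _ (Subgroup.centralizer_le inf_le_left)) fun e => hβ (by
        have := (e (x := v) ⟨hv, fun a ha => ?_⟩).2 k hk
        · rw [← mul_smul, this, mul_smul, show k • α = α from (hK hk).2]
        have := reg (v⁻¹ * (a * v * a⁻¹)) (M.mul_mem (M.inv_mem hv)
          ((Subgroup.mem_normalizer_iff.1 (hX (hK ha.1).1) v).1 hv)) (by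
            rw [mul_smul, mul_smul, mul_smul, show a⁻¹ • α = α from (inv_mem (hK ha.1)).2,
              show a • v • α = v • α from ha.2, inv_smul_smul])
        rwa [inv_mul_eq_one, eq_mul_inv_iff_mul_eq, eq_comm] at this))
    have h3 : om ((K ⊓ stabilizer G (v • α)).relIndex K) ≤ Nat.log 2 (Nat.card Ω - 1) := by
      refine (om_le_log _).trans (Nat.log_mono_right ?_)
      rw [relIndex_stabilizer, ← Set.ncard_univ, ← Set.ncard_sdiff_singleton_of_mem (Set.mem_univ α)]
      refine Set.ncard_le_ncard ?_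
      rintro _ ⟨a, rfl⟩
      refine ⟨trivial, fun e => hβ ?_⟩
      have : v • α = α := smul_left_cancel (a : G) (e.trans (hK a.2).2.symm)
      rw [this, show k • α = α from (hK hk).2]
    rw [om_card_of_le (inf_le_left (a := K) (b := stabilizer G (v • α)))]
    nlinarith
  have h1 := key _ le_rfl
  have h2 : orbit X α = Set.univ := Set.eq_univ_of_forall fun ω =>
    let ⟨m, e⟩ := exists_smul_eq M α ω; ⟨⟨m, hMX m.2⟩, e⟩
  have h3 : Nat.card M = Nat.card Ω :=
    card_eq_of_regular α ((stabilizer_subgroup_eq_bot_iff M α).2 reg)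
  rw [om_card_of_le (inf_le_left (a := X) (b := stabilizer G α)), relIndex_stabilizer, h2,
    Set.ncard_univ, mul_add, mul_one]
  rw [h3] at h1
  omega

theorem card_le_orbits {X : Type*} (ψ : X → Ω) (h : ∀ x y, ∀ g : G, g • ψ x = ψ y → x = y) :
    Nat.card X ≤ Nat.card (orbitRel.Quotient G Ω) :=
  Nat.card_le_card_of_injective (fun x => Quotient.mk'' (ψ x)) fun x y e =>
    let ⟨g, e⟩ := Quotient.exact' e; (h y x g e).symm

theorem index_add_orbits_le {H : Subgroup G} {α : Ω} (hH : stabilizer G α ≤ H) :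
    H.index + Nat.card (orbitRel.Quotient G Ω) ≤
      Nat.card (orbitRel.Quotient (toPermHom G (G ⧸ H)).ker Ω) + 1 := by
  classical
  rw [← Nat.card_congr (Equiv.optionSubtypeNe (Quotient.mk'' α : orbitRel.Quotient G Ω)),
    Finite.card_option, ← add_assoc, add_le_add_iff_right, Subgroup.index, ← Nat.card_sum]
  refine card_le_orbits (Sum.elim (fun x => x.out • α) fun q => q.1.out) ?_
  rintro (x | q) (y | q') ⟨k, hk⟩ e
  · have h1 : k • x = x := Equiv.congr_fun (MonoidHom.mem_ker.1 hk) x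
    congr 1
    rw [← h1, ← x.out_eq, ← y.out_eq]
    refine (QuotientGroup.eq.2 (hH ?_)).symm
    change (y.out⁻¹ * (k * x.out)) • α = α
    rw [mul_smul, mul_smul, inv_smul_eq_iff]
    exact e
  · exact absurd (q'.1.out_eq.symm.trans (Quotient.sound ⟨k * x.out, (mul_smul _ _ _).trans e⟩)) q'.2
  · exact absurd (q.1.out_eq.symm.trans (Quotient.sound ⟨k⁻¹ * y.out,
      (mul_smul _ _ _).trans (inv_smul_eq_iff.2 e.symm)⟩)) q.2
  · exact congrArg _ (Subtype.ext (q.1.out_eq.symm.trans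
      ((Quotient.sound' (s₁ := orbitRel G Ω) ⟨k, e⟩).symm.trans q'.1.out_eq)))

theorem om_num1 {n : ℕ} (h : 2 ≤ n) : 3 * (om n * (1 + Nat.log 2 (n - 1))) + 4 ≤ 4 * n := by
  rcases lt_or_ge n 16 with h1 | h1
  · interval_cases n <;> simp [ArithmeticFunction.cardFactors_apply] <;> norm_num
  have h2 : 4 ≤ Nat.log 2 n := Nat.le_log_of_pow_le one_lt_two h1
  have h3 : ∀ e, 4 ≤ e → 3 * (e * (1 + e)) + 4 ≤ 4 * 2 ^ e := fun e he => by
    induction e, he using Nat.le_induction with
    | base => norm_num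
    | succ e he ih => rw [pow_succ]; nlinarith
  have := Nat.mul_le_mul (om_le_log n)
    (Nat.add_le_add_left (Nat.log_mono_right (b := 2) (Nat.sub_le n 1)) 1)
  have := h3 _ h2
  have := Nat.pow_log_le_self 2 (x := n) (by omega)
  omega

theorem om_num2 {n : ℕ} (h : 60 ≤ n) : 6 * (om n * (1 + Nat.log 2 (n - 1))) + 4 ≤ 4 * n := by
  have h2 : 5 ≤ Nat.log 2 n := Nat.le_log_of_pow_le one_lt_two (by omega)
  have h3 : ∀ e, 6 ≤ e → 6 * (e * (1 + e)) + 4 ≤ 4 * 2 ^ e := fun e he => by
    induction e, he using Nat.le_induction with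
    | base => norm_num
    | succ e he ih => rw [pow_succ]; nlinarith
  have := Nat.mul_le_mul (om_le_log n)
    (Nat.add_le_add_left (Nat.log_mono_right (b := 2) (Nat.sub_le n 1)) 1)
  rcases h2.eq_or_lt with e | e
  · rw [← e] at this
    omega
  · have := h3 _ e
    have := Nat.pow_log_le_self 2 (x := n) (by omega)
    omega

theorem cl_top : cl (⊤ : Subgroup G) = cl G :=
  le_antisymm (cl_le_of_surjective Subgroup.topEquiv.symm.toMonoidHom (MulEquiv.surjective _))
    (cl_le_of_surjective Subgroup.topEquiv.toMonoidHom (MulEquiv.surjective _))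

theorem index_normalizer_sSup_le (s : Set (Subgroup G)) (hs : ∀ T ∈ s, IsComponent T) :
    (Subgroup.normalizer ((sSup s : Subgroup G) : Set G)).index ≤
      2 ^ {T : Subgroup G | IsComponent T}.ncard := by
  rw [← Set.ncard_powerset, ← Nat.card_coe_set_eq]
  refine Nat.card_le_card_of_injective (fun x => ⟨{T | IsComponent T ∧
    ∀ t ∈ T, x.out⁻¹ * t * x.out ∈ sSup s}, fun T hT => hT.1⟩) fun x y e => ?_
  rw [← x.out_eq, ← y.out_eq]
  refine QuotientGroup.eq.2 (Subgroup.mem_normalizer_fintype fun m hm =>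
    (sSup_le (a := (sSup s).comap (MulAut.conj (x.out⁻¹ * y.out)).toMonoidHom)
      fun L hL l hl => ?_) hm)
  have := ((Set.ext_iff.1 (congrArg Subtype.val e) (L.map (MulAut.conj y.out).toMonoidHom)).2
    ⟨H14.comp_map_conj (hs L hL) _, fun t ht => le_sSup hL (mem_map_conj.1 ht)⟩).2 _ ⟨l, hl, rfl⟩
  simpa [mul_assoc] using this

section Prim

variable [FaithfulSMul G Ω] [IsPreprimitive G Ω] [Nontrivial Ω]

theorem ncard_comp_lt_orbits (α : Ω) (h : ∀ T : Subgroup G, IsComponent T → ∃ t ∈ T,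
      ∀ c ∈ layer G ⊓ Subgroup.centralizer (T : Set G), c • α ≠ t • α) :
    {T : Subgroup G | IsComponent T}.ncard + 1 ≤
      Nat.card (orbitRel.Quotient (stabilizer G α) Ω) := by
  choose! t ht ht' using h
  let S : Ω → Set (Subgroup G) := fun ω => {T | IsComponent T ∧
    ∀ c ∈ layer G ⊓ Subgroup.centralizer (T : Set G), c • α ≠ ω}
  have inv : ∀ (g : stabilizer G α) (ω : Ω), (S ω).ncard ≤ (S (g • ω)).ncard := fun g ω =>
    Set.ncard_le_ncard_of_injOn (fun T => T.map (MulAut.conj (g : G)).toMonoidHom)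
      (fun T hT => ⟨H14.comp_map_conj hT.1 _, fun c hc e => hT.2 ((g : G)⁻¹ * c * g)
        ⟨Subgroup.Normal.conj_mem' inferInstance c hc.1 g, fun y hy => by
          have := hc.2 _ ⟨y, hy, rfl⟩
          change (g : G) * y * (g : G)⁻¹ * c = c * (g * y * (g : G)⁻¹) at this
          calc _ = (g : G)⁻¹ * (g * y * (g : G)⁻¹ * c) * g := by group
            _ = _ := by rw [this]; group⟩
        (by rw [mul_smul, mul_smul, show (g : G) • α = α from g.2, e]; exact inv_smul_smul g ω)⟩)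
      (Subgroup.map_injective (MulAut.conj (g : G)).injective).injOn
  have ex : ∀ s : Set (Subgroup G), (∀ T ∈ s, IsComponent T) → ∃ x ∈ layer G,
      ∀ T : Subgroup G, IsComponent T → (T ∉ s → x ∈ Subgroup.centralizer (T : Set G)) ∧
        (T ∈ s → ∃ c ∈ layer G ⊓ Subgroup.centralizer (T : Set G), x = c * t T) := by
    intro s hs
    induction s, Set.toFinite s using Set.Finite.induction_on with
    | empty => exact ⟨1, one_mem _, fun T _ => ⟨fun _ => one_mem _, False.elim⟩⟩
    | @insert L s hL hf ih =>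
      have h1 := hs L (Set.mem_insert _ _)
      obtain ⟨x, hx, h2⟩ := ih fun T hT => hs T (Set.mem_insert_of_mem _ hT)
      have h3 := H14.comp_le_layer h1 (ht L h1)
      have h4 : ∀ T : Subgroup G, IsComponent T → T ≠ L →
          t L ∈ Subgroup.centralizer (T : Set G) := fun T hT e y hy =>
        comp_comm hT h1 e hy (ht L h1)
      refine ⟨t L * x, mul_mem h3 hx, fun T hT => ⟨fun e => mul_mem
        (h4 T hT fun e' => e (Or.inl e')) ((h2 T hT).1 fun e' => e (Or.inr e')), ?_⟩⟩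
      rintro (rfl | e)
      · exact ⟨x, ⟨hx, (h2 T hT).1 hL⟩, (h2 T hT).1 hL _ (ht T hT)⟩
      · obtain ⟨c, hc, rfl⟩ := (h2 T hT).2 e
        exact ⟨t L * c, mul_mem (Subgroup.mem_inf.2 ⟨h3, h4 T hT fun e' => hL (e' ▸ e)⟩) hc,
          (mul_assoc _ _ _).symm⟩
  have ex2 : ∀ j : Fin ({T : Subgroup G | IsComponent T}.ncard + 1), ∃ ω, (S ω).ncard = j := by
    intro j
    obtain ⟨s, hs, e⟩ := Set.exists_subset_card_eq (Nat.lt_succ_iff.1 j.2)
    obtain ⟨x, hx, h⟩ := ex s hs
    refine ⟨x • α, e ▸ congrArg _ (Set.ext fun T => ⟨fun hT => by_contra fun e =>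
      hT.2 x ⟨hx, (h T hT.1).1 e⟩ rfl, fun hT => ⟨hs hT, fun c hc e => ?_⟩⟩)⟩
    obtain ⟨c', hc', rfl⟩ := (h T (hs hT)).2 hT
    exact ht' T (hs hT) _ (mul_mem (inv_mem hc') hc) (by rw [mul_smul, e, mul_smul, inv_smul_smul])
  choose ψ hψ using ex2
  simpa using card_le_orbits (G := stabilizer G α) ψ fun x y g e => Fin.ext (by
    rw [← hψ, ← hψ]
    exact le_antisymm (e ▸ inv g _) (inv_smul_eq_iff.2 e.symm ▸ inv g⁻¹ (ψ y)))

theorem exists_regular_sSup (hF : fittingSubgroup G = ⊥) (α : Ω) {T : Subgroup G}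
    (hT : IsComponent T)
    (h : ∀ t ∈ T, ∃ c ∈ layer G ⊓ Subgroup.centralizer (T : Set G), c • α = t • α) :
    ∃ s : Set (Subgroup G), T ∈ s ∧ (∀ L ∈ s, IsComponent L) ∧
      IsPretransitive (sSup s : Subgroup G) Ω ∧ ∀ m ∈ sSup s, m • α = α → m = 1 := by
  haveI := nontrivial_of_primitive (G := G) Ω
  haveI := isPretransitive_of_normal_of_primitive (Ω := Ω) (layer G) (layer_ne_bot hF)
  have hE := sup_stabilizer_eq_top (layer G) α
  let S : Set (Subgroup G) := {T | IsComponent T ∧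
    ∀ t ∈ T, ∃ c ∈ layer G ⊓ Subgroup.centralizer (T : Set G), c • α = t • α}
  have norm : ∀ s : Set (Subgroup G), (∀ L ∈ s, IsComponent L) → ∀ x ∈ layer G, ∀ m ∈ sSup s,
      x * m * x⁻¹ ∈ sSup s := fun s hs x hx m hm =>
    (sSup_le (a := (sSup s).comap (MulAut.conj x).toMonoidHom) fun L hL y hy =>
      le_sSup hL (comp_norm (hs L hL) hx hy)) hm
  have act : ∀ L ∈ S, ∀ a ∈ L, ∃ x ∈ layer G, x • α = α ∧ ∀ r ∈ L, a * r * a⁻¹ = x * r * x⁻¹ :=
    fun L hL a ha => by
      obtain ⟨c, hc, e⟩ := hL.2 a ha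
      refine ⟨c⁻¹ * a, mul_mem (inv_mem hc.1) (H14.comp_le_layer hL.1 ha),
        by rw [mul_smul, ← e, inv_smul_smul], fun r hr => ?_⟩
      calc _ = c⁻¹ * (c * (a * r * a⁻¹)) := by group
        _ = _ := by rw [← hc.2 _ (L.mul_mem (L.mul_mem ha hr) (L.inv_mem ha))]; group
  have hN : (sSup S).Normal := normal_of_layer hE (norm S fun L hL => hL.1) fun g hg m hm =>
    (sSup_le (a := (sSup S).comap (MulAut.conj g).toMonoidHom) fun L hL y hy =>
      le_sSup (s := S) (a := L.map (MulAut.conj g).toMonoidHom) ⟨H14.comp_map_conj hL.1 _, by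
        rintro _ ⟨t, ht, rfl⟩
        obtain ⟨c, hc, e⟩ := hL.2 t ht
        refine ⟨g * c * g⁻¹, ⟨Subgroup.Normal.conj_mem inferInstance c hc.1 g, ?_⟩, ?_⟩
        · rintro _ ⟨y, hy, rfl⟩
          change g * y * g⁻¹ * _ = _ * (g * y * g⁻¹)
          rw [conj_mul, conj_mul, hc.2 y hy]
        · change _ = (g * t * g⁻¹) • α
          simp only [mul_smul, show g⁻¹ • α = α from inv_mem hg, e]⟩ ⟨y, hy, rfl⟩) hm
  haveI := isPretransitive_of_normal_of_primitive (Ω := Ω) (sSup S) fun e =>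
    H14.comp_ne_bot hT (eq_bot_iff.2 (e ▸ le_sSup ⟨hT, h⟩))
  obtain ⟨s, hs, hmax⟩ := Finite.exists_le_maximal
    (p := fun s : Set (Subgroup G) => s ⊆ S ∧ ∀ m ∈ sSup s, m • α = α → m = 1) (a := {T})
    ⟨Set.singleton_subset_iff.2 ⟨hT, h⟩, fun m hm e => by_contra fun m1 =>
      comp_not_le hE (fun A _ => eq_bot_of_normal_of_le_stabilizer) hT
        (comp_le_of_normalized hF hT (fun a ha r hr hr' => by
          obtain ⟨x, -, h1, h2⟩ := act T ⟨hT, h⟩ a ha
          rw [h2 r hr]
          exact conj_smul_fix (v := α) h1 hr') (by simpa using hm) e m1)⟩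
  have hc : ∀ L ∈ s, IsComponent L := fun L hL => (hmax.1.1 hL).1
  refine ⟨s, hs rfl, hc, ?_, hmax.1.2⟩
  let D : Subgroup G :=
    { carrier := {g | g ∈ layer G ∧ ∃ m ∈ sSup s, m • α = g • α}
      one_mem' := ⟨one_mem _, 1, one_mem _, rfl⟩
      mul_mem' := fun {g g'} ⟨h1, m, hm, e⟩ ⟨h2, m', hm', e'⟩ => ⟨mul_mem h1 h2,
        g * m' * g⁻¹ * m, mul_mem (norm s hc g h1 m' hm') hm, by simp [mul_smul, e, e']⟩
      inv_mem' := fun {g} ⟨h1, m, hm, e⟩ => ⟨inv_mem h1, g⁻¹ * m⁻¹ * g⁻¹⁻¹,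
        norm s hc _ (inv_mem h1) _ (inv_mem hm), by simp [mul_smul, ← e]⟩ }
  have hD : sSup S ≤ D := sSup_le fun L hL => by
    by_cases e : L ∈ s
    · exact fun y hy => ⟨H14.comp_le_layer hL.1 hy, y, le_sSup e hy, rfl⟩
    obtain ⟨m, hm, h1, m1⟩ : ∃ m ∈ sSup (insert L s), m • α = α ∧ m ≠ 1 := by
      by_contra hcon
      push Not at hcon
      exact e (hmax.2 ⟨Set.insert_subset hL hmax.1.1, hcon⟩ (Set.subset_insert _ _)
        (Set.mem_insert _ _))
    have : m ∈ ((sSup s : Subgroup G) : Set G) * (L : Set G) := by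
      rw [← Subgroup.coe_mul_of_right_le_normalizer_left _ L fun t ht =>
        Subgroup.mem_normalizer_fintype (norm s hc t (H14.comp_le_layer hL.1 ht)), sup_comm,
        ← sSup_insert]
      exact hm
    obtain ⟨y, hy, r, hr, rfl⟩ := this
    refine comp_le_of_normalized hF hL.1 (fun a ha r hr hr' => ?_) hr
      ⟨H14.comp_le_layer hL.1 hr, y⁻¹, inv_mem hy, inv_smul_eq_iff.2 (h1.symm.trans (mul_smul _ _ _))⟩
      fun e => m1 (by subst e; exact hmax.1.2 _ (by simpa using hy) h1)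
    obtain ⟨x, hx, h1, h2⟩ := act L hL a ha
    have : x ∈ D := ⟨hx, 1, one_mem _, by rw [h1, one_smul]⟩
    rw [h2 r hr]
    exact mul_mem (mul_mem this hr') (inv_mem this)
  have key : ∀ ω : Ω, ∃ m ∈ sSup s, m • α = ω := fun ω =>
    let ⟨g, e⟩ := exists_smul_eq (sSup S : Subgroup G) α ω
    let ⟨m, hm, e'⟩ := (hD g.2).2
    ⟨m, hm, e'.trans e⟩
  refine ⟨fun a b => ?_⟩
  obtain ⟨m, hm, rfl⟩ := key a
  obtain ⟨m', hm', rfl⟩ := key b
  exact ⟨⟨m' * m⁻¹, mul_mem hm' (inv_mem hm)⟩, by simp [Subgroup.smul_def, mul_smul]⟩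

theorem cl_prim (α : Ω) (ih : 3 * cl (stabilizer G α) +
      4 * Nat.card (orbitRel.Quotient (stabilizer G α) Ω) ≤ 4 * Nat.card Ω) :
    3 * cl G + 4 ≤ 4 * Nat.card Ω := by
  haveI := nontrivial_of_primitive (G := G) Ω
  by_cases hab : ∀ N : Subgroup G, N.Normal → IsMulCommutative N → N = ⊥
  swap
  · push Not at hab
    obtain ⟨N, hN, hc, h1⟩ := hab
    obtain ⟨h2, h3, -⟩ := affine_of_abelian_normal (Ω := Ω) h1 hc
    have := om_le_of_regular (M := N) (X := ⊤) le_top (Subgroup.normalizer_eq_top N).ge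
      ((stabilizer_subgroup_eq_bot_iff N α).1 (h3 α))
    rw [Subgroup.card_top] at this
    have := cl_le_om (G := G)
    have := om_num1 (Finite.one_lt_card (α := Ω))
    omega
  have hF := fitting_eq_bot_of hab
  haveI := isPretransitive_of_normal_of_primitive (Ω := Ω) (layer G) (layer_ne_bot hF)
  obtain ⟨h1, h2⟩ := comp_sSup_bounds hF {T : Subgroup G | IsComponent T} fun _ h => h
  by_cases h : ∀ T : Subgroup G, IsComponent T → ∃ t ∈ T,
      ∀ c ∈ layer G ⊓ Subgroup.centralizer (T : Set G), c • α ≠ t • α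
  · have h3 := ncard_comp_lt_orbits α h
    have h4 := cl_sup_le (A := stabilizer G α) (B := layer G)
      (le_top.trans (Subgroup.normalizer_eq_top _).ge)
    rw [sup_comm, sup_stabilizer_eq_top, cl_top] at h4
    change cl (layer G) ≤ _ at h1
    omega
  push Not at h
  obtain ⟨T, hT, h⟩ := h
  obtain ⟨s, hs, hc, h3, h4⟩ := exists_regular_sSup hF α hT h
  have h5 := om_le_of_regular Subgroup.le_normalizer le_rfl h4
  have h6 : om _ ≤ _ := (om_le_log _).trans
    ((Nat.log_mono_right (index_normalizer_sSup_le s hc)).trans (Nat.log_pow one_lt_two _).le)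
  have h7 := om_card_of_le (A := layer G) (B := Subgroup.normalizer ((sSup s : Subgroup G) : Set G))
    fun x hx => Subgroup.mem_normalizer_fintype fun m hm =>
      (sSup_le (a := (sSup s).comap (MulAut.conj x).toMonoidHom) fun L hL y hy =>
        le_sSup hL (comp_norm (hc L hL) hx hy)) hm
  have h8 := om_card (Subgroup.normalizer ((sSup s : Subgroup G) : Set G))
  have h9 : 60 ≤ Nat.card Ω := by
    haveI := comp_simple hF hT
    rw [← card_eq_of_regular α ((stabilizer_subgroup_eq_bot_iff _ α).2 h4)]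
    refine le_trans (not_lt.1 fun e => ?_) (Subgroup.card_le_of_le (le_sSup hs))
    exact e.ne (Cfsg.Agent.S0493.result (fun _ => comp_not_comm hF hT inferInstance) (by omega))
  have := om_num2 h9
  have := cl_le_om (G := G)
  change _ ≤ om (Nat.card (layer G)) at h2
  omega

end Prim

universe u in
theorem cl_bound_aux (m : ℕ) : ∀ (G Ω : Type u) [Group G] [Finite G] [MulAction G Ω] [Finite Ω]
    [FaithfulSMul G Ω], Nat.card G + Nat.card Ω = m →
    3 * cl G + 4 * Nat.card (orbitRel.Quotient G Ω) ≤ 4 * Nat.card Ω := by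
  induction m using Nat.strong_induction_on with | _ m ih => ?_
  intro G Ω _ _ _ _ _ hm
  by_cases h : ∀ α : Ω, stabilizer G α = ⊤
  · haveI : Subsingleton G := ⟨fun a b => eq_of_smul_eq_smul (α := Ω) fun ω =>
      ((h ω).ge (Subgroup.mem_top a)).trans ((h ω).ge (Subgroup.mem_top b)).symm⟩
    have h1 := cl_le_om (G := G)
    have h2 : Nat.card (orbitRel.Quotient G Ω) ≤ Nat.card Ω :=
      Nat.card_le_card_of_surjective _ Quotient.mk''_surjective
    rw [Nat.card_of_subsingleton (1 : G), om, ArithmeticFunction.cardFactors_one] at h1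
    omega
  push Not at h
  obtain ⟨α, hα⟩ := h
  have sub : ∀ K : Subgroup G, K ≠ ⊤ →
      3 * cl K + 4 * Nat.card (orbitRel.Quotient K Ω) ≤ 4 * Nat.card Ω := fun K hK =>
    ih _ (hm ▸ Nat.add_lt_add_right (K.index_mul_card ▸ lt_mul_left Nat.card_pos
      (Subgroup.one_lt_index_of_ne_top hK)) _) K Ω rfl
  obtain ⟨H, hH, hle⟩ := (eq_top_or_exists_le_coatom (stabilizer G α)).resolve_left hα
  rcases lt_or_ge H.index (Nat.card Ω) with h | h
  · have h1 := sub (toPermHom G (G ⧸ H)).ker fun e =>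
      hH.1 (top_le_iff.1 (e ▸ H.normalCore_eq_ker ▸ H.normalCore_le))
    have h2 := ih _ (hm ▸ Nat.add_lt_add_of_le_of_lt (Nat.card_le_card_of_surjective _
      (toPermHom G (G ⧸ H)).rangeRestrict_surjective) h) (toPermHom G (G ⧸ H)).range (G ⧸ H) rfl
    have h3 := cl_eq_add _ (toPermHom G (G ⧸ H)).rangeRestrict_surjective
    have h4 := index_add_orbits_le hle
    have h5 : 0 < Nat.card (orbitRel.Quotient (toPermHom G (G ⧸ H)).range (G ⧸ H)) :=
      Nat.card_pos_iff.2 ⟨⟨Quotient.mk'' ((1 : G) : G ⧸ H)⟩, inferInstance⟩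
    rw [MonoidHom.ker_rangeRestrict] at h3
    change _ ≤ 4 * H.index at h2
    omega
  · have h1 := Nat.le_of_dvd (Nat.pos_of_ne_zero Subgroup.index_ne_zero_of_finite)
      (Subgroup.index_dvd_of_le hle)
    have h2 : orbit G α = Set.univ := Set.eq_of_subset_of_ncard_le (Set.subset_univ _)
      (by rw [Set.ncard_univ, ← index_stabilizer]; exact h.trans h1)
    haveI := (isPretransitive_iff_orbit_eq_univ α).2 h2
    have h3 : stabilizer G α = H := by
      refine Subgroup.eq_of_le_of_card_ge hle (Nat.le_of_mul_le_mul_left ?_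
        (Nat.pos_of_ne_zero (H.index_ne_zero_of_finite)))
      rw [H.index_mul_card, ← (stabilizer G α).index_mul_card, index_stabilizer_of_transitive]
      exact Nat.mul_le_mul_right _ h
    haveI : Nontrivial Ω := by
      obtain ⟨g, hg⟩ : ∃ g, g ∉ stabilizer G α := by simpa [Subgroup.eq_top_iff'] using hα
      exact ⟨_, _, hg⟩
    haveI := (isCoatom_stabilizer_iff_preprimitive G α).1 (h3 ▸ hH)
    have h4 : Nat.card (orbitRel.Quotient G Ω) ≤ 1 :=
      Finite.card_le_one_iff_subsingleton.2 ((pretransitive_iff_subsingleton_quotient G Ω).1 ‹_›)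
    have := cl_prim α (sub _ hα)
    omega

theorem cl_bound [FaithfulSMul G Ω] :
    3 * cl G + 4 * Nat.card (orbitRel.Quotient G Ω) ≤ 4 * Nat.card Ω := by
  have h1 := cl_bound_aux _ (toPermHom G Ω).range Ω rfl
  have h2 := cl_le_of_surjective
    (MonoidHom.ofInjective (f := toPermHom G Ω) toPerm_injective).symm.toMonoidHom
    (MulEquiv.surjective _)
  have h3 := card_le_orbits (G := (toPermHom G Ω).range) (Ω := Ω)
    (fun q : orbitRel.Quotient G Ω => q.out) (by
      rintro x y ⟨_, g, rfl⟩ e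
      exact x.out_eq.symm.trans ((Quotient.sound' (s₁ := orbitRel G Ω) ⟨g, e⟩).symm.trans y.out_eq))
  omega

end H89
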