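/- D3 tower (row S5261): no faithful case at level 2. -/
import Cfsg.Agent.H90.D3Kit

set_option autoImplicit false
set_option linter.unusedSectionVars false
set_option linter.unusedSimpArgs false

open Subgroup H90.RF H90.D3

universe v

namespace H89.D3L2

variable {K : Type*} [Field K] [Finite K] {T : CF K} {p : ℕ} {E M : Subgroup (Co T)}
  {β : Co T → Co T} {u : Co T}

theorem mem_W {s m : Co T} : cm s m ∈ sW T ↔ (cm s m).c = 0 ∧ (cm s m).d = 0 :=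
  ⟨fun h => ⟨h.2.2.1, h.2.2.2⟩, fun h => ⟨cm_a s m, cm_b s m, h.1, h.2⟩⟩

theorem cr_ω {t : K} (ht : t ≠ 0) : T.cr t (T.ω * t) ≠ 0 := fun e => by
  obtain ⟨l, hl⟩ := (T.cr_eq_zero ht e).2
  exact T.ne (by rw [mul_right_cancel₀ ht hl, CF.σ_k])

theorem ind {t : K} (ht : t ≠ 0) {x y x' y' : T.k}
    (e : T.cr t (-(x * (T.ω * t) + y * (T.ω ^ 2 * t)) + (x' * (T.ω * t) + y' * (T.ω ^ 2 * t))) = 0) :
    x = x' ∧ y = y' := by
  obtain ⟨l, hl⟩ := (T.cr_eq_zero ht e).2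
  obtain ⟨-, h1, h2⟩ := T.basis_zero (x := -l) (y := x' - x) (z := y' - y) (by simp) (by simp) (by simp)
    (mul_right_cancel₀ ht (by linear_combination hl))
  exact ⟨Subtype.ext (sub_eq_zero.1 h1).symm, Subtype.ext (sub_eq_zero.1 h2).symm⟩

section
variable (h : Bw p (zA T) 2 E M β u)
include h

theorem Z3_E : sZ3 T ≤ E := h.q.le.trans h.q.ME

theorem M_Q2 : M ≤ sQ2 T := (h.q.min (X := E ⊓ sQ2 T) (le_inf (Z3_E h) fun _ k => k.2.1)
  fun γ hγ c hc => ⟨hγ.1.mem c hc.1, by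
    have := hγ.1.cm_mem (U := ⊥) (W_le.trans (Z3_E h)) (hγ.2 2 le_rfl) (hγ.2 0 (by omega)) hc.1
      (fun y hy => cm_Q2_W hc.2 hy) (xe T 1) ⟨rfl, rfl, rfl, rfl⟩
    simpa [cm_g, xe, mem_sQ2] using congrArg Co.g (mem_bot.1 this)⟩).trans inf_le_right

theorem cm_E {n : Co T} (hn : n ∈ normalizer (E : Set (Co T))) {x : Co T} (hx : x ∈ E) : cm n x ∈ E :=
  mul_mem (inv_mem hx) ((mem_normalizer_iff.1 hn x).1 hx)

theorem caseA [Fact p.Prime] [CharP K p] (ht : (β u).a ≠ 0) : False := by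
  have wb : (β u).b = 0 := M_Q2 h h.wM
  have mE : ∀ s, s ∈ E ↔ s.b = 0 ∧ T.cr (β u).a s.c = T.cr s.a (β u).c := fun s => by
    refine (h.fr s).trans (mem_W.trans ?_)
    rw [cm_c, cm_d, wb, zero_mul, sub_zero, mul_eq_zero, or_iff_right ht]
    exact and_congr_right fun e => by simp [e, sub_eq_zero]
  have nE : sQ2 T ≤ normalizer (E : Set (Co T)) := fun n hn =>
    H90.D3.mem_nor fun x hx => Z3_E h (cm_Q2 hn ((mE x).1 hx).1)
  by_cases h2 : (2 : K) = 0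
  · obtain rfl : p = 2 := (Nat.prime_dvd_prime_iff_eq Fact.out Nat.prime_two).1
      ((CharP.cast_eq_zero_iff K p 2).1 (by exact_mod_cast h2))
    have k1 : xc T (β u).a ∈ E := (mE _).2 ⟨rfl, by simp [xc, T.cr_self, h2]⟩
    refine h.q.no2 nE (fun x _ y hy m hm => cm_W x (cm_Q2 hy (M_Q2 h hm))) (s := xc T (T.ω * (β u).a))
      rfl (fun k => cr_ω ht (by simpa [xc] using ((mE _).1 k).2))
      (fun x y : T.k => xc T (x * (T.ω * (β u).a) + y * (T.ω ^ 2 * (β u).a)))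
      (fun l => xd T (l * T.cr (β u).a (T.ω * (β u).a))) (fun _ _ => rfl)
      (fun x y x' y' k => ind ht (by simpa [xc] using ((mE _).1 k).2)) fun m hm => ?_
    have k2 := (mem_W.1 ((h.q.cen _).1 k1 m hm)).2
    have mb : m.b = 0 := M_Q2 h hm
    obtain ⟨l, hl⟩ := (T.cr_eq_zero ht (y := m.a) (by
      rw [T.cr_comm]; simpa [cm_d, xc, mb] using k2)).2
    refine ⟨l, (mod2 ⟨rfl, rfl, rfl⟩).2 ⟨cm_Q2 rfl mb, ?_⟩⟩
    simp only [cm_d, xc, xd, mb, hl, CF.zero_cr, mul_zero, zero_mul, sub_zero, add_zero]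
    rw [T.cr_comm, T.cr_fix l.2, T.cr_comm]
  · obtain ⟨e, he, k⟩ := h.b4 ⊥ inferInstance (fun γ hγ => hγ.2 0 (by omega)) (fun s => cen_Z3)
      (fun n hn => by
        have k := ((mE _).1 (cm_E h hn (h.q.ME h.wM))).2
        rw [cm_a, cm_c, wb, zero_mul, sub_zero, CF.zero_cr] at k
        have k2 : n.b = 0 := (mul_eq_zero.1 ((T.cr_eq_zero ht k).1 h2)).resolve_left ht
        exact ⟨fun c hc => cm_Q2_W k2 hc, fun m hm => cm_Q2 k2 (M_Q2 h hm)⟩)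
      (fun m hm hm' d hd => by
        have mb : m.b = 0 := M_Q2 h hm
        have ma : m.a ≠ 0 := fun e => hm' ⟨e, mb, (T.cr_eq_zero ht (by
          simpa [e] using ((mE _).1 (h.q.ME hm)).2)).1 h2⟩
        obtain ⟨y, hy⟩ := T.cr_sur h2 ma d.d
        exact ⟨xc T y, nE rfl, (mod2 (cm_Q2 rfl mb)).2 ⟨hd, by simp [cm_d, xc, mb, hy]⟩⟩)
      (xc T 1) (nE rfl)
    have k1 := Z3_E h (cen_Z3 fun c hc => cm_eq_one.1 (mem_bot.1 (k c hc)))
    rw [mul_assoc, E.mul_mem_cancel_left he] at k1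
    exact h2 ((T.cr_eq_zero ht (by simpa [xc, one_add_one_eq_two] using ((mE _).1 k1).2)).1 h2)

theorem caseB (ha : (β u).a = 0) (hc : (β u).c ≠ 0) : False := by
  have wb : (β u).b = 0 := M_Q2 h h.wM
  have mE : ∀ s, s ∈ E ↔ T.cr (β u).c s.a = 0 := fun s => by
    refine (h.fr s).trans (mem_W.trans ?_)
    simp [cm_c, cm_d, wb, ha, T.cr_comm s.a]
  have nE : ⊤ ≤ normalizer (E : Set (Co T)) := fun n _ => H90.D3.mem_nor fun x _ => (mE _).2 (by simp)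
  have m4 : M ≤ sZ4 T := fun m hm => ⟨by
    simpa [cm_c, xb] using (mem_W.1 ((h.q.cen (xb T 1)).1 ((mE _).2 (by simp [xb])) m hm)).1,
    M_Q2 h hm⟩
  by_cases h2 : (2 : K) = 0
  · have k1 : xa T (β u).c ∈ E := (mE _).2 (by simp [xa, T.cr_self, h2])
    refine h.q.no2 nE (fun x _ y _ m hm => cm_W x (cm_Z3 y (m4 hm))) (s := xa T (T.ω * (β u).c))
      trivial (fun k => cr_ω hc (by simpa [xa] using (mE _).1 k))
      (fun x y : T.k => xa T (x * (T.ω * (β u).c) + y * (T.ω ^ 2 * (β u).c)))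
      (fun l => xd T (-(l * T.cr (T.ω * (β u).c) (β u).c))) (fun _ _ => trivial)
      (fun x y x' y' k => ind hc (by simpa [xa] using (mE _).1 k)) fun m hm => ?_
    have k2 := (mem_W.1 ((h.q.cen _).1 k1 m hm)).2
    obtain ⟨ma, mb⟩ := m4 hm
    obtain ⟨l, hl⟩ := (T.cr_eq_zero hc (y := m.c) (by simpa [cm_d, xa, ma, mb] using k2)).2
    refine ⟨l, (mod2 ⟨rfl, rfl, rfl⟩).2 ⟨cm_Z3 _ (m4 hm), ?_⟩⟩
    simp [cm_d, xa, xd, ma, mb, hl, T.cr_fix l.2]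
  · obtain ⟨e, he, k⟩ := h.b4 (sZ T) inferInstance (fun γ hγ => hγ.2 1 (by omega)) (fun s => cen_Z3)
      (fun n _ => ⟨fun c hc => cm_Z n hc, fun m hm => cm_Z3 n (m4 hm)⟩)
      (fun m hm hm' d hd => by
        obtain ⟨ma, mb⟩ := m4 hm
        obtain ⟨y, hy⟩ := T.cr_sur h2 (fun e => hm' ⟨ma, mb, e⟩) (-d.d)
        exact ⟨xa T y, nE trivial, (mod2 (cm_Z3 _ (m4 hm))).2
          ⟨hd, by simp [cm_d, xa, ma, mb, T.cr_comm y, hy]⟩⟩)
      (xa T 1) (nE trivial)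
    have ea : e.a = 0 := (T.cr_eq_zero hc ((mE e).1 he)).1 h2
    refine h2 (T.tr_nd fun v => ?_)
    have := (k (xd T v) ⟨rfl, rfl, rfl⟩).2.2.2.2
    rw [cm_e3 _ ⟨rfl, rfl, rfl⟩] at this
    simpa [xa, xd, ea, one_add_one_eq_two] using this

end

theorem jobL2 : H90.D3.JobL2.{v} := fun p _ K _ _ _ T E M β u h => by
  by_cases ha : (β u).a = 0
  · refine caseB h ha fun hc => h.q.ne (eq_top_iff.2 fun s _ => (h.fr s).2 ?_)
    exact cm_W s ⟨ha, M_Q2 h h.wM, hc⟩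
  · exact caseA h ha

end H89.D3L2
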