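import Cfsg.Agent.H96.U2CenSpec

/-! # DPW-HQg: the quadratic case at one vertex -/

set_option autoImplicit false

namespace H89.DPWHQ

open Subgroup Cfsg H98 H48.DP H96.U2I H96.Cen
open scoped commutatorElement

universe u

theorem act_eq {G : Type u} [Group G] {W : Type u} [AddCommGroup W] {U Z : Subgroup G}
    (s : Sec W U Z) {a b : G} (ha : a ∈ nn U Z) (hb : b ∈ U) :
    s.α a • s.ψ b = s.ψ b + s.ψ ⁅a, b⁆ := by
  have e : a * b * a⁻¹ = ⁅a, b⁆ * b := by rw [commutatorElement_def]; group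
  rw [s.α_ψ ha hb, e, s.mul _ (Sec.cmem ha hb) _ hb, add_comm]

theorem two_cosets {G : Type u} [Group G] [Finite G] {B U : Subgroup G} (h : B.relIndex U ≤ 2) :
    ∃ u0 ∈ U, ∀ x ∈ U, x ∈ B ∨ ∃ b ∈ B, x = b * u0 := by
  have h0 : B.relIndex U ≠ 0 := index_ne_zero_of_finite
  have h1 : B.relIndex U = 1 ∨ B.relIndex U = 2 := by omega
  rcases h1 with h1 | h1
  · exact ⟨1, one_mem _, fun x hx => .inl (relIndex_eq_one.1 h1 hx)⟩
  · obtain ⟨a, ha⟩ := index_eq_two_iff.1 h1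
    refine ⟨(a : G)⁻¹, inv_mem a.2, fun x hx => ?_⟩
    rcases ha ⟨x, hx⟩ with h2 | h2
    · exact .inr ⟨x * a, h2.1, by group⟩
    · exact .inl h2.1

theorem jobHQg : JobHQg.{u} := by
  intro hy q4 trl G _ _ M M0 Q Q0 F U A B z w v hA aa quad hB wU wz reg cb ⟨a0, ha0, b0, hb0, e0⟩ idx
  obtain ⟨W, _, _, s, hM0, two, -, -, hnF, hE, hmd⟩ := trl G M M0 Q Q0 F U z v
  obtain ⟨md, hc⟩ := hmd A hA aa
  have hAn : ∀ a ∈ A, a ∈ nn U (zpowers z) := fun a ha => hM0 (hA ha)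
  have reg' : ∀ f ∈ s.bar F, f • s.ψ w = s.ψ w → f = 1 := by
    intro f hf e
    obtain ⟨x, hx, rfl⟩ := s.exists_α hf
    rw [reg x hx ((s.smul_eq_iff (hM0 (v.FM hx)) wU).1 e), s.α_one]
  have v0 : s.ψ w ≠ 0 := fun e => wz ((s.ker w wU).1 e)
  have vp : s.α a0 • s.ψ b0 = s.ψ b0 + s.ψ w := by rw [act_eq s (hAn a0 ha0) (hB hb0), e0]
  have h2 : Nat.card (s.bar A) ≤ 2 := by
    refine hy W (s.bar F) (s.bar A) (fixingSubgroup (Au W) (s.im B : Set W)) (s.ψ w) md ?_ reg' ?_ ?_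
    · intro a ha a' ha' p
      obtain ⟨x, hx, rfl⟩ := s.exists_α ha
      obtain ⟨x', hx', rfl⟩ := s.exists_α ha'
      obtain ⟨b, hb, rfl⟩ := s.surj p
      have e : s.α x • s.ψ b + s.ψ b = s.ψ ⁅x, b⁆ := by
        rw [act_eq s (hAn x hx) hb, add_right_comm, two, zero_add]
      rw [e, s.α_ψ (hAn x' hx') (Sec.cmem (hAn x hx) hb), (quad x hx x' hx' b hb).eq,
        mul_inv_cancel_right]
    · intro a ha hK
      obtain ⟨x, hx, rfl⟩ := s.exists_α ha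
      by_contra hn
      refine hK ((mem_fixingSubgroup_iff _).2 ?_)
      rintro _ ⟨b, hb, hb', rfl⟩
      rcases cb x hx b hb' with e | e
      · rw [act_eq s (hAn x hx) hb, e, s.one, add_zero]
      · exact absurd ⟨s.ψ b, by rw [act_eq s (hAn x hx) hb, e]⟩ hn
    · intro h
      have h1 := (mem_fixingSubgroup_iff _).1 (h (s.mem_bar.2 ⟨a0, ha0, hAn a0 ha0, rfl⟩)) _
        (s.ψ_mem_im (hB hb0) hb0)
      rw [vp] at h1
      exact v0 (add_eq_left.1 h1)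
  obtain ⟨u0, hu0, cos⟩ := two_cosets (idx.trans (hc ▸ h2))
  have hb : ∀ b ∈ B, s.α a0 • s.ψ b = s.ψ b ∨ s.α a0 • s.ψ b = s.ψ b + s.ψ w := by
    intro b hb
    rw [act_eq s (hAn a0 ha0) (hB hb)]
    rcases cb a0 ha0 b hb with e | e
    · left; rw [e, s.one, add_zero]
    · right; rw [e]
  refine q4 W (s.bar F) (s.α a0) (s.ψ w) (s.ψ ⁅a0, u0⁆)
    ⟨two, s.isPGroup_bar v.F3, ?_, hnF a0 (hA ha0), v0, ⟨_, vp⟩, fun p => ?_, reg'⟩ hE
  · rw [← s.α_mul (hAn a0 ha0) (hAn a0 ha0), aa a0 ha0, s.α_one]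
  · obtain ⟨x, hx, rfl⟩ := s.surj p
    rcases cos x hx with h | ⟨b, h, rfl⟩
    · rcases hb x h with e | e
      · exact .inl e
      · exact .inr (.inl e)
    · rw [s.mul _ (hB h) _ hu0, smul_add, act_eq s (hAn a0 ha0) hu0]
      rcases hb b h with e | e
      · refine .inr (.inr (.inl ?_))
        rw [e, add_assoc]
      · refine .inr (.inr (.inr ?_))
        rw [e]
        abel

end H89.DPWHQ
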