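import Cfsg.Agent.H11.FBSpec
import Cfsg.Agent.S4221

/-! # FB-TW: the normaliser of `U` acts on the fixed points of `U` as S4221 describes -/

set_option autoImplicit false

namespace H89.FBTW

open MulAction Subgroup H11.FB

universe u v

variable {G : Type u} {Ω : Type v} [Group G] [MulAction G Ω]

theorem smul_mem_fix {U : Subgroup G} {g : G} (hg : g ∈ normalizer (U : Set G)) {x : Ω}
    (hx : x ∈ fixedPoints U Ω) : g • x ∈ fixedPoints U Ω := by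
  rintro ⟨u, hu⟩
  have h1 : g⁻¹ * u * g ∈ U := by
    have := (mem_normalizer_iff.1 (inv_mem hg) u).1 hu
    simpa using this
  exact conj_smul_iff.1 (hx ⟨_, h1⟩)

theorem reach {a b c d : Ω} {U : Subgroup G} (tr : T4 (⊤ : Subgroup G) (Set.univ : Set Ω))
    (ne : D4 a b c d)
    (wc : ∀ g : G, cj g U ≤ L4 G a b c d → ∃ l ∈ L4 G a b c d, cj g U = cj l U)
    {x y z w : Ω} (h : D4 x y z w) (hx : x ∈ fixedPoints U Ω) (hy : y ∈ fixedPoints U Ω)
    (hz : z ∈ fixedPoints U Ω) (hw : w ∈ fixedPoints U Ω) :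
    ∃ g ∈ normalizer (U : Set G), g • a = x ∧ g • b = y ∧ g • c = z ∧ g • d = w := by
  obtain ⟨g, -, e1, e2, e3, e4⟩ := tr a b c d x y z w ne h trivial trivial trivial trivial trivial
    trivial trivial trivial
  have hle : cj g⁻¹ U ≤ L4 G a b c d := by
    intro t ht
    have ht' : g * t * g⁻¹ ∈ U := by simpa using mem_cj.1 ht
    have k : ∀ (p q : Ω), g • p = q → q ∈ fixedPoints U Ω → t • p = p := by
      intro p q e hq
      have h1 : (g * t * g⁻¹) • q = q := hq ⟨_, ht'⟩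
      rw [← e, mul_smul, inv_smul_smul, mul_smul] at h1
      exact MulAction.injective g h1
    exact mem_L4.2 ⟨k _ _ e1 hx, k _ _ e2 hy, k _ _ e3 hz, k _ _ e4 hw⟩
  obtain ⟨l, hl, e⟩ := wc g⁻¹ hle
  obtain ⟨l1, l2, l3, l4⟩ := mem_L4.1 hl
  refine ⟨g * l, mem_normalizer_iff.2 fun u => ?_, by rw [mul_smul, l1, e1],
    by rw [mul_smul, l2, e2], by rw [mul_smul, l3, e3], by rw [mul_smul, l4, e4]⟩
  have h1 : l * u * l⁻¹ ∈ cj g⁻¹ U ↔ l * u * l⁻¹ ∈ cj l U := by rw [e]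
  rw [mem_cj, mem_cj] at h1
  have h2 : l⁻¹ * (l * u * l⁻¹) * l = u := by group
  have h3 : g⁻¹⁻¹ * (l * u * l⁻¹) * g⁻¹ = g * l * u * (g * l)⁻¹ := by group
  rw [h2, h3] at h1
  exact h1.symm

theorem t4 {a b c d : Ω} {U : Subgroup G} (tr : T4 (⊤ : Subgroup G) (Set.univ : Set Ω))
    (ne : D4 a b c d)
    (wc : ∀ g : G, cj g U ≤ L4 G a b c d → ∃ l ∈ L4 G a b c d, cj g U = cj l U) :
    T4 (normalizer (U : Set G)) (fixedPoints U Ω) := by
  intro x y z w x' y' z' w' h h' hx hy hz hw hx' hy' hz' hw'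
  obtain ⟨g, hg, e1, e2, e3, e4⟩ := reach tr ne wc h hx hy hz hw
  obtain ⟨g', hg', f1, f2, f3, f4⟩ := reach tr ne wc h' hx' hy' hz' hw'
  refine ⟨g' * g⁻¹, mul_mem hg' (inv_mem hg), ?_, ?_, ?_, ?_⟩
  · rw [← e1, mul_smul, inv_smul_smul, f1]
  · rw [← e2, mul_smul, inv_smul_smul, f2]
  · rw [← e3, mul_smul, inv_smul_smul, f3]
  · rw [← e4, mul_smul, inv_smul_smul, f4]

/-- the action of the normaliser on the fixed points -/
@[reducible] def act (U : Subgroup G) (S : Finset Ω) (hS : (S : Set Ω) = fixedPoints U Ω) :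
    MulAction (normalizer (U : Set G)) S where
  smul g x := ⟨(g : G) • (x : Ω), by
    have h1 : (x : Ω) ∈ fixedPoints U Ω := hS ▸ (Finset.mem_coe.2 x.2)
    have h2 := smul_mem_fix g.2 h1
    rw [← hS] at h2
    exact Finset.mem_coe.1 h2⟩
  one_smul x := Subtype.ext (one_smul G (x : Ω))
  mul_smul g h x := Subtype.ext (mul_smul (g : G) (h : G) (x : Ω))

theorem d4_emb {S : Finset Ω} (x : Fin 4 ↪ S) :
    D4 (x 0 : Ω) (x 1) (x 2) (x 3) := by
  have k : ∀ i j : Fin 4, i ≠ j → (x i : Ω) ≠ x j := fun i j h e =>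
    h (x.injective (Subtype.ext e))
  exact ⟨k _ _ (by decide), k _ _ (by decide), k _ _ (by decide), k _ _ (by decide),
    k _ _ (by decide), k _ _ (by decide)⟩

theorem four {U : Subgroup G} {S : Finset Ω} (π : normalizer (U : Set G) →* Equiv.Perm S)
    (hπ : ∀ g x, ((π g x : S) : Ω) = (g : G) • (x : Ω))
    (T : T4 (normalizer (U : Set G)) (S : Set Ω)) : IsMultiplyPretransitive π.range S 4 := by
  refine isMultiplyPretransitive_iff.2 fun x y => ?_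
  obtain ⟨g, hg, e0, e1, e2, e3⟩ := T _ _ _ _ _ _ _ _ (d4_emb x) (d4_emb y)
    (x 0).2 (x 1).2 (x 2).2 (x 3).2 (y 0).2 (y 1).2 (y 2).2 (y 3).2
  refine ⟨⟨π ⟨g, hg⟩, ⟨_, rfl⟩⟩, Function.Embedding.ext fun i => Subtype.ext ?_⟩
  have k : (((⟨π ⟨g, hg⟩, ⟨_, rfl⟩⟩ : π.range) • x) i : Ω) = g • (x i : Ω) := hπ ⟨g, hg⟩ (x i)
  rw [k]
  fin_cases i
  · exact e0
  · exact e1
  · exact e2
  · exact e3

theorem odd_stab {U : Subgroup G} {S : Finset Ω} (π : normalizer (U : Set G) →* Equiv.Perm S)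
    (hπ : ∀ g x, ((π g x : S) : Ω) = (g : G) • (x : Ω)) (x : Fin 4 ↪ S)
    (od : ∀ l : normalizer (U : Set G), (∀ i, (l : G) • (x i : Ω) = x i) → ∃ m : ℕ, Odd m ∧
      ∀ ω ∈ S, (l : G) ^ m • ω = ω) : Odd (Nat.card (stabilizer π.range x)) := by
  rw [← Nat.not_even_iff_odd, even_iff_two_dvd]
  intro h2
  obtain ⟨σ, hσ⟩ := exists_prime_orderOf_dvd_card' 2 h2
  obtain ⟨n, hn⟩ := σ.1.2
  have st : (σ : π.range) • x = x := σ.2
  have k : ∀ i, (n : G) • (x i : Ω) = x i := fun i => by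
    have := congrArg (fun f : Fin 4 ↪ S => (f i : Ω)) st
    rw [← hπ, hn]
    exact this
  obtain ⟨m, hm, e⟩ := od n k
  have h1 : σ ^ m = 1 := by
    apply Subtype.ext
    apply Subtype.ext
    change ((σ : π.range) : Equiv.Perm S) ^ m = 1
    rw [← hn, ← map_pow]
    ext p
    rw [hπ]
    exact e p p.2
  have h3 := orderOf_dvd_of_pow_eq_one h1
  rw [hσ] at h3
  exact (Nat.not_even_iff_odd.2 hm) (even_iff_two_dvd.2 h3)

theorem ex_emb {S : Finset Ω} {a b c d : Ω} (ne : D4 a b c d) (ma : a ∈ S) (mb : b ∈ S)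
    (mc : c ∈ S) (md : d ∈ S) :
    ∃ x : Fin 4 ↪ S, (x 0 : Ω) = a ∧ (x 1 : Ω) = b ∧ (x 2 : Ω) = c ∧ (x 3 : Ω) = d := by
  obtain ⟨n1, n2, n3, n4, n5, n6⟩ := ne
  refine ⟨⟨![⟨a, ma⟩, ⟨b, mb⟩, ⟨c, mc⟩, ⟨d, md⟩], ?_⟩, rfl, rfl, rfl, rfl⟩
  intro i j e
  have e' := congrArg Subtype.val e
  fin_cases i <;> fin_cases j
  all_goals first
    | rfl
    | exact absurd e' n1 | exact absurd e' n2 | exact absurd e' n3 | exact absurd e' n4
    | exact absurd e' n5 | exact absurd e' n6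
    | exact absurd e' n1.symm | exact absurd e' n2.symm | exact absurd e' n3.symm
    | exact absurd e' n4.symm | exact absurd e' n5.symm | exact absurd e' n6.symm

theorem ex_pi (U : Subgroup G) (S : Finset Ω) (hS : (S : Set Ω) = fixedPoints U Ω) :
    ∃ π : normalizer (U : Set G) →* Equiv.Perm S, ∀ g x, ((π g x : S) : Ω) = (g : G) • (x : Ω) :=
  ⟨@MulAction.toPermHom _ _ _ (act U S hS), fun _ _ => rfl⟩

theorem jobTW : JobTW.{u, v} := by
  intro G Ω _ _ _ _ _ a b c d U tr ne hU wc od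
  obtain ⟨S, hS⟩ : ∃ S : Finset Ω, (S : Set Ω) = fixedPoints U Ω :=
    ⟨(Set.toFinite _).toFinset, Set.Finite.coe_toFinset _⟩
  have mS : ∀ x : Ω, x ∈ S ↔ x ∈ fixedPoints U Ω := fun x => by rw [← hS, Finset.mem_coe]
  obtain ⟨π, hπ⟩ := ex_pi U S hS
  have T : T4 (normalizer (U : Set G)) (S : Set Ω) := by rw [hS]; exact t4 tr ne wc
  have mf : ∀ p : Ω, (∀ t ∈ L4 G a b c d, t • p = p) → p ∈ S := fun p h =>
    (mS p).2 fun t => h t (hU t.2)
  obtain ⟨x, x0, x1, x2, x3⟩ := ex_emb ne (mf a fun t ht => (mem_L4.1 ht).1)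
    (mf b fun t ht => (mem_L4.1 ht).2.1) (mf c fun t ht => (mem_L4.1 ht).2.2.1)
    (mf d fun t ht => (mem_L4.1 ht).2.2.2)
  have hodd : Odd (Nat.card (stabilizer π.range x)) := by
    refine odd_stab π hπ x fun l k => ?_
    obtain ⟨m, hm, e⟩ := od l (mem_L4.2 ⟨x0 ▸ k 0, x1 ▸ k 1, x2 ▸ k 2, x3 ▸ k 3⟩) l.2
    exact ⟨m, hm, fun ω h => e ω ((mS ω).1 h)⟩
  have r := Cfsg.Agent.S4221.result π.range (four π hπ T) x hodd
  rw [Fintype.card_coe] at r
  exact ⟨S, π, hS, hπ, T, r⟩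

end H89.FBTW
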