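import Cfsg.Agent.H16.HN3K
import Cfsg.Agent.H19.A8S

/-! Tower HN3L, section 7: the action of `n` on involutions. -/

set_option autoImplicit false
open Cfsg Subgroup H98 H42.L3 Equiv H16.HN3
open H19.A8 (mem_zp3)
open scoped commutatorElement

namespace H89.HN3

universe u

local notation "Ce" => H56.L3.Ce

attribute [local instance high] List.decidableBAll List.decidableBEx

section perm
variable {σ κ q e : A} {o : Fin 12}

theorem cm (h : σ * q = q * σ) (i : Fin 12) : σ.1 (q.1 i) = q.1 (σ.1 i) := congrArg (fun x : A => x.1 i) h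

theorem fixp (h : σ * q = q * σ) (i : Fin 12) : q.1 (σ.1 i) = σ.1 i ↔ q.1 i = i := by
  rw [← cm h]; exact σ.1.injective.eq_iff

theorem agree (h : σ * q = q * σ) (h' : κ * q = q * κ) (ho : σ.1 o = κ.1 o) : σ.1 (q.1 o) = κ.1 (q.1 o) := by
  rw [cm h, cm h', ho]

theorem fix3 (h : σ * e = e * σ) (ho : σ.1 o = o) (i : Fin 12) (hi : i = o ∨ i = e.1 o ∨ i = e.1 (e.1 o)) :
    σ.1 i = i := by
  rcases hi with rfl | rfl | rfl <;> simp only [cm h, ho]

theorem inv3 (h : σ * e = e * σ) (h2 : σ * σ = 1) (hd : (∀ x, e.1 x ≠ x → x = o ∨ x = e.1 o ∨ x = e.1 (e.1 o)) ∧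
    e.1 o ≠ o ∧ e.1 (e.1 o) ≠ o ∧ e.1 (e.1 (e.1 (e.1 o))) ≠ o := by decide +kernel) : σ.1 o = o := by
  have k : σ.1 (σ.1 o) = o := congrArg (fun x : A => x.1 o) h2
  rcases hd.1 _ (mt (fixp h o).1 hd.2.1) with c | c | c
  · exact c
  · rw [c, cm h, c] at k; exact absurd k hd.2.2.1
  · rw [c, cm h, cm h, c] at k; exact absurd k hd.2.2.2

theorem p0 (h1 : σ * e1 = e1 * σ) (h2 : σ * e2 = e2 * σ) (h3 : σ * e3 = e3 * σ) (h4 : σ * e4 = e4 * σ)
    (hi : σ * io = io * σ) : σ = 1 := by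
  have k : ∀ x ∈ [(e1, 0), (e2, 6), (e3, 7), (e4, 3)], σ * x.1 = x.1 * σ → σ.1 x.2 = x.2 := fun x hx h => by
    have d : ∀ x ∈ [(e1, (0 : Fin 12)), (e2, 6), (e3, 7), (e4, 3)], x.1.1 x.2 ≠ x.2 ∧ io.1 x.2 = x.2 ∧
      ∀ y, x.1.1 y ≠ y → io.1 y = y → y = x.2 := by decide +kernel
    exact (d x hx).2.2 _ (mt (fixp h _).1 (d x hx).1) ((fixp hi _).2 (d x hx).2.1)
  refine Subtype.ext (Equiv.ext fun i => ?_)
  have d : ∀ i : Fin 12, (i = 0 ∨ i = e1.1 0 ∨ i = e1.1 (e1.1 0)) ∨ (i = 6 ∨ i = e2.1 6 ∨ i = e2.1 (e2.1 6)) ∨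
    (i = 7 ∨ i = e3.1 7 ∨ i = e3.1 (e3.1 7)) ∨ (i = 3 ∨ i = e4.1 3 ∨ i = e4.1 (e4.1 3)) := by decide +kernel
  rcases d i with c | c | c | c
  exacts [fix3 h1 (k (e1, 0) (by simp) h1) i c, fix3 h2 (k (e2, 6) (by simp) h2) i c,
    fix3 h3 (k (e3, 7) (by simp) h3) i c, fix3 h4 (k (e4, 3) (by simp) h4) i c]

theorem p1 (h1 : σ * e1 = e1 * σ) (h4 : σ * e4 = e4 * σ) (h2 : σ * σ = 1) (hs : σ * s = s * σ)
    (hr : σ * r' = r' * σ) (hp : σ * (p * σ * p⁻¹) * (p * (p * σ * p⁻¹) * p⁻¹) = 1) (h0 : σ ≠ 1) :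
    σ = t' * c' := by
  have f0 := fix3 h1 (inv3 (o := 0) h1 h2)
  have f3 := fix3 h4 (inv3 (o := 3) h4 h2)
  have f : ∀ i : Fin 12, i.val < 6 → σ.1 i = i := fun i hi => by
    have d : ∀ i : Fin 12, i.val < 6 → (i = 0 ∨ i = e1.1 0 ∨ i = e1.1 (e1.1 0)) ∨
      (i = 3 ∨ i = e4.1 3 ∨ i = e4.1 (e4.1 3)) := by decide +kernel
    exact (d i hi).elim (f0 i) (f3 i)
  let F : ℕ → ℕ → ℕ := fun a b => pk fun i => [0, 1, 2, 3, 4, 5, a, dg (code s) a, b, dg (code s) b,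
    dg (code r') b, dg (code s) (dg (code r') b)].getD i 0
  have e : code σ = F (σ.1 6).val (σ.1 8).val := pk_congr fun i hi => by
    simp only [dg_code, ← cm hs, ← cm hr]
    interval_cases i
    exacts [congrArg _ (f 0 (by decide)), congrArg _ (f 1 (by decide)), congrArg _ (f 2 (by decide)),
      congrArg _ (f 3 (by decide)), congrArg _ (f 4 (by decide)), congrArg _ (f 5 (by decide)), rfl, rfl, rfl, rfl,
      rfl, rfl]
  revert h2 hp h0
  to_code
  rw [e]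
  simp only [F, code_s, code_r']
  generalize σ.1 6 = a, σ.1 8 = b
  revert a b
  decide +kernel

theorem p2 (h2 : σ * e2 = e2 * σ) (h3 : σ * e3 = e3 * σ) (ht : σ * t = t * σ) {k : ℕ} (h : σ ^ 3 ^ k = 1) :
    ∃ a ∈ [1, e2, e2⁻¹], ∃ b ∈ [1, e3, e3⁻¹], σ = a * b := by
  have d : ∀ x y : Fin 12, e2.1 x ≠ x → e3.1 y ≠ y → ∃ a ∈ [1, e2, e2⁻¹], ∃ b ∈ [1, e3, e3⁻¹],
    (a * b)⁻¹.1 x = 6 ∧ (a * b)⁻¹.1 y = 7 := by decide +kernel
  obtain ⟨a, ha, b, hb, k6, k7⟩ := d _ _ (mt (fixp h2 6).1 (by decide +kernel))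
    (mt (fixp h3 7).1 (by decide +kernel))
  refine ⟨a, ha, b, hb, (inv_mul_eq_one.1 ?_).symm⟩
  have c : ∀ q : A, σ * q = q * σ → Commute q e2 → Commute q e3 → Commute ((a * b)⁻¹ * σ) q := fun q h c2 c3 => by
    simp only [List.mem_cons, List.not_mem_nil, or_false] at ha hb
    refine Commute.mul_left (Commute.inv_left (Commute.mul_left ?_ ?_)) h
    · rcases ha with rfl | rfl | rfl <;> simp [c2.symm]
    · rcases hb with rfl | rfl | rfl <;> simp [c3.symm]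
  have c23 : Commute e2 e3 := by unfold Commute SemiconjBy; decide +kernel
  have ab : Commute (a * b)⁻¹ σ ∧ (a * b) ^ 3 = 1 := by
    refine ⟨?_, by clear k6 k7 c; revert a b; decide +kernel⟩
    simp only [List.mem_cons, List.not_mem_nil, or_false] at ha hb
    refine Commute.inv_left (Commute.mul_left ?_ ?_)
    · rcases ha with rfl | rfl | rfl <;> simp [(show Commute σ e2 from h2).symm]
    · rcases hb with rfl | rfl | rfl <;> simp [(show Commute σ e3 from h3).symm]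
  have t3 : ((a * b)⁻¹ * σ) ^ 3 ^ (k + 1) = 1 := by
    rw [ab.1.mul_pow, inv_pow, pow_succ' 3, pow_mul, ab.2, pow_mul', h]; simp
  have f6 := fix3 (c e2 h2 rfl c23).eq k6
  have f7 := fix3 (c e3 h3 c23.symm rfl).eq k7
  have ct := (c t ht (by unfold Commute SemiconjBy; decide +kernel) (by unfold Commute SemiconjBy; decide +kernel)).eq
  generalize (a * b)⁻¹ * σ = τ at *
  have f : ∀ i : Fin 12, 6 ≤ i.val → τ.1 i = i := fun i hi => by
    have d : ∀ i : Fin 12, 6 ≤ i.val → (i = 6 ∨ i = e2.1 6 ∨ i = e2.1 (e2.1 6)) ∨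
      (i = 7 ∨ i = e3.1 7 ∨ i = e3.1 (e3.1 7)) := by decide +kernel
    exact (d i hi).elim (f6 i) (f7 i)
  have t4 : τ ^ 4 = 1 := by
    let F : Fin 12 → Fin 12 → Fin 12 → Fin 12 → Fin 12 → Fin 12 := fun x y z w =>
      ![x, t.1 x, y, t.1 y, z, w, 6, 7, 8, 9, 10, 11]
    have e : ∀ i, τ.1 i = F (τ.1 0) (τ.1 2) (τ.1 4) (τ.1 5) i := fun i => by
      fin_cases i
      exacts [rfl, cm ct 0, rfl, cm ct 2, rfl, rfl, f _ (by decide), f _ (by decide), f _ (by decide),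
        f _ (by decide), f _ (by decide), f _ (by decide)]
    have d : ∀ x, t.1 x ≠ x → ∀ y, t.1 y ≠ y → y ≠ x → y ≠ t.1 x → ∀ z, t.1 z = z → z.val < 6 → ∀ w, t.1 w = w →
      w.val < 6 → w ≠ z → ∀ i, F x y z w (F x y z w (F x y z w (F x y z w i))) = i := by
      decide +kernel
    have lt : ∀ i : Fin 12, i.val < 6 → (τ.1 i).val < 6 := fun i hi => by
      by_contra c
      have := τ.1.injective (f _ (not_lt.1 c))
      exact c (this.symm ▸ hi)
    have := d _ (mt (fixp ct 0).1 (by decide +kernel)) _ (mt (fixp ct 2).1 (by decide +kernel))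
      (τ.1.injective.ne (by decide)) (cm ct 0 ▸ τ.1.injective.ne (by decide +kernel)) _
      ((fixp ct 4).2 (by decide +kernel)) (lt _ (by decide)) _ ((fixp ct 5).2 (by decide +kernel)) (lt _ (by decide))
      (τ.1.injective.ne (by decide))
    simp only [← e] at this
    exact Subtype.ext (Equiv.ext this)
  exact (pow_eq_one_iff_of_coprime (by norm_num)).1 ⟨t3, t4⟩

end perm

variable {G : Type*} [Group G] {ψ χ : A →* G} {n g : G} {L : Subgroup G} {x y : A}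

theorem comm_of_sq {a b : G} {k : ℕ} (h : a ^ 3 ^ k = 1) (e : Commute (a ^ 2) b) : Commute a b := by
  obtain ⟨m, hm⟩ : Odd (3 ^ k) := Odd.pow (by decide)
  have := e.pow_left (m + 1)
  rwa [← pow_mul, show 2 * (m + 1) = 3 ^ k + 1 by omega, pow_succ, h, one_mul] at this

theorem memD (hx : x ^ 3 = 1) (hy : y ^ 3 = 1) (h : x * y = y * x) : g ∈ zpowers (χ x) ⊔ zpowers (χ y) ↔
    ∃ a ∈ [1, x, x⁻¹], ∃ b ∈ [1, y, y⁻¹], g = χ (a * b) := by
  rw [mem_sup_left_norm (le_normalizer_of_le_centralizer (zpowers_le.2 (le_centralizer_iff.1 (zpowers_le.2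
    (mem_centralizer_iff.2 (by rintro _ ⟨k, rfl⟩; exact (((show Commute x y from h).map χ).zpow_left k).eq)))
    (mem_zpowers _))))]
  simp [mem_zp3 (show χ x ^ 3 = 1 by rw [← map_pow, hx, map_one]),
    mem_zp3 (show χ y ^ 3 = 1 by rw [← map_pow, hy, map_one])]

theorem cenD (hi : Function.Injective χ) (hc : ∀ g, Commute g (χ x) → g ∈ χ.range) {k : ℕ} (h3 : g ^ 3 ^ k = 1)
    (hg : Commute g (χ x)) (hn : g ∈ nr (zpowers (χ x) ⊔ zpowers (χ y)))
    (d : x ^ 3 = 1 ∧ y ^ 3 = 1 ∧ x * y = y * x ∧ y ∉ [1, x, x⁻¹] ∧ ∀ a ∈ [1, x, x⁻¹], ∀ b ∈ [1, y, y⁻¹],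
      (a * b).1.support.card = y.1.support.card → a = 1 ∨ b = 1 := by decide +kernel) :
    g ∈ cn (zpowers (χ x) ⊔ zpowers (χ y)) := by
  suffices Commute g (χ y) from le_centralizer_iff.1 (sup_le (zpowers_le.2 (by rintro _ ⟨k, rfl⟩; exact hg.zpow_left k))
    (zpowers_le.2 (by rintro _ ⟨k, rfl⟩; exact this.zpow_left k))) (mem_zpowers g)
  obtain ⟨σ, rfl⟩ := hc g hg
  obtain ⟨a, ha, b, hb, e⟩ := (memD d.1 d.2.1 d.2.2.1).1 (conj_mem_of_mem_normalizer hn
    (mem_sup_right (mem_zpowers _)))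
  replace e : σ * y * σ⁻¹ = a * b := hi (by simpa using e)
  have c : Commute σ x := hi (by simpa using hg.eq)
  rcases d.2.2.2.2 a ha b hb (by rw [← e]; exact Perm.card_support_conj) with rfl | rfl
  · simp only [List.mem_cons, List.not_mem_nil, or_false, one_mul] at hb e
    rcases hb with rfl | rfl | rfl
    · exact absurd (by simpa using e) fun c : y = 1 => d.2.2.2.1 (by simp [c])
    · exact (show Commute σ b from mul_inv_eq_iff_eq_mul.1 e).map χ
    · refine comm_of_sq h3 (map_pow χ σ 2 ▸ (show Commute (σ ^ 2) y from mul_inv_eq_iff_eq_mul.1 ?_).map χ)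
      rw [show σ ^ 2 * y * (σ ^ 2)⁻¹ = σ * (σ * y * σ⁻¹) * σ⁻¹ by rw [sq]; group, e, ← conj_inv, e,
        inv_inv]
  · have : Commute σ a := by
      simp only [List.mem_cons, List.not_mem_nil, or_false] at ha
      rcases ha with rfl | rfl | rfl <;> simp [c]
    rw [mul_one, mul_inv_eq_iff_eq_mul, ← this.eq] at e
    exact absurd (mul_left_cancel e ▸ ha) d.2.2.2.1

theorem ts [Finite G] (h : St ψ n L) : ¬ IsConj (ψ t) (ψ s) := by
  let χ : A →* G := (MulAut.conj n).toMonoidHom.comp ψ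
  have χ1 : χ e1 = ψ p := h.n1
  have χ4 : χ e4 = ψ (e2 * e3⁻¹) := h.n4
  have χi : Function.Injective χ := (MulAut.conj n).injective.comp h.inj
  have χc : ∀ a, (∀ g, Commute g (ψ a) → g ∈ ψ.range) → ∀ g, Commute g (χ a) → g ∈ χ.range := fun a k g hg => by
    obtain ⟨σ, e⟩ := k (n⁻¹ * g * n) (by simpa [χ, mul_assoc] using hg.conj n⁻¹)
    exact ⟨σ, by simp [χ, e, mul_assoc]⟩
  set D := zpowers (ψ e2) ⊔ zpowers (ψ e3) with hD
  have m2 : ψ e2 ∈ D := mem_sup_left (mem_zpowers _)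
  have m3 : ψ e3 ∈ D := mem_sup_right (mem_zpowers _)
  have D' : zpowers (χ e1) ⊔ zpowers (χ e4) = D := by
    rw [χ1, χ4]
    refine le_antisymm (sup_le (zpowers_le.2 ?_) (zpowers_le.2 ?_)) (sup_le (zpowers_le.2 ?_) (zpowers_le.2 ?_))
    · rw [p, map_mul]; exact mul_mem m2 m3
    · rw [map_mul, map_inv]; exact mul_mem m2 (inv_mem m3)
    · rw [show ψ e2 = ψ ((p * (e2 * e3⁻¹))⁻¹) from congrArg ψ (by decide +kernel), map_inv, map_mul ψ p]
      exact inv_mem (mul_mem_sup (mem_zpowers _) (mem_zpowers _))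
    · rw [show ψ e3 = ψ ((p * (e2 * e3⁻¹)⁻¹)⁻¹) from congrArg ψ (by decide +kernel), map_inv, map_mul ψ p,
        map_inv ψ (e2 * e3⁻¹)]
      exact inv_mem (mul_mem_sup (mem_zpowers _) (inv_mem (mem_zpowers _)))
  have mD : ∀ {g}, g ∈ D ↔ _ := memD (χ := ψ) (by decide +kernel) (by decide +kernel) (by decide +kernel)
  have cs : ∀ g ∈ D, g ≠ 1 → ∃ w ∈ [e2, e3, p, e2 * e3⁻¹], g = ψ w ∨ g = (ψ w)⁻¹ := fun g hg g1 => by
    obtain ⟨a, ha, b, hb, rfl⟩ := mD.1 hg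
    have d : ∀ a ∈ [1, e2, e2⁻¹], ∀ b ∈ [1, e3, e3⁻¹], a * b ≠ 1 → ∃ w ∈ [e2, e3, p, e2 * e3⁻¹],
      a * b = w ∨ a * b = w⁻¹ := by decide +kernel
    obtain ⟨w, hw, e⟩ := d a ha b hb fun e => g1 (by rw [e, map_one])
    exact ⟨w, hw, e.imp (congrArg ψ) fun e => by rw [e, map_inv]⟩
  have D3 : IsPGroup 3 D := isPGroup_iff_forall.2 fun g hg => ⟨1, by
    obtain ⟨a, ha, b, hb, rfl⟩ := mD.1 hg
    rw [← map_pow, ← map_one ψ]
    exact congrArg ψ (by clear hg; revert a b; decide +kernel)⟩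
  have Dt : D ≤ Ce (ψ t) := sup_le (zpowers_le.2 (mem_Ce.2 (by
    rw [← map_mul, ← map_mul]; exact congrArg ψ (by decide +kernel)))) (zpowers_le.2 (mem_Ce.2 (by
    rw [← map_mul, ← map_mul]; exact congrArg ψ (by decide +kernel))))
  have syl : IsSyl 3 D (Ce (ψ t)) := isSyl_of_isSyl_normalizer ⟨le_inf Dt le_normalizer, D3, fun Q hQ h1 h2 =>
    le_antisymm (fun g hg => by
      obtain ⟨⟨x, xD, xc⟩, x1⟩ := ne_bot_iff_exists_ne_one.1 (inf_centralizer_ne_bot D3 hQ (h2.trans inf_le_right)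
        fun e => absurd (h.inj ((mem_bot.1 (e.le m2)).trans (map_one ψ).symm)) (by decide +kernel))
      obtain ⟨k, hk⟩ := isPGroup_iff_forall.1 hQ g hg
      obtain ⟨w, hw, e⟩ := cs x xD fun e => x1 (Subtype.ext e)
      have c : Commute g (ψ w) := by
        have : Commute g x := xc g hg
        rcases e with rfl | rfl
        exacts [this, Commute.inv_right_iff.1 this]
      have gc : g ∈ cn D := by
        have hn := (h2 hg).2
        simp only [List.mem_cons, List.not_mem_nil, or_false] at hw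
        rcases hw with rfl | rfl | rfl | rfl
        · exact cenD h.inj (fun _ => h.cen2) hk c hn
        · rw [hD, sup_comm] at hn ⊢; exact cenD h.inj (fun _ => h.cen3) hk c hn
        · rw [← D'] at hn ⊢; exact cenD χi (χc _ h.cen) hk (χ1 ▸ c) hn
        · rw [← D', sup_comm] at hn ⊢; exact cenD χi (χc _ fun _ => h.cen4) hk (χ4 ▸ c) hn
      obtain ⟨σ, rfl⟩ := h.cen2 (gc _ m2).symm
      obtain ⟨a, ha, b, hb, rfl⟩ := p2 (σ := σ) (k := k) (h.inj (by simpa using (gc _ m2).symm))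
        (h.inj (by simpa using (gc _ m3).symm)) (h.inj (by simpa using mem_Ce.1 (h2 hg).1))
        (h.inj (by simpa using hk))
      exact mD.2 ⟨a, ha, b, hb, rfl⟩) h1⟩
  intro c
  obtain ⟨g, hg⟩ := isConj_iff.1 c.symm
  have z3 : ψ z ^ 3 = 1 := by rw [← map_pow, ← map_one ψ]; exact congrArg ψ (by decide +kernel)
  obtain ⟨u, -, hu⟩ := syl.exists_cj_le (isPGroup_zpowers (x := g * ψ z * g⁻¹) (k := 1) (by simp [conj_pow, z3]))
    (zpowers_le.2 (hg ▸ conj_mem_Ce (mem_Ce.2 (by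
      rw [← map_mul, ← map_mul]; exact congrArg ψ (by decide +kernel))) g))
  obtain ⟨w, hw, e⟩ := cs _ (hu (conj_mem_cj (mem_zpowers _))) fun e =>
    absurd (h.inj ((by simpa using e : ψ z = 1).trans (map_one ψ).symm)) (by decide +kernel)
  have cw : IsConj (ψ w) (ψ e1) := by
    simp only [List.mem_cons, List.not_mem_nil, or_false] at hw
    have k : ∀ a k : A, a = k * e1 * k⁻¹ → IsConj (ψ a) (ψ e1) := fun a k e =>
      (isConj_iff.2 ⟨ψ k, by simp [e]⟩).symm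
    rcases hw with rfl | rfl | rfl | rfl
    exacts [k _ _ e2_eq, k _ _ e3_eq, (isConj_iff.2 ⟨n, h.n1⟩).symm,
      (isConj_iff.2 ⟨n, h.n4⟩).symm.trans (k _ _ e4_eq)]
  refine h.zy ((isConj_iff.2 ⟨u * g, by group⟩ : IsConj (ψ z) (u * (g * ψ z * g⁻¹) * u⁻¹)).trans ?_)
  rcases e with e | e <;> rw [e]
  · exact cw
  · obtain ⟨a, ha⟩ := isConj_iff.1 cw
    refine isConj_iff.2 ⟨ψ r * a, ?_⟩
    rw [show ψ r * a * (ψ w)⁻¹ * (ψ r * a)⁻¹ = ψ r * (a * ψ w * a⁻¹)⁻¹ * (ψ r)⁻¹ by group, ha, ← map_inv, ← map_inv,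
      ← map_mul, ← map_mul]
    exact congrArg ψ (by decide +kernel)

theorem jobB1 : JobB1.{u} := by
  intro G _ _ ψ n L h
  let χ : A →* G := (MulAut.conj n).toMonoidHom.comp ψ
  have χ1 : χ e1 = ψ p := h.n1
  have χ2 : χ e2 = ψ (e1⁻¹ * e4) := h.n2
  have χ3 : χ e3 = ψ (e1⁻¹ * e4⁻¹) := h.n3
  have χ4 : χ e4 = ψ (e2 * e3⁻¹) := h.n4
  have χs : χ s = ψ s := mul_inv_eq_iff_eq_mul.2 h.ns
  have χi : χ io = ψ io := mul_inv_eq_iff_eq_mul.2 h.ni
  have u1 : ψ e1 = χ (e2 * e3) := by rw [map_mul, χ2, χ3, ← map_mul]; exact congrArg ψ (by decide +kernel)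
  have u4 : ψ e4 = χ (e2⁻¹ * e3) := by
    rw [map_mul, map_inv, χ2, χ3, ← map_inv, ← map_mul]; exact congrArg ψ (by decide +kernel)
  have u2 : ψ e2 = χ (e1⁻¹ * e4⁻¹) := by
    rw [map_mul, map_inv, map_inv, χ1, χ4, ← map_inv, ← map_inv, ← map_mul]; exact congrArg ψ (by decide +kernel)
  have u3 : ψ e3 = χ (e1⁻¹ * e4) := by
    rw [map_mul, map_inv, χ1, χ4, ← map_inv, ← map_mul]; exact congrArg ψ (by decide +kernel)
  have tr : ∀ {σ a x y x' y' : A}, ψ σ = χ a → ψ x = χ x' → ψ y = χ y' → a * x' = y' * a → σ * x = y * σ :=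
    fun e1 e2 e3 e => h.inj (by rw [map_mul, map_mul, e1, e2, e3, ← map_mul, ← map_mul, e])
  have iv : ∀ {x x' : A}, ψ x = χ x' → ψ x⁻¹ = χ x'⁻¹ := fun e => by rw [map_inv, map_inv, e]
  have hr : χ r = ψ r' := by
    obtain ⟨σ, e⟩ := h.cen (χ r) (u1 ▸ (show Commute r (e2 * e3) by to_code; decide +kernel).map χ)
    have c : ∀ {x y : A}, σ * x = y * σ → r' * y = x * r' → r' * σ * x = x * (r' * σ) := fun e1 e2 => by
      rw [mul_assoc, e1, ← mul_assoc, e2, mul_assoc]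
    rw [← e, eq_inv_of_mul_eq_one_right (p0 (c (tr e u1 u1 (by decide +kernel)) (by decide +kernel))
      (c (tr e u2 (iv u2) (by decide +kernel)) (by decide +kernel))
      (c (tr e u3 (iv u3) (by decide +kernel)) (by decide +kernel))
      (c (tr e u4 u4 (by decide +kernel)) (by decide +kernel))
      (c (tr e χi.symm χi.symm (by decide +kernel)) (by decide +kernel)))]
    exact congrArg ψ (by decide +kernel)
  have htc : χ (t * c) = ψ (t' * c') := by
    obtain ⟨σ, e⟩ := h.cen (χ (t * c)) (u1 ▸ (show Commute (t * c) (e2 * e3) by to_code; decide +kernel).map χ)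
    rw [← e, p1 (tr e u1 u1 (by decide +kernel)) (tr e u4 u4 (by decide +kernel))
      (h.inj (by rw [map_mul, e, ← map_mul, show t * c * (t * c) = 1 by decide +kernel, map_one, map_one]))
      (tr e χs.symm χs.symm (by decide +kernel)) (tr e hr.symm hr.symm (by decide +kernel))
      (h.inj (by
        simp only [map_mul ψ, map_inv ψ, e, ← χ1]
        simp only [← map_inv χ, ← map_mul χ, map_one ψ]
        exact (congrArg χ (by decide +kernel)).trans (map_one χ)))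
      fun c => absurd (h.inj ((by simpa [χ, c] using e.symm : ψ (t * H16.HN3.c) = 1).trans (map_one ψ).symm))
        (by decide +kernel)]
  have hc : χ c = ψ c' := by
    rw [show c = e1 * (t * c) * e1⁻¹ by decide +kernel, map_mul, map_mul χ e1, map_inv, χ1, htc, ← map_inv, ← map_mul,
      ← map_mul]
    exact congrArg ψ (by decide +kernel)
  refine ⟨(?_ : χ t = _), hc, hr, ts h⟩
  rw [show t = t * c * c⁻¹ by simp, map_mul, map_inv, htc, hc, ← map_inv, ← map_mul, mul_inv_cancel_right]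

end H89.HN3
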