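import Cfsg.Agent.H89.HN3B1
import Cfsg.Agent.H19.A8D

/-! Tower HN3L, section 8: `C(t, c) ≤ A₁₂`. -/

set_option autoImplicit false
set_option synthInstance.maxSize 5000
open Cfsg Subgroup H98 H42.L3 Equiv H16.HN3
open H19.A8 (mem_zp3 K z0 z1 xx DD Hyp z3 k_all mem_DD mem_nr_DD z0_mem z1_mem map_cube map_mem_Ce)
open H56.L3 (Nz)

namespace H89.HN3

universe u

local notation "Ce" => H56.L3.Ce

attribute [local instance high] List.decidableBAll List.decidableBEx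

section abs
variable {X : Type*} [Group X] [Finite X] {φ : K →* X} {s : X}

theorem mkHyp (hi : Function.Injective φ) (hn : Nz (φ z0) = φ.range) (ss : s * s = 1)
    (sz : s * φ z0 * s⁻¹ = φ z1) (cy : Ce (φ (z0 * z1)) ≤ nr (DD φ)) : Hyp φ s := by
  have si : s⁻¹ = s := inv_eq_of_mul_eq_one_right ss
  have mc : ∀ a b : K, φ a * φ b * (φ a)⁻¹ = φ (a * b * a⁻¹) := by simp
  have nz : ∀ g, ∀ a ∈ [1, z0, z0⁻¹], g * φ z0 * g⁻¹ = φ a → g ∈ φ.range := fun g a ha e =>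
    hn.le (mem_Nz.2 ((mem_zp3 (map_cube z3.1)).2 (by simpa [e, ← hi.eq_iff] using ha)))
  have hx : φ (xx 0) ∈ nr (DD φ) := mem_nr_DD hi hn
    (by rw [mc, z3.2.2.2.2.2.1, map_inv]; exact inv_mem z0_mem) (by rw [mc, z3.2.2.2.2.2.2]; exact z1_mem)
  have nD : ∀ g ∈ nr (DD φ), g ∈ φ.range ∨ g * s ∈ φ.range := fun g hg => by
    obtain ⟨a, ha, b, hb, e⟩ := mem_DD hi hn (conj_mem_of_mem_normalizer (inv_mem hg) z0_mem)
    have d : ∀ a ∈ [1, z0, z0⁻¹], ∀ b ∈ [1, z1, z1⁻¹], a * b ∈ [1, z0, z0⁻¹] ∨ (a * b = z1 ∨ a * b = z1⁻¹) ∨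
      ∃ u ∈ [1, xx 0], a * b = u * (z0 * z1) * u⁻¹ ∨ a * b = (u * (z0 * z1) * u⁻¹)⁻¹ := by decide +kernel
    rcases d a ha b hb with c | c | ⟨u, hu, c⟩
    · exact .inl (inv_mem_iff.1 (nz _ _ c e))
    · refine .inr (inv_mem_iff.1 ?_)
      have : (g * s)⁻¹ * φ z0 * (g * s)⁻¹⁻¹ = s⁻¹ * φ (a * b) * s := by rw [← e]; group
      rcases c with c | c
      · exact nz _ z0 (by simp) (by rw [this, c, ← sz]; group)
      · exact nz _ z0⁻¹ (by simp) (by rw [this, c, map_inv, map_inv, ← sz]; group)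
    · exfalso
      have hu' : φ u ∈ nr (DD φ) := by
        simp only [List.mem_cons, List.not_mem_nil, or_false] at hu
        rcases hu with rfl | rfl
        exacts [map_one φ ▸ one_mem _, hx]
      have k : φ (xx 1 * xx 2) ∈ nr (DD φ) := by
        have h1 := conj_mem_Ce (map_mem_Ce (φ := φ) (a := xx 1 * xx 2) (b := z0) (by decide +kernel)) g⁻¹
        rw [e] at h1
        have h2 : g⁻¹ * φ (xx 1 * xx 2) * g⁻¹⁻¹ ∈ Ce (φ u * φ (z0 * z1) * (φ u)⁻¹) := by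
          rw [mc]
          rcases c with c | c <;> rw [c] at h1
          exacts [h1, by rwa [map_inv, H19.A8.Ce_inv] at h1]
        have h3 := cy (by simpa [mul_assoc] using conj_mem_Ce h2 (φ u)⁻¹ :
          (φ u)⁻¹ * (g⁻¹ * φ (xx 1 * xx 2) * g) * φ u ∈ _)
        simpa [mul_assoc] using mul_mem (mul_mem hg (mul_mem (mul_mem hu' h3) (inv_mem hu'))) (inv_mem hg)
      have := mem_Ce.1 (conj_mem_of_mem_normalizer k z1_mem).2
      rw [mc, ← map_mul, ← map_mul] at this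
      exact absurd (hi this) (by decide +kernel)
  refine ⟨hi, hn, isSyl_of_isSyl_normalizer ⟨le_inf le_top le_normalizer, isPGroup_iff_forall.2 fun g hg => ⟨1, ?_⟩,
    fun Q hQ h1 h2 => le_antisymm (fun g hg => ?_) h1⟩, ss, sz, nD, cy⟩
  · obtain ⟨a, ha, b, hb, rfl⟩ := mem_DD hi hn hg
    exact map_cube (by clear hg; revert a b; decide +kernel)
  · obtain ⟨j, hj⟩ := isPGroup_iff_forall.1 hQ g hg
    have gn := (h2 hg).2
    obtain ⟨k, rfl⟩ : g ∈ φ.range := (nD g gn).elim id fun c => (nD _ (mul_mem gn gn)).elim (fun c2 => by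
      obtain ⟨m, hm⟩ : Odd (3 ^ j) := Odd.pow (by decide)
      have := pow_mem c2 (m + 1)
      rwa [← sq, ← pow_mul, show 2 * (m + 1) = 3 ^ j + 1 by omega, pow_succ, hj, one_mul] at this)
      fun c2 => by simpa [mul_assoc] using mul_mem c2 (inv_mem c)
    have d : ∀ k : K, k * z1 * k⁻¹ * z1 = z1 * (k * z1 * k⁻¹) → k ^ 2 * z0 = z0 * k ^ 2 ∧ k ^ 2 * z1 = z1 * k ^ 2 := by
      decide +kernel
    obtain ⟨d0, d1⟩ := d k (hi (by simpa using mem_Ce.1 (conj_mem_of_mem_normalizer gn z1_mem).2))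
    exact ⟨mem_Ce.2 (comm_of_sq hj (map_pow φ k 2 ▸ (show Commute _ _ from d0).map φ)),
      mem_Ce.2 (comm_of_sq hj (map_pow φ k 2 ▸ (show Commute _ _ from d1).map φ))⟩

theorem gen_top (h : Hyp φ s) (M : Subgroup X) (h1 : φ.range ≤ M) (h2 : s ∈ M) (x : X) : x ∈ M := by
  obtain ⟨θ, k⟩ := h.exists_psi
  obtain ⟨a, rfl⟩ := k.surj x
  have hs : θ H19.A8.sA ∈ M := by
    have : s⁻¹ * θ H19.A8.sA ∈ φ.range := h.pull (mem_Ce'.2 (by
      rw [mul_inv_rev, mul_assoc s⁻¹, ← mul_assoc, mul_assoc s⁻¹, k.hyp.sz, ← h.sz]; group))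
    simpa using mul_mem h2 (h1 this)
  have hg : ∀ j, j ≠ 1 → θ (H19.A8.g j) ∈ M := fun j hj => k.eq j hj ▸ h1 ⟨_, rfl⟩
  refine (closure_le (M.comap θ)).2 ?_ (H19.Moore.gen_closure.ge (mem_top a))
  rintro _ ⟨j, rfl⟩
  by_cases e : j = 1
  · subst e
    rw [show H19.Moore.gen (m := 6) 1 = H19.A8.g 4 * ((H19.A8.g 0)⁻¹ * (H19.A8.sA * H19.A8.g 3 * H19.A8.sA) *
      H19.A8.g 0) by decide +kernel]
    exact mul_mem (hg 4 (by decide)) (mul_mem (mul_mem (inv_mem (hg 0 (by decide)))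
      (mul_mem (mul_mem hs (hg 3 (by decide))) hs)) (hg 0 (by decide)))
  · exact hg j e

end abs

def E12 : Fin 4 ⊕ (Fin 3 ⊕ Fin 5) ≃ Fin 12 where
  toFun := Sum.elim ![0, 1, 2, 3] (Sum.elim ![6, 8, 10] ![4, 5, 7, 9, 11])
  invFun := ![.inl 0, .inl 1, .inl 2, .inl 3, .inr (.inr 0), .inr (.inr 1), .inr (.inl 0), .inr (.inr 2),
    .inr (.inl 1), .inr (.inr 3), .inr (.inl 2), .inr (.inr 4)]
  left_inv := by decide
  right_inv := by decide

def j0 : Perm (Fin 3) × Perm (Fin 5) →* P := E12.permCongrHom.toMonoidHom.comp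
  ((Perm.sumCongrHom _ _).comp ((MonoidHom.inr _ _).comp (Perm.sumCongrHom _ _)))

theorem j0_apply (k : Perm (Fin 3) × Perm (Fin 5)) :
    j0 k = E12.permCongr (Perm.sumCongr 1 (Perm.sumCongr k.1 k.2)) := rfl

theorem sign_j0 (k : Perm (Fin 3) × Perm (Fin 5)) : Perm.sign (j0 k) = Perm.sign k.1 * Perm.sign k.2 := by
  simp [j0_apply]

def φ0 : K →* A := (j0.comp K.subtype).codRestrict _ fun k => Perm.mem_alternatingGroup.2 ((sign_j0 _).trans k.2)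

theorem φ0_fix (k : K) (i : Fin 4) : (φ0 k).1 (E12 (.inl i)) = E12 (.inl i) := by
  simp [φ0, j0_apply]

theorem φ0_inj : Function.Injective φ0 := fun a b e => Subtype.ext
  (Perm.sumCongrHom_injective (congrArg Prod.snd (Perm.sumCongrHom_injective
    (E12.permCongrHom.injective (congrArg Subtype.val e)))))

theorem φ0_z : φ0 z0 = e2 ∧ φ0 z1 = e3 := by decide +kernel

theorem φ0_surj {σ : A} (h1 : ∀ i : Fin 4, σ.1 (E12 (.inl i)) = E12 (.inl i))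
    (h2 : ∀ i, e2.1 i ≠ i → e2.1 (σ.1 i) ≠ σ.1 i) : σ ∈ φ0.range := by
  obtain ⟨⟨a, b⟩, e⟩ := Perm.mem_sumCongrHom_range_of_perm_mapsTo_inl (σ := E12.symm.permCongr σ.1) (by
    rintro _ ⟨i, rfl⟩; exact ⟨i, by simp [h1]⟩)
  have e' : ∀ x, σ.1 (E12 x) = E12 (Sum.map a b x) := fun x => by
    have := DFunLike.congr_fun e x
    simp only [Perm.sumCongrHom_apply, Perm.sumCongr_apply, permCongr_apply, symm_symm] at this
    rw [this, apply_symm_apply]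
  obtain rfl : a = 1 := Equiv.ext fun i => Sum.inl_injective (E12.injective ((e' (.inl i)).symm.trans (h1 i)))
  obtain ⟨⟨b1, b2⟩, rfl⟩ := Perm.mem_sumCongrHom_range_of_perm_mapsTo_inl (σ := b) (by
    rintro _ ⟨i, rfl⟩
    have d : ∀ x : Fin 3 ⊕ Fin 5, e2.1 (E12 (.inr x)) ≠ E12 (.inr x) ↔ ∃ i, .inl i = x := by decide +kernel
    exact (d _).1 (e' (.inr (.inl i)) ▸ h2 _ ((d _).2 ⟨i, rfl⟩)))
  have e3 : j0 (b1, b2) = σ.1 := (congrArg E12.permCongr e).trans (E12.permCongr.apply_symm_apply σ.1)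
  exact ⟨⟨(b1, b2), MonoidHom.mem_ker.2 ((sign_j0 (b1, b2)).symm.trans (e3 ▸ σ.2))⟩, Subtype.ext e3⟩

theorem φ0_comm (k : K) : φ0 k * t = t * φ0 k ∧ φ0 k * c = c * φ0 k := by
  have := H19.A8.k_gen ((Ce t ⊓ Ce c).comap φ0) ⟨mem_Ce.2 (by decide +kernel), mem_Ce.2 (by decide +kernel)⟩
    (fun i => ⟨mem_Ce.2 (by revert i; decide +kernel), mem_Ce.2 (by revert i; decide +kernel)⟩) k
  exact ⟨mem_Ce.1 this.1, mem_Ce.1 this.2⟩

theorem pV {σ : A} (h1 : σ * t = t * σ) (h2 : σ * c = c * σ) :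
    ∃ w ∈ lV, ∀ i : Fin 4, (w * σ).1 (E12 (.inl i)) = E12 (.inl i) := by
  have d : ∀ x, t.1 x ≠ x → ∃ w ∈ lV, w.1 x = 0 ∧ Commute w t ∧ Commute w c := by
    unfold Commute SemiconjBy; decide +kernel
  obtain ⟨w, hw, e, c1, c2⟩ := d _ (mt (fixp h1 0).1 (by decide +kernel))
  have a1 := (c1.mul_left h1).eq
  have a2 := (c2.mul_left h2).eq
  have f0 : (w * σ).1 0 = 0 := e
  have f2 : (w * σ).1 (c.1 0) = c.1 0 := by rw [cm a2, f0]
  refine ⟨w, hw, fun i => ?_⟩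
  fin_cases i
  exacts [f0, (cm a1 0).trans (congrArg _ f0), f2, (cm a1 (c.1 0)).trans (congrArg _ f2)]

theorem pc {σ : A} (h1 : σ * e1 = e1 * σ) (h2 : σ * t' = t' * σ) (h3 : σ * c' = c' * σ) :
    σ * e4 * σ⁻¹ = e4 ∨ σ * e4 * σ⁻¹ = e4⁻¹ := by
  have d : ∀ x, e1.1 x = x → t'.1 x = x → c'.1 x = x → ∀ y, e1.1 y = y → t'.1 y = y → c'.1 y = y → y ≠ x →
      ∀ w, e1.1 w = w → t'.1 w = w → c'.1 w = w → w ≠ x → w ≠ y → cy x y w = e4.1 ∨ cy x y w = (e4⁻¹).1 := by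
    decide +kernel
  have e : (σ * e4 * σ⁻¹).1 = cy (σ.1 3) (σ.1 4) (σ.1 5) := by
    rw [cy, swap_apply_apply, swap_apply_apply, conj_mul]; rfl
  have := d _ ((fixp h1 3).2 rfl) ((fixp h2 3).2 rfl) ((fixp h3 3).2 rfl) _ ((fixp h1 4).2 rfl) ((fixp h2 4).2 rfl)
    ((fixp h3 4).2 rfl) (σ.1.injective.ne (by decide)) _ ((fixp h1 5).2 rfl) ((fixp h2 5).2 rfl) ((fixp h3 5).2 rfl)
    (σ.1.injective.ne (by decide)) (σ.1.injective.ne (by decide))
  exact this.imp (fun c => Subtype.ext (e.trans c)) fun c => Subtype.ext (e.trans c)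

variable {G : Type*} [Group G] {ψ : A →* G} {n g : G} {L : Subgroup G}

theorem cenP (h : St ψ n L) (b : B1 ψ n) (hp : Commute g (ψ p)) (ht : Commute g (ψ t)) (hc : Commute g (ψ c)) :
    ∀ a ∈ [e2, e3], g * ψ a * g⁻¹ = ψ e2 ∨ g * ψ a * g⁻¹ = ψ e3 := by
  obtain ⟨σ, e⟩ := h.cen _ (h.np ▸ hp.conj n)
  have k : ∀ {a a' : A}, n * ψ a * n⁻¹ = ψ a' → Commute g (ψ a) → σ * a' = a' * σ := fun e1 e2 =>
    h.inj (by rw [map_mul, map_mul, e, ← e1]; exact (e2.conj n).eq)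
  have k1 := k h.np hp
  have k4 := pc k1 (k b.nt ht) (k b.nc hc)
  have q : ∀ {a a' : A}, n * ψ a * n⁻¹ = ψ a' → g * ψ a * g⁻¹ = n⁻¹ * ψ (σ * a' * σ⁻¹) * n := fun e1 => by
    rw [map_mul, map_mul, map_inv, e, ← e1]; group
  have q1 : σ * e1⁻¹ * σ⁻¹ = e1⁻¹ := by rw [← conj_inv, k1, mul_inv_cancel_right]
  have r2 : n⁻¹ * ψ (e1⁻¹ * e4) * n = ψ e2 := by rw [← h.n2]; group
  have r3 : n⁻¹ * ψ (e1⁻¹ * e4⁻¹) * n = ψ e3 := by rw [← h.n3]; group
  simp only [List.forall_mem_cons, List.not_mem_nil, false_imp_iff, implies_true, and_true]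
  rw [q h.n2, q h.n3, ← conj_mul, ← conj_mul, q1, ← conj_inv (a := e4)]
  rcases k4 with f | f <;> simp only [f, inv_inv, r2, r3, true_or, or_true, and_self]

theorem norE (h : St ψ n L) (ht : Commute g (ψ t)) (hc : Commute g (ψ c))
    (e : ∃ a ∈ [1, e2, e2⁻¹], g * ψ e2 * g⁻¹ = ψ a) : ∃ w ∈ lV, ∃ k, ψ w * g = ψ (φ0 k) := by
  obtain ⟨a, ha, e⟩ := e
  have a1 : a ≠ 1 := fun c => absurd (h.inj ((by simpa [c] using e : ψ e2 = 1).trans (map_one ψ).symm))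
    (by decide +kernel)
  obtain ⟨σ, rfl⟩ : g ∈ ψ.range := by
    simp only [List.mem_cons, List.not_mem_nil, or_false, a1, false_or] at ha
    rcases ha with rfl | rfl
    · exact h.cen2 (mul_inv_eq_iff_eq_mul.1 e)
    · refine (ψ.range.mul_mem_cancel_left ⟨r', rfl⟩).1 (h.cen2 (mul_inv_eq_iff_eq_mul.1 ?_))
      rw [show ψ r' * g * ψ e2 * (ψ r' * g)⁻¹ = ψ r' * (g * ψ e2 * g⁻¹) * (ψ r')⁻¹ by group, e, ← map_inv, ← map_mul,
        ← map_mul]
      exact congrArg ψ (by decide +kernel)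
  obtain ⟨w, hw, f⟩ := pV (σ := σ) (h.inj (by simpa using ht.eq)) (h.inj (by simpa using hc.eq))
  replace e : σ * e2 = a * σ := mul_inv_eq_iff_eq_mul.1 (h.inj (by simpa using e))
  obtain ⟨k, hk⟩ := φ0_surj f fun i hi => by
    have d : ∀ a ∈ [1, e2, e2⁻¹], a ≠ 1 → ∀ w ∈ lV, ∀ x, e2.1 (w.1 x) = w.1 x → a.1 x = x := by decide +kernel
    exact fun c => hi (σ.1.injective ((congrArg (fun x : A => x.1 i) e).trans (d a ha a1 w hw _ c)))
  exact ⟨w, hw, k, by rw [hk, map_mul]⟩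

theorem jobB2 : JobB2.{u} := by
  intro G _ _ ψ n L h b g0 g0t g0c
  let C := Ce (ψ t) ⊓ Ce (ψ c)
  let V : Subgroup C := (sV.map ψ).subgroupOf C
  have mC : ∀ {a : A}, a * t = t * a ∧ a * c = c * a → ψ a ∈ C := fun e =>
    ⟨mem_Ce.2 (by rw [← map_mul, e.1, map_mul]), mem_Ce.2 (by rw [← map_mul, e.2, map_mul])⟩
  have ct : ∀ x : C, Commute x.1 (ψ t) := fun x => mem_Ce.1 x.2.1
  have cc : ∀ x : C, Commute x.1 (ψ c) := fun x => mem_Ce.1 x.2.2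
  have Vc : ∀ v ∈ V, v * v = 1 ∧ ∀ x : C, Commute x v := by
    rintro v ⟨w, hw, e⟩
    refine ⟨Subtype.ext ?_, fun x => Subtype.ext ?_⟩
    · change v.1 * v.1 = 1
      rw [← show ψ w = v.1 from e, ← map_mul, ← map_one ψ]
      exact congrArg ψ (by replace hw : w ∈ lV := hw; clear e; revert w; decide +kernel)
    · change Commute x.1 v.1
      rw [← show ψ w = v.1 from e]
      have := mem_sV.1 hw
      simp only [lV, List.mem_cons, List.not_mem_nil, or_false] at this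
      rcases this with rfl | rfl | rfl | rfl
      exacts [by simp, ct x, cc x, map_mul ψ t c ▸ (ct x).mul_right (cc x)]
  have : V.Normal := ⟨fun v hv x => by rwa [((Vc v hv).2 x).eq, mul_inv_cancel_right]⟩
  let π := QuotientGroup.mk' V
  let θ : K →* C := (ψ.comp φ0).codRestrict C fun k => mC (φ0_comm k)
  let φ := π.comp θ
  have cj : ∀ (g : C) (a b : K), a ^ 3 = 1 → b ^ 3 = 1 → π g * φ a * (π g)⁻¹ = φ b →
      g.1 * ψ (φ0 a) * g.1⁻¹ = ψ (φ0 b) := fun g a b ha hb e => by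
    obtain ⟨v, hv, e⟩ := (QuotientGroup.mk'_eq_mk' V (x := g * θ a * g⁻¹) (y := θ b)).1 e
    have := congrArg (· ^ 3) e
    simp only [((Vc v hv).2 _).mul_pow, conj_pow, ← map_pow, ha, hb, map_one, mul_one, mul_inv_cancel, one_mul,
      pow_succ' v 2, sq, (Vc v hv).1] at this
    rw [this, mul_one] at e
    exact congrArg Subtype.val e
  have hi : Function.Injective φ := (injective_iff_map_eq_one φ).2 fun k e => by
    obtain ⟨w, hw, e⟩ := (QuotientGroup.eq_one_iff (N := V) (θ k)).1 e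
    obtain rfl : w = φ0 k := h.inj e
    have d : ∀ w ∈ lV, w.1 0 = 0 → w = 1 := by decide +kernel
    exact φ0_inj ((d _ hw (φ0_fix k 0)).trans (map_one φ0).symm)
  have hn : Nz (φ z0) = φ.range := by
    refine le_antisymm (fun x hx => ?_) ?_
    · obtain ⟨g, rfl⟩ := QuotientGroup.mk'_surjective V x
      obtain ⟨a, ha, e⟩ : ∃ a ∈ [1, z0, z0⁻¹], π g * φ z0 * (π g)⁻¹ = φ a := by
        simpa [π] using (mem_zp3 (map_cube z3.1)).1 (mem_Nz.1 hx)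
      have d : ∀ a ∈ [1, z0, z0⁻¹], a ^ 3 = 1 ∧ φ0 a ∈ [1, e2, e2⁻¹] := by decide +kernel
      obtain ⟨w, hw, k, f⟩ := norE h (ct g) (cc g) ⟨_, (d a ha).2, φ0_z.1 ▸ cj g z0 a z3.1 (d a ha).1 e⟩
      have wC : ψ w ∈ C := mC (by clear f; revert w; decide +kernel)
      refine ⟨k, ((QuotientGroup.mk'_eq_mk' V).2 ⟨⟨_, wC⟩, ⟨w, hw, rfl⟩, ?_⟩).symm⟩
      rw [((Vc ⟨_, wC⟩ ⟨w, hw, rfl⟩).2 g).eq]
      exact Subtype.ext f
    · rintro _ ⟨k, rfl⟩
      refine mem_Nz.2 ((mem_zp3 (map_cube z3.1)).2 ?_)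
      rw [← map_inv, ← map_mul, ← map_mul]
      rcases (k_all (k * z0 * k⁻¹)).1 (by simp [z0]) with e | e | e <;> simp [e]
  let s' : C := ⟨ψ s, mC (by decide +kernel)⟩
  have H : Hyp φ (π s') := mkHyp hi hn
    (by rw [← map_mul, show s' * s' = 1 from Subtype.ext ((map_mul ψ s s).symm.trans
      ((congrArg ψ (by decide +kernel)).trans (map_one ψ))), map_one])
    (congrArg π (show s' * θ z0 * s'⁻¹ = θ z1 from Subtype.ext (by
      change ψ s * ψ (φ0 z0) * (ψ s)⁻¹ = ψ (φ0 z1)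
      rw [← map_inv, ← map_mul, ← map_mul]; exact congrArg ψ (by decide +kernel))))
    fun x hx => by
      obtain ⟨g, rfl⟩ := QuotientGroup.mk'_surjective V x
      have e := cj g _ _ (by decide +kernel) (by decide +kernel) (mem_Ce'.1 hx)
      rw [map_mul φ0, φ0_z.1, φ0_z.2] at e
      have k := cenP h b (mul_inv_eq_iff_eq_mul.1 e) (ct g) (cc g)
      have q : ∀ a : K, φ0 a ∈ [e2, e3] → π g * φ a * (π g)⁻¹ ∈ DD φ := fun a ha => by
        rcases k _ ha with f | f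
        · rw [show π g * φ a * (π g)⁻¹ = φ z0 from
            congrArg π (show g * θ a * g⁻¹ = θ z0 from Subtype.ext (f.trans (congrArg ψ φ0_z.1.symm)))]
          exact z0_mem
        · rw [show π g * φ a * (π g)⁻¹ = φ z1 from
            congrArg π (show g * θ a * g⁻¹ = θ z1 from Subtype.ext (f.trans (congrArg ψ φ0_z.2.symm)))]
          exact z1_mem
      exact mem_nr_DD hi hn (q z0 (by simp [φ0_z])) (q z1 (by simp [φ0_z]))
  obtain ⟨y, hy, e⟩ := gen_top H ((ψ.range.subgroupOf C).map π) (by rintro _ ⟨k, rfl⟩; exact ⟨θ k, ⟨_, rfl⟩, rfl⟩)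
    ⟨s', ⟨s, rfl⟩, rfl⟩ (π ⟨g0, mem_Ce.2 g0t, mem_Ce.2 g0c⟩)
  obtain ⟨v, ⟨w, -, hw⟩, e⟩ := (QuotientGroup.mk'_eq_mk' V).1 e
  exact (show y.1 * v.1 = g0 from congrArg Subtype.val e) ▸ mul_mem (show y.1 ∈ ψ.range from hy) ⟨w, hw⟩

end H89.HN3
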