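import Cfsg.Agent.H16.HN3Spec

/-! Tower HN3L, section 6: simplicity. -/

set_option autoImplicit false
open Cfsg Subgroup H98 H42.L3 Equiv H16.HN3 H21.MC
open H56.L3 (Nz)
open H47.MC (V Mat Acts Coord)
open H90 (SL5)
open scoped commutatorElement Matrix

namespace H89.HN3

universe u

attribute [local instance high] List.decidableBAll List.decidableBEx

theorem sl_top (N : Subgroup SL5) [hN : N.Normal] {x : SL5} (hx : x ∈ N) (h3 : x ^ 3 = 1) (h1 : x ≠ 1) :
    N = ⊤ := by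
  have k : ∀ x : SL5, x ^ 3 = 1 → x ≠ 1 → ∀ y ∈ [H90.m3, H90.m3a, H90.m3b], ∃ g, g * x = y * g := by
    decide +kernel
  have m : ∀ y ∈ [H90.m3, H90.m3a, H90.m3b], y ∈ N := fun y hy => by
    obtain ⟨g, e⟩ := k x h3 h1 y hy
    exact mul_inv_eq_iff_eq_mul.2 e ▸ hN.conj_mem x hx g
  exact H90.eq_top_of_m3_m3a_m3b N (m _ (by simp)) (m _ (by simp)) (m _ (by simp))

theorem jobS : JobS.{u} := by
  intro G _ _ v S J Q L n π ι ψ h k
  have B := h.bas
  have C := h.toCoord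
  have T := st_of h k
  have z1 : v wz ≠ 1 := fun e => absurd ((H42.MC.v_eq_one C).1 e) (by decide)
  have : Nontrivial G := ⟨_, _, z1⟩
  refine ⟨fun N hN => or_iff_not_imp_left.2 fun ne => ?_⟩
  have h3 : 3 ∣ Nat.card N := by
    by_contra c
    exact ne (h.sig N (Nat.prime_three.coprime_iff_not_dvd.2 c).symm le_normalizer_of_normal)
  have SN := B.syl.inf_of_le_normalizer (le_top (a := N)) le_normalizer_of_normal
  obtain ⟨⟨x, ⟨xS, xN⟩, xc⟩, x1⟩ := (ne_bot_iff_exists_ne_one).1 (inf_centralizer_ne_bot SN.isPGroup B.syl.isPGroup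
    (le_normalizer_inf le_normalizer le_normalizer_of_normal) fun e => SN.eq_bot_iff.1 e h3)
  obtain ⟨y, rfl⟩ := (C.mem x).1 (B.cJ h.JS h.Jc h.J81 fun j hj => xc j (h.JS hj))
  have zN : v wz ∈ N := by
    have f : ∀ b, b ⬝ᵥ wz = 0 → sieg wz b *ᵥ y = y := fun b hb => by
      obtain ⟨q, hq, e⟩ := h.qreal b hb
      exact (H42.MC.acts_mem_Ce C e).1 (mem_Ce.2 (xc q (B.QS hq)))
    have d : ∀ y : V, sieg wz ve4 *ᵥ y = y → sieg wz wa *ᵥ y = y → y = 0 ∨ y = wz ∨ wz = -y := by decide +kernel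
    rcases d y (f _ (by decide)) (f _ (by decide)) with rfl | rfl | e
    · exact absurd (Subtype.ext (H42.MC.v_zero C)) x1
    · exact xN
    · rw [e, H42.MC.v_neg C]; exact inv_mem xN
  have hz : ψ z = v wz := by
    rw [z, p, map_mul, map_mul, k.p1, k.p2, k.p3, ← C.add, ← C.add]
    exact congrArg v (by decide)
  have := alternatingGroup.isSimpleGroup (α := Fin 12) (by simp)
  have AN : ∀ a, ψ a ∈ N := fun a => ((hN.comap ψ).eq_bot_or_eq_top.resolve_left fun e => z1 (by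
    rw [← hz, mem_bot.1 (e.le (mem_comap.2 (hz.symm ▸ zN : ψ z ∈ N))), map_one])).ge (mem_top a)
  have QN : Q ≤ N := fun q hq => by
    have s1 : n * n ∈ N := k.ps ▸ AN _
    have : q * q ∈ N := by
      rw [show q * q = q * (n * n) * q⁻¹ * (n * n)⁻¹ * (n * n * q * (n * n)⁻¹ * q) by group]
      exact mul_mem (mul_mem (hN.conj_mem _ s1 q) (inv_mem s1)) (zpowers_le.2 zN (h.sinv q hq))
    rw [show q = q * q * (q * q) * (q ^ 3)⁻¹ by group, B.expQ q hq, inv_one, mul_one]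
    exact mul_mem this this
  have LN : L ≤ N := fun l hl => by
    obtain ⟨e⟩ := h.Liso
    have := sl_top ((N.subgroupOf L).map e.toMonoidHom) (hN := (hN.subgroupOf L).map _ e.surjective)
      ⟨⟨ψ d, T.dL⟩, AN d, rfl⟩ (by
        rw [← map_pow, ← map_one e.toMonoidHom]
        exact congrArg _ (Subtype.ext (show ψ d ^ 3 = 1 by rw [← map_pow, show d ^ 3 = 1 by decide +kernel, map_one])))
      fun c => absurd (T.inj ((congrArg Subtype.val ((map_eq_one_iff _ e.injective).1 c)).trans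
        (map_one ψ).symm)) (by decide +kernel)
    obtain ⟨a, ha, c⟩ := this.ge (mem_top (e ⟨l, hl⟩))
    rwa [e.injective c] at ha
  have CN : ∀ g ∈ H56.L3.Ce (v wz), g ∈ N := fun g hg => by
    obtain ⟨q, hq, l, hl, rfl⟩ := h.dec g hg
    exact mul_mem (QN hq) (LN hl)
  refine eq_top_iff.2 fun g _ => ?_
  obtain ⟨a, ha, m, hm, rfl⟩ := (B.syl.of_le (fun s hs => CN s (B.SL hs)) le_top).frattini_mem
    (le_normalizer_of_normal (mem_top g))
  refine mul_mem ?_ hm
  obtain ⟨c, e⟩ := (H42.MC.mem_zp_v C).1 (mem_Nz.1 (B.nS ha))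
  obtain rfl | rfl | rfl : c = 0 ∨ c = 1 ∨ c = -1 := by clear e; revert c; decide
  · rw [zero_smul, H42.MC.v_zero C] at e
    exact absurd (by simpa using e.symm) z1
  · exact CN a (mem_Ce'.2 (by simpa using e.symm))
  · refine (N.mul_mem_cancel_left (k.pi ▸ AN io)).1 (CN _ (mem_Ce'.2 ?_))
    rw [show ι * a * v wz * (ι * a)⁻¹ = ι * (a * v wz * a⁻¹) * ι⁻¹ by group, ← e, h.aI]
    exact congrArg v (by decide)

end H89.HN3
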