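import Cfsg.Agent.H23.NDSpec

/-! ND tower (S4780), job T2. -/

set_option autoImplicit false
open Cfsg H28 H32 H44 H93.DG H55.Nd H23.ND

namespace H89.ND

universe u

theorem jobT2 : JobT2.{u} := by
  intro G _ _ p P _ h pg gf h3 hT h2
  have : Fact p.Prime := ⟨pg.b.hp⟩
  have hc : ∀ x ∈ CC P, h * x * h⁻¹ = x := by
    intro x hx
    rw [gf.g0] at hx
    have : C0 P h ⊔ L2 P ≤ Subgroup.centralizer {h} := sup_le inf_le_right fun a ha => by
      have k := (mem_Ct.1 (hT ▸ Subgroup.mem_top h : h ∈ Ct (L2 P) (L3 P))) a ha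
      rw [h3, Subgroup.mem_bot, mul_inv_eq_one, mul_inv_eq_iff_eq_mul] at k
      exact Subgroup.mem_centralizer_singleton_iff.2 k.symm
    rw [← Subgroup.mem_centralizer_singleton_iff.1 (this hx), mul_inv_cancel_right]
  have inv : ∀ θ : P → ℂ, IsIrrCharacter P θ → ¬ Kr ⁅P, P⁆ θ → DD θ = charDegree θ := by
    intro θ hθ hk
    have e : inertia θ = ⊤ := by
      rw [eq_top_iff, ← pg.b.gen]
      refine sup_le (le_inertia hθ.isClassFunction) (Subgroup.zpowers_le.2 ?_)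
      refine mem_inertia_iff.2 fun n => ?_
      by_cases hn : (n : G) ∈ CC P
      · exact congrArg θ (Subtype.ext (hc _ hn))
      · have hn' : h * n * h⁻¹ ∉ CC P := fun k => hn (by
          simpa [mul_assoc] using (CC_normal P).conj_mem' _ k h)
        exact ((pg.f.cl _ ((inferInstance : P.Normal).conj_mem n n.2 h) hn').van _ hθ hk).trans
          ((pg.f.cl _ n.2 hn).van n.2 hθ hk).symm
    rw [DD, e, Subgroup.index_top, one_mul]
  obtain ⟨k, hk⟩ := IsPGroup.iff_card.1 pg.pg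
  have pw : ∀ θ : P → ℂ, IsIrrCharacter P θ → ∃ j, charDegree θ = p ^ j := fun θ hθ => by
    obtain ⟨j, -, e⟩ := (Nat.dvd_prime_pow pg.b.hp).1 (hk ▸ hθ.charDegree_dvd_card)
    exact ⟨j, e⟩
  obtain ⟨y, hy, y1⟩ := (Subgroup.bot_or_exists_ne_one (L2 P)).resolve_left h2
  have hy' := hy
  rw [L2, ← Subgroup.map_subtype_commutator] at hy'
  obtain ⟨y, hy', rfl⟩ := hy'
  obtain ⟨θ, hθ, hyk⟩ := exists_irr_not_mem_charKer (g := y) fun e => y1 (by rw [e, map_one])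
  have hk0 : ¬ Kr ⁅P, P⁆ θ := fun k => hyk (k hy)
  have h1 : charDegree θ ≠ 1 := fun e => hyk (hθ.degree_one_iff.1 (by
    rw [← hθ.isCharacter.cast_charDegree, e, Nat.cast_one]) hy')
  have m0 := inv θ hθ hk0 ▸ pg.f.dd θ hθ
  refine ⟨charDegree θ, h1, mem_cd hθ, m0, fun d hd => ?_⟩
  rcases pg.f.cd d hd with e | e | ⟨η, hη, k1, k2, e⟩
  · exact Or.inl e
  · exact Or.inr (Or.inl e)
  refine Or.inr (Or.inr ?_)
  rw [inv η hη k1] at e
  subst e
  obtain ⟨i, hi⟩ := pw θ hθ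
  obtain ⟨j, hj⟩ := pw η hη
  rcases le_total i j with l | l
  · exact (pg.b.nd.eq m0 hd h1 (hi ▸ hj ▸ pow_dvd_pow p l)).symm
  · exact pg.b.nd.eq hd m0 k2 (hi ▸ hj ▸ pow_dvd_pow p l)

end H89.ND
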