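import Cfsg.Agent.H74.O8Kit
import Cfsg.Agent.H19.L3Fin
import Cfsg.Agent.H95.OCAut

/-! Tower O8, slot XM10: no extension of a nontrivial 2-group by `M₁₀` has element orders at
most 8. -/

set_option autoImplicit false
set_option maxRecDepth 100000

namespace H89.XM10

open Cfsg Subgroup H98 H74.OC H74.O8 H19 Equiv Equiv.Perm

universe u

attribute [local instance 2000] List.decidableBAll List.decidableBEx

/-- The linear algebra: `γ` has vanishing norm of length 8, `γ⁴` inverts `σ`. -/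
theorem core {U : Type*} [AddCommGroup U] [Finite U] (γ σ : AddMonoid.End U)
    (two : ∀ v : U, v + v = 0) (hN : (1 + γ ^ 4) * ((1 + γ ^ 2) * (1 + γ)) = 0)
    (hs : σ * γ ^ 4 * σ = γ ^ 4) (hf : ∀ v, σ (σ v) = v → v = 0) (v : U) : v = 0 := by
  have t2 : ∀ x : AddMonoid.End U, x + x = 0 := fun x => AddMonoidHom.ext fun a => two (x a)
  have sq : ∀ x : AddMonoid.End U, (1 + x) ^ 2 = 1 + x ^ 2 := fun x => by
    rw [show (1 + x) ^ 2 = 1 + x ^ 2 + (x + x) by noncomm_ring, t2, add_zero]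
  obtain ⟨n, hn⟩ : ∃ n, n = 1 + γ := ⟨_, rfl⟩
  obtain ⟨τ, hτ⟩ : ∃ τ, τ = γ ^ 4 := ⟨_, rfl⟩
  have n2 : n ^ 2 = 1 + γ ^ 2 := hn ▸ sq γ
  have n4 : n ^ 4 = 1 + τ := by rw [show 4 = 2 * 2 from rfl, pow_mul, n2, sq, ← pow_mul, hτ]
  rw [← hτ] at hN hs
  have n7 : n ^ 7 = 0 := by
    rw [← hN, ← n4, ← n2, ← hn, ← pow_succ, ← pow_add]
  have ee : (1 + τ) * (1 + τ) = 0 := by
    rw [← n4, ← pow_add, show 4 + 4 = 7 + 1 from rfl, pow_succ, n7, zero_mul]
  have tt : τ * τ = 1 := by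
    rw [← pow_two, sq, pow_two] at ee
    rw [← add_zero (τ * τ), ← ee, add_comm 1, ← add_assoc, t2, zero_add]
  have tt' : ∀ a, τ (τ a) = a := fun a => DFunLike.congr_fun tt a
  have hs' : ∀ a, σ (τ (σ a)) = τ a := fun a => DFunLike.congr_fun hs a
  have ea : ∀ a, (1 + τ) a = a + τ a := fun _ => rfl
  have ne : ∀ a : U, -a = a := fun a => neg_eq_of_add_eq_zero_left (two a)
  have su : Function.Surjective (1 + σ * σ : AddMonoid.End U) :=
    Finite.injective_iff_surjective.1 ((injective_iff_map_eq_zero _).2 fun a ha =>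
      hf a ((eq_neg_of_add_eq_zero_right ha).trans (ne a)))
  have dec : ∀ a, ∃ y r, a = (1 + τ) y + σ ((1 + τ) r) := fun a => by
    obtain ⟨y, rfl⟩ := su a
    refine ⟨y, τ (σ y), ?_⟩
    rw [ea, ea, map_add, hs', tt', add_assoc, ← add_assoc (τ y), two, zero_add]
    rfl
  have fx : ∀ a, (1 + τ) a = 0 → τ a = a := fun a ha => (eq_neg_of_add_eq_zero_right ha).trans (ne a)
  have key : ∀ a, (n ^ 4) a = 0 → (n ^ 3) a = 0 := fun a ha => by
    obtain ⟨y, r, e⟩ := dec a
    have k1 : ∀ b, (1 + τ) ((1 + τ) b) = 0 := fun b => DFunLike.congr_fun ee b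
    rw [n4] at ha
    have k2 : (1 + τ) (σ ((1 + τ) r)) = 0 := by rwa [e, map_add, k1, zero_add] at ha
    have k3 : (1 + τ) r = 0 := hf _ (by rw [← fx _ k2, hs', fx _ (k1 r)])
    rw [e, k3, map_zero, add_zero, ← n4]
    exact DFunLike.congr_fun ((pow_add n 3 4).symm.trans n7) y
  have st : ∀ k, n ^ (4 + k) = 0 → n ^ (3 + k) = 0 := fun k hk => AddMonoidHom.ext fun a => by
    rw [pow_add] at hk ⊢
    exact key _ (DFunLike.congr_fun hk a)
  have n0 : 1 + τ = 0 := n4 ▸ st 1 (st 2 (st 3 n7))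
  obtain ⟨y, r, e⟩ := dec v
  rw [e, n0]
  simp

/-- An element of order 8 whose fourth power inverts an element of order 5. -/
theorem no8 {H K : Type*} [Group H] [Finite H] [Group K] {f : H →* K} (c : Cov f) {g s : K}
    (hs : orderOf s = 5) (h8 : g ^ 8 = 1) (hi : s * g ^ 4 * s = g ^ 4) : f.ker = ⊥ := by
  haveI : Fact (Nat.Prime 2) := ⟨Nat.prime_two⟩
  by_contra hk
  have g8 : orderOf g = 8 := orderOf_eq_prime_pow (p := 2) (n := 2) (fun e => by
    rw [show g ^ 4 = 1 from e, mul_one, ← pow_two] at hi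
    exact absurd (hs ▸ orderOf_dvd_of_pow_eq_one hi) (by norm_num)) h8
  obtain ⟨g, rfl⟩ := c.sur g
  obtain ⟨s, rfl⟩ := c.sur s
  obtain ⟨V, hV⟩ : ∃ V, V = oz 2 f.ker := ⟨_, rfl⟩
  haveI : V.Normal := normalizer_eq_top_iff.1 (top_le_iff.1
    (hV ▸ le_normalizer_oz (normalizer_eq_top (H := f.ker)).ge))
  have ea : IsElementaryAbelian 2 V := hV ▸ ea_oz _
  letI : CommGroup V := { (inferInstance : Group V) with mul_comm := ea.1.1.1 }
  let A : H →* AddMonoid.End (Additive V) :=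
    { toFun := fun h => MonoidHom.toAdditive (MulAut.conjNormal h : V ≃* V).toMonoidHom
      map_one' := AddMonoidHom.ext fun v => Additive.toMul.injective (Subtype.ext
        (show 1 * (v.toMul : H) * 1⁻¹ = v.toMul by group))
      map_mul' := fun a b => AddMonoidHom.ext fun v => Additive.toMul.injective (Subtype.ext
        (show a * b * (v.toMul : H) * (a * b)⁻¹ = a * (b * v.toMul * b⁻¹) * a⁻¹ by group)) }
  have A2 : ∀ a b, f a = f b → A a = A b := fun a b e => by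
    have k : a⁻¹ * b ∈ f.ker := by rw [MonoidHom.mem_ker, map_mul, map_inv, e, inv_mul_cancel]
    refine AddMonoidHom.ext fun v => Additive.toMul.injective (Subtype.ext ?_)
    have := le_centralizer_oz (p := 2) f.ker k _ (hV.le v.toMul.2)
    change a * v.toMul * a⁻¹ = b * v.toMul * b⁻¹
    calc _ = a * (v.toMul * (a⁻¹ * b)) * b⁻¹ := by group
      _ = _ := by rw [this]; group
  have A3 : ∀ (h : H) (v : Additive V), ((v.toMul : H) * h) ^ 2 =
      (((1 + A h) v).toMul : H) * h ^ 2 := fun h v => by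
    change _ = (v.toMul : H) * (h * v.toMul * h⁻¹) * h ^ 2
    simp only [pow_two, mul_assoc, inv_mul_cancel_left]
  have o8 : ∀ v ∈ V, (v * g) ^ 8 = 1 := fun v hv => by
    rw [← ord_eq c.sp f (g := v * g) (n := 8) (by norm_num) (by
      rw [map_mul, show f v = 1 from oz_le _ (hV ▸ hv), one_mul, g8]), pow_orderOf_eq_one]
  refine oz_ne_bot (p := 2) c.two hk (hV ▸ eq_bot_iff.2 fun v hv => ?_)
  refine congrArg (fun a : Additive V => (a.toMul : H)) (core (A g) (A s) (fun a => ?_) ?_ ?_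
    (fun a ha => ?_) (Additive.ofMul ⟨v, hv⟩))
  · exact Additive.toMul.injective (Subtype.ext ((pow_two _).symm.trans (ea.2 _ a.toMul.2)))
  · refine AddMonoidHom.ext fun a => Additive.toMul.injective (Subtype.ext ?_)
    have := o8 _ a.toMul.2
    rw [show 8 = 2 * 2 * 2 from rfl, pow_mul, pow_mul, A3, A3, A3, ← pow_mul, ← pow_mul,
      show g ^ (2 * (2 * 2)) = 1 by simpa using o8 1 (one_mem _), mul_one, map_pow, map_pow] at this
    exact this
  · rw [← map_pow, ← map_mul, ← map_mul]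
    exact A2 _ _ (by rw [map_mul, map_mul, map_pow, hi])
  · have o5 : orderOf (s * s) = 5 := by
      rw [← pow_two, Nat.Coprime.orderOf_pow (by rw [ord_eq c.sp f le_rfl hs]; norm_num),
        ord_eq c.sp f le_rfl hs]
    have k : s * (s * a.toMul * s⁻¹) * s⁻¹ = a.toMul :=
      congrArg (fun a : Additive V => (a.toMul : H)) ha
    refine Additive.toMul.injective (Subtype.ext (mem_bot.1 ((fpf c.sp (Or.inl o5) c.two).le
      ⟨oz_le _ (hV.le a.toMul.2), mem_centralizer_singleton_iff.2 ?_⟩)))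
    conv_lhs => rw [← k]
    group

theorem map_wd {G G' : Type*} [Group G] [Group G'] (f : G →* G') (a b : G) (l : List Bool) :
    f (wd a b l) = wd (f a) (f b) l := by
  induction l with
  | nil => exact f.map_one
  | cons t l ih => cases t <;> exact (f.map_mul _ _).trans (congrArg (f _ * ·) ih)

theorem key : ∀ x : Perm (Fin 6), x ^ 2 = 1 → (x * b6) ^ 5 = 1 →
    (∃ s ∈ ([1, c[4, 5], c[0, 3, 2, 1], c[0, 3, 2, 1] * c[4, 5], c[0, 2] * c[1, 3],
      c[0, 2] * c[1, 3] * c[4, 5], c[0, 1, 2, 3], c[0, 1, 2, 3] * c[4, 5]] : List (Perm (Fin 6))),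
      s * a6 = x * s ∧ s * b6 = b6 * s) ∨
    ∃ w ∈ [[true, false, true, false, false, false, true, false, true, false, false, false],
      [true, false, true, false, false, true, false, true, false],
      [false, false, true, false, true, false, false, false, true, false, true, false],
      [false, false, true, false, true, false, false, true, false, true, false, false, false],
      [false, true, false, true, false, false, true, false, true],
      [false, true, false, true, false, false, false, true, false, true, false, false],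
      [false, false, false, true, false, true, false, false, true, false, true, false, false],
      [true, false, false, false, true, false, true, false, false, false, true, false]],
      wd (a6 : Perm (Fin 6)) b6 w = x ∧ ∃ k ∈ [1, 3], wd x b6 w * b6 ^ k = b6 ^ k * a6 := by
  decide +kernel

theorem conj_b (θ : MulAut A6) : ∃ y, θ b6 = y * b6 * y⁻¹ := by
  obtain ⟨-, -, h3, h4, -⟩ := ab6_rel
  obtain ⟨r, hr, s, hs⟩ := exists_rep reps6 Prod.fst reps6_all (θ b6)
  have e : ∀ k, r.1 ^ k = 1 ↔ b6 ^ k = 1 := fun k => by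
    rw [← θ.map_eq_one_iff, map_pow, Subtype.ext_iff, Subgroup.coe_pow, hs, conj_pow]
    simp
  have h6 : ∀ r ∈ reps6, r.1 ^ 4 = 1 → r.1 ^ 2 ≠ 1 → r.1 = b6 := by decide +kernel
  rw [h6 r hr ((e 4).2 h3) (mt (e 2).1 h4)] at hs
  rcases Int.units_eq_one_or (sign s) with h | h
  · exact ⟨⟨s, h⟩, Subtype.ext hs⟩
  · refine ⟨⟨s * c[4, 5], mem_alternatingGroup.2 (by rw [Perm.sign_mul, h]; decide +kernel)⟩,
      Subtype.ext (hs.trans ?_)⟩
    have : (b6 : Perm (Fin 6)) = c[4, 5] * (b6 : Perm (Fin 6)) * c[4, 5]⁻¹ := by decide +kernel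
    conv_lhs => rw [this]
    simp [mul_assoc]

/-- An automorphism fixing `b6` is induced by `S₆` or has square `conj b6^(±1)`. -/
theorem aut_b (φ : MulAut A6) (h : φ b6 = b6) :
    φ ∈ (H95.OC.cN 6).range ∨ ∃ k ∈ [1, 3], φ ^ 2 = MulAut.conj (b6 ^ k) := by
  obtain ⟨h1, -, -, -, h5, -⟩ := ab6_rel
  have e : ∀ α β : MulAut A6, α a6 = β a6 → α b6 = β b6 → α = β := fun α β k1 k2 =>
    MulEquiv.toMonoidHom_injective (MonoidHom.eq_of_eqOn_dense (f := α.toMonoidHom)
      (g := β.toMonoidHom) closure_ab6 (by rintro _ (rfl | rfl); exacts [k1, k2]))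
  rcases key (φ a6) (by rw [← Subgroup.coe_pow, ← map_pow, h1, map_one, Subgroup.coe_one])
    (by rw [← h, ← Subgroup.coe_mul, ← Subgroup.coe_pow, ← map_mul, ← map_pow, h5, map_one,
      Subgroup.coe_one]) with ⟨s, -, k1, k2⟩ | ⟨w, -, k1, k, hk, k2⟩
  · exact Or.inl ⟨s, e _ _ (Subtype.ext (mul_inv_eq_iff_eq_mul.2 k1))
      (Subtype.ext ((mul_inv_eq_iff_eq_mul.2 k2).trans (congrArg Subtype.val h).symm))⟩
  · refine Or.inr ⟨k, hk, e _ _ ?_ ?_⟩
    · have k3 : wd a6 b6 w = φ a6 := Subtype.ext ((map_wd (alternatingGroup (Fin 6)).subtype _ _ w).trans k1)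
      have k4 : φ (φ a6) = wd (φ a6) b6 w := by
        conv_lhs => rw [← k3]
        exact (map_wd φ.toMonoidHom _ _ w).trans (congrArg (wd (φ a6) · w) h)
      rw [pow_two, MulAut.mul_apply, k4, MulAut.conj_apply, eq_mul_inv_iff_mul_eq]
      refine Subtype.ext ?_
      rw [Subgroup.coe_mul, Subgroup.coe_mul, Subgroup.coe_pow, ← k2]
      exact congrArg (· * _) (map_wd (alternatingGroup (Fin 6)).subtype _ _ w)
    · rw [pow_two, MulAut.mul_apply, h, h, MulAut.conj_apply, eq_mul_inv_iff_mul_eq, ← pow_succ,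
        ← pow_succ']

/-- A 5-cycle inverted by the square of `b6`. -/
def s6 : A6 := ⟨c[4, 0, 1, 3, 2], mem_alternatingGroup.2 (by decide +kernel)⟩

theorem s6_rel : s6 ^ 5 = 1 ∧ s6 ≠ 1 ∧
    ∀ k ∈ [1, 3], (b6 ^ k) ^ 4 = 1 ∧ s6 * (b6 ^ k) ^ 2 * s6 = (b6 ^ k) ^ 2 := by decide +kernel

theorem jobXM10 : JobXM10.{u} := by
  intro H K _ _ _ f N c hk hN ⟨e⟩ hC h6
  obtain ⟨θ, hθ, hn, -⟩ := H95.OC.setup N e hC
  have h2 : ∀ σ : A6, H95.OC.cN 6 σ ∈ θ.range := fun σ =>
    ⟨e.symm σ, by rw [hn, e.apply_symm_apply, H95.OC.conj_eq]⟩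
  refine eq_top_iff.2 fun h _ => ?_
  obtain ⟨y, hy⟩ := conj_b (θ h)
  obtain ⟨g, hg⟩ : ∃ g : K, g = (e.symm y⁻¹ : N) * h := ⟨_, rfl⟩
  have g1 : θ g b6 = b6 := by
    rw [hg, map_mul, hn, e.apply_symm_apply, MulAut.mul_apply, hy, MulAut.conj_apply]
    group
  rw [← N.mul_mem_cancel_left (e.symm y⁻¹).2, ← hg]
  rcases aut_b _ g1 with ⟨π, hπ⟩ | ⟨k, k1, k2⟩
  · by_cases k : π ∈ alternatingGroup (Fin 6)
    · have : θ (e.symm ⟨π, k⟩ : N) = θ g := by rw [hn, e.apply_symm_apply, H95.OC.conj_eq, ← hπ]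
      exact hθ this ▸ (e.symm ⟨π, k⟩).2
    · obtain ⟨w, hw⟩ := H95.OC.all_of_odd h2 k ⟨g, hπ.symm⟩ (c[0, 1, 2] * c[3, 4])
      refine absurd ?_ (h6 w)
      rw [← orderOf_injective θ hθ, hw,
        orderOf_injective (H95.OC.cN 6) (H86.conjNormal_injective (α := Fin 6) (by simp))]
      exact (orderOf_eq_iff (by norm_num)).2 (by decide +kernel)
  · haveI : Fact (Nat.Prime 5) := ⟨Nat.prime_five⟩
    obtain ⟨r1, r2, r3⟩ := s6_rel
    obtain ⟨r3, r4⟩ := r3 k k1
    have k3 : g ^ 2 = (e.symm (b6 ^ k) : N) := hθ (by rw [hn, e.apply_symm_apply, map_pow, k2])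
    refine absurd (no8 c (g := g) (s := (e.symm s6 : N)) ?_ ?_ ?_) hk
    · rw [Subgroup.orderOf_coe, e.symm.orderOf_eq, orderOf_eq_prime r1 r2]
    · rw [show 8 = 2 * 4 from rfl, pow_mul, k3, ← Subgroup.coe_pow, ← map_pow, r3, map_one,
        Subgroup.coe_one]
    · rw [show 4 = 2 * 2 from rfl, pow_mul, k3, ← Subgroup.coe_pow, ← map_pow, ← Subgroup.coe_mul,
        ← Subgroup.coe_mul, ← map_mul, ← map_mul, r4]

end H89.XM10
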