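import Cfsg.Agent.H89.ON2Kit
import Cfsg.Agent.H98.Coprime

/-! ON2, job A2: the normaliser of `B` in `P`. -/

set_option autoImplicit false
set_option linter.unusedSectionVars false

namespace H89.ON2

open MulAction Cfsg Subgroup H89.K H98

universe u

namespace S2

variable {G Ω : Type u} [Group G] [Finite G] [MulAction G Ω] {N : Ω → Subgroup G} {a b : Ω}
  {R R' P : Subgroup G} {s : G} (d : S2 N a b R R' P s)
include d

theorem a_rw : R ≤ Wn R R' P := fun _ h => ⟨d.le h, le_normalizer (d.rB h)⟩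

theorem a_wne (hne : R ≠ P) : ∃ w ∈ Wn R R' P, w ∉ R := by
  haveI : Fact (Nat.Prime 2) := ⟨Nat.prime_two⟩
  have hlt : R ⊔ R' < P ⊔ R' := lt_of_le_of_ne d.BT fun e => hne (le_antisymm d.le fun w hw =>
    d.bn w (e.ge (mem_sup_left hw)) (d.mP hw))
  obtain ⟨x, ⟨hx, hn⟩, hB⟩ := SetLike.exists_of_lt (lt_inf_normalizer d.pT hlt)
  obtain ⟨w, hw, l, hl, rfl⟩ := d.decW hx hn
  exact ⟨w, hw, fun h => hB (mul_mem_sup h hl)⟩

theorem a_sq {w l r : G} (e : w * l * w⁻¹ = r * l) :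
    w * w * l * (w * w)⁻¹ = w * r * w⁻¹ * r * l := by
  calc _ = w * (w * l * w⁻¹) * w⁻¹ := by group
    _ = w * r * w⁻¹ * (w * l * w⁻¹) := by rw [conj_mul, ← e]
    _ = _ := by rw [e]; group

theorem a_wsq {w : G} (hw : w ∈ Wn R R' P) : w * w ∈ R := by
  haveI : Fact (Nat.Prime 2) := ⟨Nat.prime_two⟩
  by_cases h : w ∈ R
  · exact mul_mem h h
  obtain ⟨r, ⟨hr, hc⟩, r1⟩ := (bot_or_exists_ne_one _).resolve_left (inf_centralizer_ne_bot
    d.sylR.isPGroup (d.sylP.isPGroup.to_le (zpowers_le.2 hw.1))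
    (zpowers_le.2 (d.nR w (d.mP hw.1) hw.2).1) d.rne)
  obtain ⟨k, hk⟩ := isPGroup_iff_forall.1 d.sylR.isPGroup r hr
  have c : w * r = r * w := mem_centralizer_iff.1 hc w (mem_zpowers w)
  clear hc
  induction k generalizing r with
  | zero => exact absurd (by simpa using hk) r1
  | succ k ih =>
    by_cases h2 : r * r = 1
    · obtain ⟨l, hl, e⟩ := d.surj w (d.mP hw.1) hw.2 (fun e => h (d.pk w hw.1 e)) r hr
      refine d.cP hl (fun l1 => r1 (by simpa [l1] using e.symm)) (mul_mem hw.1 hw.1) ?_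
      rw [← mul_inv_eq_iff_eq_mul, d.a_sq e, c, mul_inv_cancel_right, h2, one_mul]
    · exact ih (r * r) h2 (mul_mem hr hr) (by rw [← sq, ← pow_mul, ← pow_succ', hk])
        (Commute.mul_right c c).eq

theorem a_winv {w : G} (hw : w ∈ Wn R R' P) (h : w ∉ R) {r : G} (hr : r ∈ R) :
    w * r * w⁻¹ = r⁻¹ := by
  obtain ⟨l, hl, e⟩ := d.surj w (d.mP hw.1) hw.2 (fun e => h (d.pk w hw.1 e)) r hr
  have := d.a_sq e
  rw [d.cRL (d.a_wsq hw) hl, mul_inv_cancel_right, right_eq_mul] at this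
  exact eq_inv_of_mul_eq_one_left this

theorem a_sq' (el : ∀ r ∈ R, r * r = 1) {w : G} (hw : w ∈ Wn R R' P) {c : G} (hc : c ∈ X N a b)
    (hcR : ∀ r ∈ R, c * r = r * c) (h : w * c * (w * c) ∈ R) : w * c * (w * c) = w * w := by
  haveI : Fact (Nat.Prime 2) := ⟨Nat.prime_two⟩
  have wR : ∀ r ∈ R, w * r = r * w := fun r hr => by
    by_cases h : w ∈ R
    · exact d.cRR h hr
    · have := d.a_winv hw h hr
      rwa [inv_eq_of_mul_eq_one_right (el r hr), mul_inv_eq_iff_eq_mul] at this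
  set C := X N a b ⊓ centralizer (R : Set G) with hC
  have cC : c ∈ C := ⟨hc, mem_centralizer_iff.2 fun r hr => (hcR r hr).symm⟩
  have wc : w ∈ centralizer (R : Set G) := mem_centralizer_iff.2 fun r hr => (wR r hr).symm
  have RC : R ≤ C := fun r hr => ⟨d.mR hr, mem_centralizer_iff.2 fun x hx => d.cRR hx hr⟩
  have inR : ∀ x ∈ C, (∃ k, x ^ 2 ^ k = 1) → x ∈ R := fun x hx ⟨k, hk⟩ =>
    d.sylR.le_of_le_normalizer' (isPGroup_zpowers hk) (zpowers_le.2 hx.1)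
      (zpowers_le.2 (centralizer_le_normalizer _ hx.2)) (mem_zpowers x)
  have x4 : (w * c) ^ 2 ^ 2 = 1 := by rw [← el _ h]; simp [pow_succ, mul_assoc]
  by_cases hR : w ∈ R
  · rw [el w hR, el _ (inR _ (mul_mem (RC hR) cC) ⟨2, x4⟩)]
  obtain ⟨l, hl, l1⟩ := d.exists_l
  have wN : w ∈ normalizer (C : Set G) := mem_normalizer_of_cj_le (by
    rintro _ ⟨x, hx, rfl⟩
    have m := d.tI.conj_of_fix (d.fix a w (d.mP hw.1)) hx.1.1
    refine mem_inf.2 ⟨⟨m, (d.cH hl l1 m).1 ?_⟩, mul_mem (mul_mem wc hx.2) (inv_mem wc)⟩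
    obtain ⟨r, hr, e⟩ := (d.nR _ (inv_mem (d.mP hw.1)) (inv_mem hw.2)).2 l hl
    have c : x * (w⁻¹ * l * w⁻¹⁻¹) = w⁻¹ * l * w⁻¹⁻¹ * x := by
      rw [e, ← mul_assoc, ← mem_centralizer_iff.1 hx.2 r hr, mul_assoc,
        d.tI.comm d.hab hx.1 (d.mR' hl), mul_assoc]
    calc w * x * w⁻¹ * l = w * (x * (w⁻¹ * l * w⁻¹⁻¹)) * w⁻¹ := by group
      _ = _ := by rw [c]; group)
  have dec : ∀ y ∈ C ⊔ zpowers w, y ∈ C ∨ w⁻¹ * y ∈ C := fun y hy => by
    obtain ⟨_, ⟨i, rfl⟩, x, hx, rfl⟩ := (mem_sup_left_norm (zpowers_le.2 wN)).1 (sup_comm C _ ▸ hy)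
    have w2 : ∀ j : ℤ, w ^ (2 * j) ∈ C := fun j => by
      rw [zpow_mul, zpow_ofNat, sq]
      exact zpow_mem (RC (d.a_wsq hw)) j
    rcases Int.even_or_odd' i with ⟨j, rfl | rfl⟩
    · exact Or.inl (mul_mem (w2 j) hx)
    · right
      simpa [zpow_add_one, ← mul_assoc, (Commute.self_zpow w (2 * j)).symm.eq, add_comm,
        zpow_one_add] using mul_mem (w2 j) hx
  have Yc : C ⊔ zpowers w ≤ centralizer (R : Set G) := sup_le inf_le_right (zpowers_le.2 wc)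
  obtain ⟨S, hS, wS⟩ := exists_isSyl_le (H := C ⊔ zpowers w)
    (d.sylP.isPGroup.to_le (zpowers_le.2 hw.1)) le_sup_right
  obtain ⟨y, hy, ey⟩ := hS.exists_cj_le (isPGroup_zpowers x4)
    (zpowers_le.2 (mul_mem (mem_sup_right (mem_zpowers w)) (mem_sup_left cC)))
  have xS := ey (conj_mem_cj (mem_zpowers (w * c)))
  have yN : y ∈ normalizer (C : Set G) := sup_le le_normalizer (zpowers_le.2 wN) hy
  have m := (dec _ (hS.le xS)).resolve_left fun h' => hR (inR w ((mul_mem_cancel_right cC).1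
    ((mem_normalizer_iff.1 yN _).2 h')) (isPGroup_iff_forall.1 d.sylP.isPGroup w hw.1))
  have mR := inR _ m (isPGroup_iff_forall.1 hS.isPGroup _
    (mul_mem (inv_mem (wS (mem_zpowers w))) xS))
  have e1 : w * c * (w * c) = y * (w * c) * y⁻¹ * (y * (w * c) * y⁻¹) := by
    rw [conj_mul, ← mem_centralizer_iff.1 (Yc hy) _ h, mul_inv_cancel_right]
  rw [e1, ← mul_inv_cancel_left w (y * (w * c) * y⁻¹)]
  generalize w⁻¹ * (y * (w * c) * y⁻¹) = r at mR
  rw [mul_assoc, ← mul_assoc r, ← wR r mR, mul_assoc w r, el r mR, mul_one]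

end S2

theorem jobA2 : JobA2.{u} := fun _ _ _ _ _ _ _ _ _ _ _ _ d hne =>
  ⟨d, d.a_rw, d.a_wne hne, fun _ => d.a_wsq, fun _ hw h _ => d.a_winv hw h,
    fun el _ hw _ => d.a_sq' el hw⟩

end H89.ON2
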