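import Cfsg.Agent.H89.ON2Spec
import Cfsg.Agent.H89.ONanModel

/-! Assembly of the ON2 tower. -/

set_option autoImplicit false

namespace H89.ON2

open MulAction Cfsg Subgroup H89.K H98

universe u v

structure Jobs : Prop where
  main : H7.HKS.Main.{u}
  red : JobRed.{u}
  even : JobEven.{u}
  odd : JobOdd.{u}
  kev : JobKev.{u}
  ln : JobLn.{u}
  geo2 : JobGeo2.{u}
  geo1 : JobGeo1.{u}
  l3 : JobL3.{u}
  t1a : JobT1a.{u}
  t1b : JobT1b.{u}
  phi : JobPhi.{u}
  s2 : JobS2.{u}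
  b2 : JobB2.{u}
  a2 : JobA2.{u}
  q2 : JobQ2.{u}
  wl1 : JobWL1.{u}
  wl2 : JobWL2.{u}
  wne : JobWNE.{u}
  we1 : JobWE1.{u}
  we2 : JobWE2.{u}
  we3 : JobWE3.{u}

section

variable {G Ω : Type u} [Group G] [Finite G] [MulAction G Ω] {N F : Ω → Subgroup G}

theorem not_fz (J : Jobs.{u}) {p : ℕ} (h : FZ N F p) : False := by
  have l := J.ln G Ω N F p h
  haveI := h.t2.finite
  obtain ⟨a, b, -, hab, -⟩ := h.t2.big
  have two : ∀ c d : Ω, c ≠ d → Ln N c d = {c, d} := by
    intro c d hcd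
    have h3 := J.geo1 J.geo2 G Ω N F p c d l hcd
    have hs : ({c, d} : Set Ω) ⊆ Ln N c d := by
      rintro e (rfl | rfl)
      · exact h.left_mem _ _
      · exact TI.right_mem _ _
    have hne : (Ln N c d).ncard ≠ 3 := J.l3 G Ω N F p c d l hcd
    refine (Set.eq_of_subset_of_ncard_le hs ?_ (Set.toFinite _)).symm
    rw [Set.ncard_pair hcd]
    omega
  have key : ∀ {c d e : Ω}, d ≠ c → e ≠ c → ∃ f ∈ F c, f • d = e := by
    intro c d e hd he
    obtain ⟨x, hx, xc, f, hf, rfl⟩ := l.tr hd.symm e he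
    rw [two c d hd.symm] at hx
    rcases hx with rfl | rfl
    · exact absurd rfl xc
    · exact ⟨f, hf, rfl⟩
  have rg : H7.HKS.Rg F :=
    { t2 := h.t2
      fix := fun c u hu => h.fix c u (h.le c hu)
      conj := h.fconj
      nil := h.nil
      tr := key
      reg := fun _ _ hb u hu => h.reg hb u hu
      odd := h.odd }
  obtain ⟨E, _, _, x, y, A, B, d⟩ := J.t1a J.main G Ω F a b rg h.naff hab
  exact J.t1b G Ω N F p a b E x y A B l rg hab (two a b hab) d

theorem not_ev (J : Jobs.{u}) (h : Ev N) : False := by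
  obtain ⟨a, b, -, hab, -⟩ := h.t2.big
  obtain ⟨R, R', P, s, d⟩ := J.s2 J.phi G Ω N a b h hab
  by_cases hP : R = P
  · subst hP
    exact J.b2 G Ω N a b R R' s d
  have e := J.a2 G Ω N a b R R' P s d hP
  by_cases h2 : Nat.card R = 2
  · exact J.q2 J.phi G Ω N a b R R' P s e h2
  have h4 : 4 ≤ Nat.card R := by
    haveI : Fact (Nat.Prime 2) := ⟨Nat.prime_two⟩
    obtain ⟨n, hn⟩ := IsPGroup.iff_card.1 d.sylR.isPGroup
    have h1 : Nat.card R ≠ 1 := fun h1 => d.rne (card_eq_one.1 h1)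
    rw [hn] at h1 h2 ⊢
    match n, h1, h2 with
    | 0, h1, _ => exact absurd rfl h1
    | 1, _, h2 => exact absurd rfl h2
    | n + 2, _, _ =>
      have := Nat.one_le_two_pow (n := n)
      rw [pow_add]
      omega
  by_cases hW : Wn R R' P = P
  · by_cases hel : ∀ r ∈ R, r * r = 1
    · exact J.we3 G Ω N a b R R' P s e hW hel h4 (J.we1 G Ω N a b R R' P s e hW hel)
        (J.we2 G Ω N a b R R' P s e hW hel)
    · push Not at hel
      exact J.wne G Ω N a b R R' P s e hW hel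
  · obtain ⟨t, w⟩ := J.wl1 G Ω N a b R R' P s e h4 hW
    exact J.wl2 G (N a) R _ P t (h.perf a) d.sylP w

theorem not_min (J : Jobs.{u}) (h : Min N) : False := by
  obtain ⟨F, b0⟩ := J.red G Ω N h
  obtain ⟨a, b, -, hab, -⟩ := h.t2.big
  rcases Nat.even_or_odd (Nat.card (X N a b)) with hK | hK
  · rcases J.kev G Ω N F b0 (fun c d hcd => h.card_X hab hcd ▸ hK) with z | z
    · exact not_fz J z
    · exact not_ev J z
  rcases Nat.even_or_odd (Nat.card (N a)) with hH | hH
  · exact J.even G Ω N a b h.toTI hab hK hH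
  · obtain ⟨p, z⟩ := J.odd G Ω N F b0 fun c => h.card_N a c ▸ hH
    exact not_fz J z

end

section Fam

variable {G : Type*} {Ω : Type*} [Group G] [MulAction G Ω]

/-- The family generated by an invariant subgroup of a point stabiliser. -/
def fam (a : Ω) (M : Subgroup G) (z : Ω) : Subgroup G where
  carrier := {u | ∀ g : G, g • z = a → g * u * g⁻¹ ∈ M}
  one_mem' := fun g _ => by simpa using M.one_mem
  mul_mem' := fun ha hb g hg => by simpa [mul_assoc] using M.mul_mem (ha g hg) (hb g hg)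
  inv_mem' := fun ha g hg => by simpa [mul_assoc] using M.inv_mem (ha g hg)

theorem fam_self {a : Ω} {M : Subgroup G} (hM : stabilizer G a ≤ normalizer (M : Set G)) :
    fam a M a = M :=
  le_antisymm (fun u hu => by simpa using hu 1 (one_smul G a))
    fun u hu g hg => (mem_normalizer_iff.1 (hM hg) u).1 hu

theorem fam_conj (a : Ω) (M : Subgroup G) (g : G) (z : Ω) (u : G) (hu : u ∈ fam a M z) :
    g * u * g⁻¹ ∈ fam a M (g • z) := fun k hk => by
  simpa [mul_assoc] using hu (k * g) (by rwa [mul_smul])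

theorem ti_fam (t2 : T2 G Ω) {a b : Ω} {M : Subgroup G} (hab : a ≠ b) (hle : M ≤ stabilizer G a)
    (hM : stabilizer G a ≤ normalizer (M : Set G))
    (hti : ∀ g : G, g • a ≠ a → ∀ u ∈ M, g * u * g⁻¹ ∈ M → u = 1)
    (hne : M ⊓ stabilizer G b ≠ ⊥) : TI (fam a M) where
  t2 := t2
  fix := fun z u hu => by
    obtain ⟨g, rfl⟩ := t2.trans z a
    have := hle (hu g rfl)
    simpa [mul_smul] using this
  conj := fam_conj a M
  ti := fun {c d} hcd u hc hd => by
    obtain ⟨g, rfl⟩ := t2.trans c a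
    obtain ⟨k, hk⟩ := t2.trans d (g • c)
    have := hti (k * g⁻¹) (by
      rw [mul_smul, inv_smul_smul, ← hk]
      exact fun e => hcd (smul_left_cancel k e)) _ (hc g rfl) (by simpa [mul_assoc] using hd k hk)
    simpa using this
  ne := fun {c d} hcd h0 => by
    obtain ⟨g, rfl, rfl⟩ := t2.two hab hcd
    obtain ⟨k, hk, k1⟩ := (bot_or_exists_ne_one _).resolve_left hne
    have : g * k * g⁻¹ ∈ X (fam a M) (g • a) (g • b) :=
      ⟨fam_conj a M g a k ((fam_self hM).ge hk.1), by simpa [mul_smul] using hk.2⟩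
    rw [h0, mem_bot] at this
    exact k1 (by simpa using this)

end Fam

/-- A TI family which is not semiregular contains an abelian one. -/
theorem exists_ab (J : Jobs.{u}) {G Ω : Type u} [Group G] [Finite G] [MulAction G Ω]
    {N : Ω → Subgroup G} (h : TI N) {a b : Ω} (hab : a ≠ b) : ∃ A : Subgroup G, A ≤ N a ∧
      stabilizer G a ≤ normalizer (A : Set G) ∧ A ⊓ stabilizer G b ≠ ⊥ ∧
      ∀ x ∈ A, ∀ y ∈ A, x * y = y * x := by
  obtain ⟨A, ⟨h1, h2, h3⟩, hmin⟩ := (wellFounded_lt (α := Subgroup G)).has_min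
    {A | A ≤ N a ∧ stabilizer G a ≤ normalizer (A : Set G) ∧ A ⊓ stabilizer G b ≠ ⊥}
    ⟨N a, le_rfl, h.stab_le a, h.ne hab⟩
  refine ⟨A, h1, h2, h3, ?_⟩
  by_contra hn
  push Not at hn
  have t : TI (fam a A) := ti_fam h.t2 hab (h1.trans (h.le_stab a)) h2
    (fun g hg u hu hu' => by
      have := h.ti hg _ (h.conj g a u (h1 hu)) (h1 hu')
      simpa using this) h3
  refine not_min J (N := fam a A) ⟨t, fun {c d} M hcd hM hMn hMd => ?_, fun c => ?_⟩
  · obtain ⟨g, rfl, rfl⟩ := h.t2.two hab hcd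
    have e1 : cj g A = fam a A (g • a) := by rw [← t.cj_N, fam_self h2]
    have hle : cj g⁻¹ M ≤ A := by
      rintro _ ⟨u, hu, rfl⟩
      simpa using hM hu g⁻¹ (inv_smul_smul g a)
    have : ¬ cj g⁻¹ M < A := by
      refine hmin _ ⟨hle.trans h1, fun k hk => ?_, fun h0 => hMd ?_⟩
      · have hk' : g * k * g⁻¹ ∈ normalizer (M : Set G) :=
          hMn (by simpa [mul_smul] using hk)
        refine mem_normalizer_iff.2 fun u => ?_
        have := mem_normalizer_iff.1 hk' (g * u * g⁻¹)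
        simp only [SetLike.mem_coe, mem_cj, inv_inv] at this ⊢
        simpa [mul_assoc] using this
      · rw [eq_bot_iff]
        intro u hu
        have : g⁻¹ * u * g ∈ cj g⁻¹ M ⊓ stabilizer G b :=
          ⟨⟨u, hu.1, by simp⟩, by simpa [mul_smul, inv_smul_eq_iff] using hu.2⟩
        rw [h0, mem_bot] at this
        rw [mem_bot]
        simpa [mul_assoc] using congrArg (fun z => g * z * g⁻¹) this
    have e2 : cj g⁻¹ M = A := hle.eq_of_not_lt this
    rw [← e1, ← e2, cj_cj]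
    simp
  · obtain ⟨x, hx, y, hy, hxy⟩ := hn
    obtain ⟨g, rfl⟩ := h.t2.trans a c
    refine ⟨_, fam_conj a A g a x ((fam_self h2).ge hx), _,
      fam_conj a A g a y ((fam_self h2).ge hy), fun e => hxy ?_⟩
    simpa [mul_assoc] using congrArg (fun z => g⁻¹ * z * g) e

/-- The abelian subgroup in the form of the statement, for arbitrary universes. -/
theorem exists_ab' (J : Jobs.{u}) {G : Type u} {Ω : Type v} [Group G] [Finite G] [MulAction G Ω]
    (t2 : T2 G Ω) {a b : Ω} (hab : a ≠ b) {M : Subgroup G} (hle : M ≤ stabilizer G a)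
    (hM : stabilizer G a ≤ normalizer (M : Set G))
    (hti : ∀ g : G, g • a ≠ a → ∀ u ∈ M, g * u * g⁻¹ ∈ M → u = 1)
    (hne : M ⊓ stabilizer G b ≠ ⊥) : ∃ A : Subgroup G, A ≤ M ∧
      stabilizer G a ≤ normalizer (A : Set G) ∧ A ⊓ stabilizer G b ≠ ⊥ ∧
      ∀ x ∈ A, ∀ y ∈ A, x * y = y * x := by
  let φ : G ⧸ stabilizer G a → Ω := ofQuotientStabilizer G a
  have inj : Function.Injective φ := injective_ofQuotientStabilizer G a
  have sm : ∀ (g : G) (c : G ⧸ stabilizer G a), φ (g • c) = g • φ c :=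
    ofQuotientStabilizer_smul G a
  have sur : ∀ c, ∃ c', φ c' = c := fun c => by
    obtain ⟨g, rfl⟩ := t2.trans a c
    exact ⟨(g : G ⧸ stabilizer G a), rfl⟩
  have iff : ∀ (g : G) (c d : G ⧸ stabilizer G a), g • c = d ↔ g • φ c = φ d := fun g c d => by
    rw [← sm, inj.eq_iff]
  have st : ∀ c, stabilizer G c = stabilizer G (φ c) := fun c => by
    ext g
    simp only [mem_stabilizer_iff, iff]
  have t2' : T2 G (G ⧸ stabilizer G a) :=
    { faith := fun g hg => t2.faith g fun c => by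
        obtain ⟨c, rfl⟩ := sur c
        exact (iff g c c).1 (hg c)
      two := fun hc hd => by
        simp only [iff]
        exact t2.two (inj.ne hc) (inj.ne hd)
      big := by
        obtain ⟨c, d, e, h1, h2, h3⟩ := t2.big
        obtain ⟨c, rfl⟩ := sur c
        obtain ⟨d, rfl⟩ := sur d
        obtain ⟨e, rfl⟩ := sur e
        exact ⟨c, d, e, fun x => h1 (x ▸ rfl), fun x => h2 (x ▸ rfl), fun x => h3 (x ▸ rfl)⟩ }
  obtain ⟨a', ha⟩ := sur a
  obtain ⟨b', hb⟩ := sur b
  have hab' : a' ≠ b' := fun x => hab (by rw [← ha, ← hb, x])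
  have sa : stabilizer G a' = stabilizer G a := by rw [st, ha]
  have sb : stabilizer G b' = stabilizer G b := by rw [st, hb]
  have hM' : stabilizer G a' ≤ normalizer (M : Set G) := sa.le.trans hM
  have t := ti_fam t2' hab' (hle.trans sa.ge) hM' (fun g hg => hti g fun x => hg (by
    rw [iff, ha]; exact x)) (by rwa [sb])
  obtain ⟨A, h1, h2, h3, h4⟩ := exists_ab J t hab'
  rw [fam_self hM'] at h1
  rw [sb] at h3
  exact ⟨A, h1, sa.ge.trans h2, h3, h4⟩

theorem s2201_of (J : Jobs.{u}) {G : Type u} {X : Type v} [Group G] [Finite G] [Fintype X]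
    [MulAction G X] [FaithfulSMul G X] (h2 : IsMultiplyPretransitive G X 2) (x : X)
    (N : Subgroup G) (hNle : N ≤ stabilizer G x)
    (hNn : ∀ g ∈ stabilizer G x, ∀ n ∈ N, g * n * g⁻¹ ∈ N)
    (hTI : ∀ g : G, N.map (MulAut.conj g).toMonoidHom = N ∨
      N.map (MulAut.conj g).toMonoidHom ⊓ N = ⊥)
    (hnsr : ∃ n ∈ N, n ≠ 1 ∧ ∃ y : X, y ≠ x ∧ n • y = y) :
    ∃ (L : Subgroup G) (F : Type) (_ : Field F) (_ : Fintype F) (n : ℕ), 3 ≤ n ∧ L.Normal ∧
      centralizer (L : Set G) = ⊥ ∧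
      Nonempty (L ≃* Matrix.ProjectiveSpecialLinearGroup (Fin n) F) ∧
      Fintype.card X * (Fintype.card F - 1) = Fintype.card F ^ n - 1 := by
  obtain ⟨n, hn, n1, y, hy, ny⟩ := hnsr
  have two : ∀ {a b c d : X}, a ≠ b → c ≠ d → ∃ g : G, g • a = c ∧ g • b = d :=
    is_two_pretransitive_iff.1 h2
  have faith : ∀ g : G, (∀ c : X, g • c = c) → g = 1 := fun g hg =>
    eq_of_smul_eq_smul (α := X) fun c => by rw [hg, one_smul]
  have t2 : T2 G X := by
    refine ⟨faith, two, ?_⟩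
    by_contra hb
    refine n1 (faith n fun c => ?_)
    by_contra hc
    exact hb ⟨x, y, c, hy.symm, fun e => hc (e ▸ ny), fun e => hc (e ▸ hNle hn)⟩
  have hM : stabilizer G x ≤ normalizer (N : Set G) := fun g hg =>
    mem_normalizer_iff.2 fun u => ⟨hNn g hg u, fun hu => by
      simpa [mul_assoc] using hNn g⁻¹ (inv_mem hg) _ hu⟩
  obtain ⟨A, h1, h3, h4, h5⟩ := exists_ab' J t2 hy.symm hNle hM (fun g hg u hu hu' => by
    rcases hTI g with e | e
    · exfalso
      refine n1 (faith n fun c => ?_)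
      by_cases hc : c = x
      · exact hc ▸ hNle hn
      obtain ⟨k, kx, kc⟩ := two (Ne.symm hg) (Ne.symm hc)
      have m : k⁻¹ * n * k⁻¹⁻¹ ∈ N := hNn _ (inv_mem kx) n hn
      rw [← e] at m
      obtain ⟨w, hw, ew⟩ := m
      have : (k⁻¹ * n * k⁻¹⁻¹) • g • x = g • x := by
        rw [← ew]
        simpa [mul_smul] using hNle hw
      rw [← kc]
      simpa [mul_smul, inv_smul_eq_iff] using this
    · have : g * u * g⁻¹ ∈ N.map (MulAut.conj g).toMonoidHom ⊓ N := ⟨⟨u, hu, rfl⟩, hu'⟩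
      rw [e, mem_bot] at this
      simpa using this) (fun h0 => n1 (by
        have : n ∈ N ⊓ stabilizer G y := ⟨hn, ny⟩
        rwa [h0, mem_bot] at this))
  obtain ⟨k, hk, k1⟩ := (bot_or_exists_ne_one _).resolve_left h4
  rw [← Nat.card_eq_fintype_card (α := X)]
  exact H89.onan_psl h2 x A (h1.trans hNle)
    (fun g hg u hu => (mem_normalizer_iff.1 (h3 hg) u).1 hu) h5 ⟨k, hk.1, k1, y, hy, hk.2⟩

end H89.ON2
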