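import Cfsg.Agent.H89.ON2Kit
import Cfsg.Agent.H98.Coprime
import Cfsg.Agent.H98.Norm
import Cfsg.Agent.H34.TameGrp
import Cfsg.Agent.H7.Frobenius

/-! ON2, job Q2: Sylow `2`-subgroups of the two-point stabiliser of order two. -/

set_option autoImplicit false
set_option linter.unusedSectionVars false

namespace H89.ON2

open MulAction Cfsg Subgroup H89.K H98

universe u

section General

variable {G : Type*} [Group G]

theorem pow_mul_dec {H : Subgroup G} {x l : G} (hx : x ∈ H) (hl : l ∈ normalizer (H : Set G))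
    (n : ℕ) : (x * l) ^ n * (l ^ n)⁻¹ ∈ H := by
  induction n with
  | zero => simp
  | succ n ih =>
    have : (x * l) ^ (n + 1) * (l ^ (n + 1))⁻¹ = x * (l * ((x * l) ^ n * (l ^ n)⁻¹) * l⁻¹) := by
      rw [pow_succ' (x * l), pow_succ' l]
      group
    exact this ▸ mul_mem hx (conj_mem_of_mem_normalizer hl ih)

theorem exists_odd_pow [Finite G] (g : G) : ∃ m k : ℕ, Odd m ∧ (g ^ m) ^ 2 ^ k = 1 := by
  obtain ⟨k, m, hm, e⟩ := Nat.exists_eq_two_pow_mul_odd (orderOf_pos g).ne'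
  exact ⟨m, k, hm, by rw [← pow_mul, mul_comm, ← e, pow_orderOf_eq_one]⟩

theorem pow_conj_left {g y e : G} (h : g * y * g⁻¹ = e * y) (c : g * e = e * g) (n : ℕ) :
    g ^ n * y * (g ^ n)⁻¹ = e ^ n * y := by
  induction n with
  | zero => simp
  | succ n ih =>
    have c' : g * e ^ n = e ^ n * g := (Commute.pow_right c n).eq
    calc _ = g * (g ^ n * y * (g ^ n)⁻¹) * g⁻¹ := by rw [pow_succ']; group
      _ = g * e ^ n * y * g⁻¹ := by rw [ih]; group
      _ = e ^ n * (g * y * g⁻¹) := by rw [c']; group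
      _ = _ := by rw [h, pow_succ]; group

/-- A normal `2`-complement as a subgroup of the ambient group. -/
theorem exists_compl [Finite G] {Xo P : Subgroup G} (hP : IsSyl 2 P Xo)
    (h : ∀ Q ≤ P, ∀ g ∈ Xo, g ∈ normalizer (Q : Set G) → Odd (orderOf g) →
      ∀ y ∈ Q, g * y = y * g) :
    ∃ Y : Subgroup G, Y ≤ Xo ∧ Xo ≤ normalizer (Y : Set G) ∧ Odd (Nat.card Y) ∧
      ∀ x ∈ Xo, Odd (orderOf x) → x ∈ Y := by
  haveI : Fact (Nat.Prime 2) := ⟨Nat.prime_two⟩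
  obtain ⟨S, hS⟩ := hP.exists_sylow
  obtain ⟨S', Y, hY, hc⟩ := H7.hasNPC_of_normalizer_centralizer_sylow S fun Q hQ _ g hg ho => by
    refine mem_centralizer_iff.2 fun y hy => Subtype.ext ?_
    refine (h (Q.map Xo.subtype) ?_ g g.2 (le_normalizer_map _ ⟨g, hg, rfl⟩) ?_ y
      ⟨y, hy, rfl⟩).symm
    · rintro _ ⟨q, hq, rfl⟩
      have := hQ hq
      rwa [hS] at this
    · rw [Subgroup.orderOf_coe]
      exact Nat.coprime_two_right.1 ho
  refine ⟨Y.map Xo.subtype, map_subtype_le _, le_normalizer_map_subtype Y, ?_, fun x hx ho => ?_⟩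
  · rw [card_map_of_injective Xo.subtype_injective, ← hc.index_eq_card]
    exact Nat.odd_iff.2 (Nat.two_dvd_ne_zero.1 S'.not_dvd_index)
  · refine ⟨⟨x, hx⟩, ?_, rfl⟩
    have hq : IsPGroup 2 (Xo ⧸ Y) := by
      obtain ⟨k, hk⟩ := IsPGroup.iff_card.1 S'.isPGroup'
      exact IsPGroup.of_card (n := k) (by rw [← hk, ← hc.symm.index_eq_card]; rfl)
    refine (QuotientGroup.eq_one_iff _).1 (H7.eq_one_of_isPGroup_of_coprime hq
      (Nat.Coprime.coprime_dvd_left (orderOf_map_dvd (QuotientGroup.mk' Y) _) ?_))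
    rw [orderOf_mk]
    exact Nat.coprime_two_right.2 ho

end General

/-- The data of the case `|R| = 2`. -/
structure Q2 {G Ω : Type*} [Group G] [MulAction G Ω] (N : Ω → Subgroup G) (a b : Ω)
    (R R' P : Subgroup G) (s r l h : G) : Prop extends A2 N a b R R' P s where
  mr : ∀ x, x ∈ R ↔ x = 1 ∨ x = r
  ml : ∀ x, x ∈ R' ↔ x = 1 ∨ x = l
  r1 : r ≠ 1
  l1 : l ≠ 1
  sl : s * r * s⁻¹ = l
  hW : h ∈ Wn R R' P
  hR : h ∉ R

namespace Q2

variable {G Ω : Type u} [Group G] [Finite G] [MulAction G Ω] {N : Ω → Subgroup G} {a b : Ω}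
  {R R' P : Subgroup G} {s r l h : G} (d : Q2 N a b R R' P s r l h)
include d

theorem s2 : S2 N a b R R' P s := d.toA2.toS2

theorem rR : r ∈ R := (d.mr r).2 (Or.inr rfl)

theorem lR : l ∈ R' := (d.ml l).2 (Or.inr rfl)

theorem rr : r * r = 1 :=
  ((d.mr _).1 (mul_mem d.rR d.rR)).resolve_right fun e => d.r1 (by simpa using e)

theorem ll : l * l = 1 :=
  ((d.ml _).1 (mul_mem d.lR d.lR)).resolve_right fun e => d.l1 (by simpa using e)

theorem hl : h * l * h⁻¹ = r * l := by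
  obtain ⟨x, hx, e⟩ := (d.nR h (d.s2.mP d.hW.1) d.hW.2).2 l d.lR
  rcases (d.mr x).1 hx with rfl | rfl
  · exact absurd (d.s2.cP d.lR d.l1 d.hW.1 (by simpa [mul_inv_eq_iff_eq_mul] using e)) d.hR
  · exact e

theorem hr : h * r = r * h := by
  have := d.winv h d.hW d.hR r d.rR
  rwa [inv_eq_of_mul_eq_one_right d.rr, mul_inv_eq_iff_eq_mul] at this

omit d in
theorem mem_of_comm {S K : Subgroup G} {z x : G} (hS : IsSyl 2 S K) (hz : ∀ y, y ∈ S ↔ y = 1 ∨ y = z)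
    (hx : x ∈ K) {k : ℕ} (h2 : x ^ 2 ^ k = 1) (c : x * z = z * x) : x ∈ S := by
  refine hS.le_of_le_normalizer' (isPGroup_zpowers h2) (zpowers_le.2 hx)
    (zpowers_le.2 (centralizer_le_normalizer _ (mem_centralizer_iff.2 fun y hy => ?_)))
    (mem_zpowers x)
  rcases (hz y).1 hy with rfl | rfl
  · simp
  · exact c.symm

theorem caseA (hc : ∀ k ∈ X N a b, k * r = r * k) : False := by
  obtain ⟨g, hg, hne⟩ := d.o2 a r (d.s2.mR d.rR).1 d.rr d.r1
  have xN := d.s2.tI.conj_of_fix (d.fix a g hg) (d.s2.mR d.rR).1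
  have xx : g * r * g⁻¹ * (g * r * g⁻¹) = 1 := by rw [conj_mul, d.rr]; simp
  generalize g * r * g⁻¹ = x at hne xN xx
  have lN : l ∈ normalizer (N a : Set G) := d.s2.tI.stab_le a (d.s2.mR' d.lR).2
  have cK : ∀ y ∈ N a, y * l = l * y → y * r = r * y := fun y hy c =>
    hc y ⟨hy, (d.s2.cH d.lR d.l1 hy).1 c⟩
  have lp : ∀ n : ℕ, l ^ n = if Even n then 1 else l := fun n => by
    rcases Nat.even_or_odd' n with ⟨k, rfl | rfl⟩
    · simp [pow_mul, sq, d.ll]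
    · simp [pow_succ, pow_mul, d.ll]
  obtain ⟨k, hk⟩ : Even (orderOf (x * l)) := by
    by_contra ho
    have := pow_mul_dec xN lN (orderOf (x * l))
    rw [pow_orderOf_eq_one, lp, if_neg ho, one_mul, inv_mem_iff] at this
    exact d.l1 (d.s2.l_one d.lR this)
  have cc : (x * l) ^ k * (x * l) ^ k = 1 := by rw [← pow_add, ← hk, pow_orderOf_eq_one]
  have c1 : (x * l) ^ k ≠ 1 := pow_ne_one_of_lt_orderOf
    (by have := orderOf_pos (x * l); omega) (by have := orderOf_pos (x * l); omega)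
  have cl : (x * l) ^ k * l = l * (x * l) ^ k := by
    have e : l * (x * l) * l⁻¹ = (x * l)⁻¹ := by
      rw [mul_inv_rev, inv_eq_of_mul_eq_one_right xx, inv_eq_of_mul_eq_one_right d.ll, mul_assoc,
        mul_assoc, d.ll, mul_one]
    rw [← mul_inv_eq_iff_eq_mul.1 (show l * (x * l) ^ k * l⁻¹ = (x * l) ^ k by
      rw [← conj_pow, e, inv_pow, inv_eq_of_mul_eq_one_right cc])]
  have cx : x * (x * l) ^ k = (x * l) ^ k * x := by
    have c2 : x * l * (x * l) ^ k = (x * l) ^ k * (x * l) := (Commute.self_pow _ k).eq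
    rw [mul_assoc, ← cl, ← mul_assoc, ← mul_assoc, mul_left_inj] at c2
    exact c2
  have dec := pow_mul_dec xN lN k
  generalize (x * l) ^ k = c at cc c1 cl cx dec
  rw [lp] at dec
  split_ifs at dec with hk2
  · rw [inv_one, mul_one] at dec
    have := mem_of_comm d.sylR d.mr ⟨dec, (d.s2.cH d.lR d.l1 dec).1 cl⟩ (k := 1)
      (by simpa [sq] using cc) (cK c dec cl)
    rw [((d.mr c).1 this).resolve_left c1] at cx
    exact hne cx.symm
  · have wl : c * l⁻¹ * l = l * (c * l⁻¹) := by rw [← mul_assoc, ← cl]; group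
    have := mem_of_comm d.sylR d.mr ⟨dec, (d.s2.cH d.lR d.l1 dec).1 wl⟩ (k := 1) (by
      rw [pow_one, sq, inv_eq_of_mul_eq_one_right d.ll, mul_assoc, ← mul_assoc l, ← cl,
        mul_assoc c l, d.ll, mul_one, cc]) (cK _ dec wl)
    rcases (d.mr _).1 this with e | e
    · rw [mul_inv_eq_one] at e
      exact hne (cK x xN (e ▸ cx)).symm
    · rw [mul_inv_eq_iff_eq_mul, ← d.hl] at e
      have hN := d.s2.mP d.hW.1
      have := cK (h⁻¹ * x * h) (mul_mem (mul_mem (inv_mem hN) xN) hN) (by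
        calc h⁻¹ * x * h * l = h⁻¹ * (x * (h * l * h⁻¹)) * h := by group
          _ = _ := by rw [← e, cx, e]; group)
      refine hne ?_
      calc r * x = h * (h⁻¹ * r) * x := by group
        _ = h * (r * (h⁻¹ * x * h)) * h⁻¹ := by
          rw [show h⁻¹ * r = r * h⁻¹ from (Commute.inv_left d.hr).eq]; group
        _ = x * (h * r) * h⁻¹ := by rw [← this]; group
        _ = _ := by rw [d.hr]; group

theorem exists_o (hc : ¬ ∀ k ∈ X N a b, k * r = r * k) : ∃ (p : ℕ) (o : G), p.Prime ∧ p ≠ 2 ∧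
    o ∈ X N b a ∧ orderOf o = p ∧ l * o * l⁻¹ = o⁻¹ := by
  push Not at hc
  obtain ⟨k, hk, hne⟩ := hc
  have yL : s * k * s⁻¹ ∈ X N b a := by simpa [d.sa, d.sb] using d.s2.tI.conj_X s hk
  have yl : s * k * s⁻¹ * l ≠ l * (s * k * s⁻¹) := fun e => hne (by
    rw [← d.sl, conj_mul, conj_mul] at e
    simpa using e)
  generalize s * k * s⁻¹ = y at yL yl
  have lL := d.s2.mR' d.lR
  have mL : y * l * y⁻¹ ∈ X N b a := mul_mem (mul_mem yL lL) (inv_mem yL)
  have mm : y * l * y⁻¹ * (y * l * y⁻¹) = 1 := by rw [conj_mul, d.ll]; simp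
  have m1 : y * l * y⁻¹ ≠ 1 := by simpa using d.l1
  have ml : y * l * y⁻¹ ≠ l := fun e => yl (mul_inv_eq_iff_eq_mul.1 e)
  generalize y * l * y⁻¹ = m at mL mm m1 ml
  have nc : m * l ≠ l * m := fun c => by
    rcases (d.ml m).1 (mem_of_comm d.sylR' d.ml mL (k := 1) (by simpa [sq] using mm) c) with e | e
    exacts [m1 e, ml e]
  have il := inv_eq_of_mul_eq_one_right d.ll
  have e1 : l * m ≠ 1 := fun e => ml ((eq_inv_of_mul_eq_one_right e).trans il)
  have ei : l * (l * m) * l⁻¹ = (l * m)⁻¹ := by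
    rw [← mul_assoc, d.ll, one_mul, mul_inv_rev, inv_eq_of_mul_eq_one_right mm]
  obtain ⟨p, hp, hd⟩ := Nat.exists_prime_and_dvd (mt orderOf_eq_one_iff.1 e1)
  have ho := orderOf_pow_orderOf_div (orderOf_pos (l * m)).ne' hd
  have oL := pow_mem (mul_mem lL mL) (orderOf (l * m) / p)
  have oi : l * (l * m) ^ (orderOf (l * m) / p) * l⁻¹ = ((l * m) ^ (orderOf (l * m) / p))⁻¹ := by
    rw [← conj_pow, ei, inv_pow]
  refine ⟨p, _, hp, ?_, oL, ho, oi⟩
  rintro rfl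
  have c := (Commute.self_pow (l * m) (orderOf (l * m) / 2)).eq
  generalize (l * m) ^ (orderOf (l * m) / 2) = o at ho oL oi c
  have oo : o ^ 2 = 1 := ho ▸ pow_orderOf_eq_one o
  rw [show o⁻¹ = o from inv_eq_of_mul_eq_one_right (sq o ▸ oo), mul_inv_eq_iff_eq_mul] at oi
  rcases (d.ml o).1 (mem_of_comm d.sylR' d.ml oL (k := 1) (by simpa using oo) oi.symm) with e | e
  · simp [e] at ho
  · rw [e, mul_assoc, mul_right_inj] at c
    exact nc c

theorem rT {x : G} (hx : x ∈ P ⊔ R') : x * r = r * x := by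
  haveI : Fact (Nat.Prime 2) := ⟨Nat.prime_two⟩
  obtain ⟨z, ⟨hz, hc⟩, z1⟩ := (bot_or_exists_ne_one _).resolve_left (inf_centralizer_ne_bot
    d.sylP.isPGroup d.s2.pT (sup_le le_normalizer d.nP) fun e => d.rne (eq_bot_iff.2 (e ▸ d.le)))
  have := d.s2.cP d.lR d.l1 hz (mem_centralizer_iff.1 hc l (mem_sup_right d.lR)).symm
  rw [← ((d.mr z).1 this).resolve_left z1]
  exact mem_centralizer_iff.1 hc x hx

theorem exists_x : ∃ x ∈ P, x * x = 1 ∧ x ≠ 1 ∧ x ≠ r := by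
  by_contra hn
  push Not at hn
  obtain ⟨g, hg, hne⟩ := d.o2 a r (d.s2.mR d.rR).1 d.rr d.r1
  have c := d.zc a (N a) P r le_rfl (d.s2.tI.le_stab a) d.sylP (d.le d.rR) d.rr fun g _ hg =>
    hn _ hg (by rw [conj_mul, d.rr]; simp) (by simpa using d.r1)
  exact hne (c _ (d.s2.tI.conj_of_fix (d.fix a g hg) (d.s2.mR d.rR).1))

theorem exists_c : ∃ c : G, IsPGroup 2 (zpowers c) ∧ r ∈ zpowers c ∧
    (∀ x ∈ P, ∀ y ∈ P, x ∉ zpowers c → y ∉ zpowers c → x * y ∈ zpowers c) ∧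
    (∀ x ∈ zpowers c, x * x = 1 → x = 1 ∨ x = r) ∧ ∀ y ∈ P, y ∉ zpowers c → y * y = 1 := by
  have lT : l ∈ P ⊔ R' := mem_sup_right d.lR
  have rT : r ∈ P ⊔ R' := mem_sup_left (d.le d.rR)
  obtain ⟨m, c, b0, q⟩ := H3.exists_dsq_of_card_centralizer d.s2.pT (fun hc => d.hR (d.s2.cP d.lR d.l1
    d.hW.1 (congrArg Subtype.val (hc.1.1 ⟨h, mem_sup_left d.hW.1⟩ ⟨l, lT⟩)))) (x := ⟨l, lT⟩) (by
      have h4 : Nat.card ↥(R ⊔ R') = 4 := by
        have : Nat.card R = 2 := (Nat.card_eq_two_iff' (1 : R)).2 ⟨⟨r, d.rR⟩,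
          fun e => d.r1 (congrArg Subtype.val e),
          fun y hy => Subtype.ext (((d.mr _).1 y.2).resolve_left fun e => hy (Subtype.ext e))⟩
        rw [d.s2.card_B, this]; rfl
      rw [← h4, ← card_map_of_injective (P ⊔ R').subtype_injective]
      congr 2
      ext x
      exact ⟨fun ⟨y, hy, e⟩ => e ▸ d.s2.cT d.lR d.l1 y.2
          (congrArg Subtype.val (mem_centralizer_singleton_iff.1 hy)),
        fun hx => ⟨⟨x, d.s2.BT hx⟩, mem_centralizer_singleton_iff.2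
          (Subtype.ext (d.abB _ hx _ (d.s2.lB d.lR))), rfl⟩⟩)
  have iff : ∀ x : ↥(P ⊔ R'), (x : G) ∈ zpowers (c : G) ↔ x ∈ zpowers c := fun x =>
    ⟨fun ⟨i, e⟩ => ⟨i, Subtype.ext (by simpa using e)⟩, fun ⟨i, e⟩ => ⟨i, by simp [← e]⟩⟩
  have two : ∀ x ∈ P ⊔ R', ∀ y ∈ P ⊔ R', x ∉ zpowers (c : G) → y ∉ zpowers (c : G) →
      x * y ∈ zpowers (c : G) := fun x hx y hy h1 h2 =>
    (iff (⟨x, hx⟩ * ⟨y, hy⟩)).2 (q.mul_mem_of_notMem (mt (iff _).2 h1) (mt (iff _).2 h2))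
  have zr : ((c ^ 2 ^ m : ↥(P ⊔ R')) : G) = r := by
    have := d.s2.cT d.lR d.l1 (c ^ 2 ^ m).2
      (congrArg Subtype.val (mem_center_iff.1 q.z_mem_center ⟨l, lT⟩)).symm
    have hc : (⟨r, rT⟩ : ↥(P ⊔ R')) ∈ zpowers (c ^ 2 ^ m) :=
      q.center_eq ▸ mem_center_iff.2 fun g => Subtype.ext (d.rT g.2)
    obtain ⟨i, e⟩ := mem_zpowers_iff.1 hc
    rcases Int.even_or_odd' i with ⟨j, rfl | rfl⟩
    · rw [zpow_mul, zpow_ofNat, q.z_sq, one_zpow] at e
      exact absurd (congrArg Subtype.val e).symm d.r1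
    · rw [zpow_add_one, zpow_mul, zpow_ofNat, q.z_sq, one_zpow, one_mul] at e
      exact congrArg Subtype.val e
  have uq : ∀ x ∈ zpowers (c : G), x * x = 1 → x = 1 ∨ x = r := fun x hx xx => by
    by_contra hn
    push Not at hn
    have xT : x ∈ P ⊔ R' := zpowers_le.2 c.2 hx
    obtain ⟨i, e⟩ := mem_zpowers_iff.1 (q.z_mem_zpowers ((iff ⟨x, xT⟩).1 hx)
      fun e => hn.1 (congrArg Subtype.val e))
    have e : x ^ i = r := by rw [← zr, ← e]; simp
    rcases Int.even_or_odd' i with ⟨j, rfl | rfl⟩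
    · rw [zpow_mul, zpow_ofNat, sq, xx, one_zpow] at e
      exact d.r1 e.symm
    · rw [zpow_add_one, zpow_mul, zpow_ofNat, sq, xx, one_zpow, one_mul] at e
      exact hn.2 e
  obtain ⟨x, hx, xx, x1, xr⟩ := d.exists_x
  have xc : x ∉ zpowers (c : G) := fun e => (uq x e xx).elim x1 xr
  have xi : x * (c : G) ^ 2 * x⁻¹ = ((c : G) ^ 2)⁻¹ :=
    congrArg Subtype.val (q.conj_sq (x := ⟨x, mem_sup_left hx⟩) (mt (iff _).2 xc))
  refine ⟨c, d.s2.pT.to_le (zpowers_le.2 c.2), zr ▸ (iff _).2 (pow_mem (mem_zpowers c) _),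
    fun x hx y hy => two x (mem_sup_left hx) y (mem_sup_left hy), uq, fun y hy yc => ?_⟩
  obtain ⟨i, e⟩ := mem_zpowers_iff.1 (two x (mem_sup_left hx) y (mem_sup_left hy) xc yc)
  rcases Int.even_or_odd' i with ⟨j, rfl | rfl⟩
  · have : x * (x * y) * x⁻¹ = (x * y)⁻¹ := by rw [← e, zpow_mul, ← conj_zpow, zpow_ofNat, xi, inv_zpow]
    rw [← mul_assoc, xx, one_mul, mul_inv_rev, mul_left_inj] at this
    exact mul_eq_one_iff_eq_inv.2 this
  · exfalso
    have cP : (c : G) ∈ P := by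
      haveI : Fact (Nat.Prime 2) := ⟨Nat.prime_two⟩
      refine mem_of_pow_mem_of_isPGroup d.s2.pT c.2 (n := (2 * j + 1).natAbs) (by omega) ?_
      have := e ▸ mul_mem hx hy
      rcases Int.natAbs_eq (2 * j + 1) with e | e
      · rwa [e, zpow_natCast] at this
      · rwa [e, zpow_neg, inv_mem_iff, zpow_natCast] at this
    refine d.l1 (d.s2.l_one d.lR (d.s2.mP ?_))
    by_cases lc : l ∈ zpowers (c : G)
    · exact zpowers_le.2 cP lc
    · exact (mul_mem_cancel_left hx).1 (zpowers_le.2 cP (two x (mem_sup_left hx) l lT xc lc))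

theorem odd_cent {Q : Subgroup G} (hQ : Q ≤ P) {g : G} (gr : g * r = r * g)
    (hg : g ∈ normalizer (Q : Set G)) (ho : Odd (orderOf g)) {y : G} (hy : y ∈ Q) :
    g * y = y * g := by
  obtain ⟨c, pc, rc, two, uq, inv⟩ := d.exists_c
  have h1 : Q ⊔ zpowers r ≤ P := sup_le hQ (zpowers_le.2 (d.le d.rR))
  have g1 : g ∈ normalizer ((Q ⊔ zpowers r : Subgroup G) : Set G) :=
    normalizer_inf_normalizer_le_normalizer_sup _ _ ⟨hg, centralizer_le_normalizer _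
      (mem_centralizer_iff.2 fun x ⟨i, e⟩ => e ▸ (Commute.zpow_left gr.symm i).eq)⟩
  have g0 : g ∈ normalizer (((Q ⊔ zpowers r) ⊓ zpowers c : Subgroup G) : Set G) := by
    refine mem_normalizer_of_cj_le ?_
    rintro _ ⟨q, hq, rfl⟩
    have hq' := conj_mem_of_mem_normalizer g1 hq.1
    refine ⟨hq', ?_⟩
    by_contra hn
    have := inv _ (h1 hq') hn
    rw [conj_mul, conj_eq_one_iff] at this
    rcases uq q hq.2 this with rfl | rfl
    · exact hn (by simp)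
    · exact hn (by simpa [gr] using hq.2)
  have cy : IsCyclic ↥((Q ⊔ zpowers r) ⊓ zpowers c) := isCyclic_of_le inf_le_right
  have gc := mem_centralizer_iff.1 (H34.mem_centralizer_of_cyclic_two (pc.to_le inf_le_right) cy
    (Nat.two_dvd_ne_zero.2 (Nat.odd_iff.1 ho)) g0)
  have hy1 : y ∈ Q ⊔ zpowers r := mem_sup_left hy
  by_cases yc : y ∈ zpowers c
  · exact (gc y ⟨hy1, yc⟩).symm
  have hy' := conj_mem_of_mem_normalizer g1 hy1
  have yc' : g * y * g⁻¹ ∉ zpowers c := fun e =>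
    yc ((mem_normalizer_iff.1 g0 y).2 ⟨hy', e⟩).2
  have he : g * y * g⁻¹ * y⁻¹ ∈ (Q ⊔ zpowers r) ⊓ zpowers c :=
    mem_inf.2 ⟨mul_mem hy' (inv_mem hy1),
      two _ (h1 hy') _ (inv_mem (h1 hy1)) yc' (mt inv_mem_iff.1 yc)⟩
  have := pow_conj_left (g := g) (y := y) (e := g * y * g⁻¹ * y⁻¹) (by simp) (gc _ he).symm (orderOf g)
  rw [pow_orderOf_eq_one, one_mul, inv_one, mul_one, right_eq_mul] at this
  haveI f2 : Fact (Nat.Prime 2) := ⟨Nat.prime_two⟩
  have := mem_of_pow_mem_of_isPGroup (K := ⊥) pc he.2 (Nat.two_dvd_ne_zero.2 (Nat.odd_iff.1 ho))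
    (mem_bot.2 this)
  rwa [mem_bot, mul_inv_eq_one, mul_inv_eq_iff_eq_mul] at this

theorem exists_U {p : ℕ} {o : G} (hp : p.Prime) (p2 : p ≠ 2) (oL : o ∈ X N b a)
    (ho : orderOf o = p) : (∃ v ∈ X N a b, v ≠ 1 ∧ (∃ n, v ^ p ^ n = 1) ∧ v * r = r * v) ∧
      ∃ g ∈ N a, g • b ≠ b ∧ (g * o * g⁻¹) • b = b := by
  haveI : Fact (Nat.Prime 2) := ⟨Nat.prime_two⟩
  haveI : Fact p.Prime := ⟨hp⟩
  have o1 : o ≠ 1 := fun e => hp.one_lt.ne (by rw [← ho, e, orderOf_one])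
  have op : o ^ p ^ 1 = 1 := by rw [pow_one, ← ho, pow_orderOf_eq_one]
  have oo : Odd (orderOf o) := ho ▸ hp.odd_of_ne_two p2
  have or : o * r = r * o := (d.s2.tI.comm d.hab (d.s2.mR d.rR) oL).symm
  have oN : o ∈ normalizer (N a : Set G) := d.s2.tI.stab_le a oL.2
  set Xr := N a ⊓ centralizer {r} with hXr
  have hoX : zpowers o ≤ normalizer (Xr : Set G) := le_normalizer_inf (zpowers_le.2 oN)
    (le_normalizer_of_le (zpowers_le.2 (mem_centralizer_singleton_iff.2 or)))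
  have dec : ∀ x ∈ Xr ⊔ zpowers o, ∃ g ∈ Xr, ∃ y ∈ zpowers o, x = g * y := fun x =>
    (mem_sup_right_norm hoX).1
  have Xc : Xr ⊔ zpowers o ≤ centralizer {r} :=
    sup_le inf_le_right (zpowers_le.2 (mem_centralizer_singleton_iff.2 or))
  have PX : P ≤ Xr := fun x hx =>
    ⟨d.s2.mP hx, mem_centralizer_singleton_iff.2 (d.rT (mem_sup_left hx))⟩
  have sP : IsSyl 2 P (Xr ⊔ zpowers o) := by
    refine ⟨PX.trans le_sup_left, d.sylP.isPGroup, fun Q hQ h1 h2 =>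
      d.sylP.eq_of_le hQ h1 fun x hx => ?_⟩
    obtain ⟨g, hg, y, hy, rfl⟩ := dec x (h2 hx)
    obtain ⟨k, hk⟩ := isPGroup_iff_forall.1 hQ _ hx
    have := pow_mul_dec hg.1 (zpowers_le.2 oN hy) (2 ^ k)
    rw [hk, one_mul, inv_mem_iff] at this
    refine mul_mem hg.1 (mem_of_pow_mem_of_isPGroup (isPGroup_zpowers op) hy (fun h => p2 ?_) this)
    exact (Nat.prime_dvd_prime_iff_eq hp Nat.prime_two).1 (hp.dvd_of_dvd_pow h)
  obtain ⟨Y, hY, hYn, Yo, mY⟩ := exists_compl sP fun Q hQ g hg hn ho y hy =>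
    d.odd_cent hQ (mem_centralizer_singleton_iff.1 (Xc hg)) hn ho hy
  have oY := mY o (mem_sup_right (mem_zpowers o)) oo
  obtain ⟨U, hU, oU⟩ := exists_isSyl_le (isPGroup_zpowers op) (zpowers_le.2 oY)
  have hX : h ∈ Xr ⊔ zpowers o := mem_sup_left (PX d.hW.1)
  obtain ⟨n, hn, y, hy, e⟩ := hU.frattini_mem (hYn hX)
  obtain ⟨g, hg, z, hz, e'⟩ := dec n (by
    rw [← mul_inv_eq_iff_eq_mul] at e
    exact e ▸ mul_mem hX (inv_mem (hY hy)))
  have gU : g ∈ normalizer (U : Set G) :=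
    (mul_mem_cancel_right (le_normalizer (oU hz))).1 (e' ▸ hn)
  have gb : g • b ≠ b := fun gb => d.hR (by
    obtain ⟨m, k, hm, hk⟩ := exists_odd_pow g
    have g1 := mem_of_comm d.sylR d.mr (pow_mem (⟨hg.1, gb⟩ : g ∈ X N a b) m) hk
      (Commute.pow_left (mem_centralizer_singleton_iff.1 hg.2) m).eq
    have e2 : g = h * (z * y)⁻¹ * h⁻¹ * h := by rw [e, e']; group
    have g2 := pow_mul_dec (conj_mem_of_mem_normalizer (hYn hX)
      (inv_mem (mul_mem (hU.le (oU hz)) hy))) (hYn hX) m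
    rw [← e2] at g2
    obtain ⟨j, hj⟩ := isPGroup_iff_forall.1 d.sylP.isPGroup _
      (mul_mem (d.le g1) (inv_mem (pow_mem d.hW.1 m)))
    have g3 : g ^ m * (h ^ m)⁻¹ = 1 := orderOf_eq_one_iff.1 (Nat.eq_one_of_dvd_coprimes
      (Nat.Coprime.pow_left j (Nat.coprime_two_left.2 Yo)) (orderOf_dvd_of_pow_eq_one hj)
      (Y.orderOf_dvd_natCard g2))
    rw [mul_inv_eq_one] at g3
    exact mem_of_pow_mem_of_isPGroup d.sylP.isPGroup d.hW.1
      (Nat.two_dvd_ne_zero.2 (Nat.odd_iff.1 hm)) (g3 ▸ g1))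
  have goU := conj_mem_of_mem_normalizer gU (oU (mem_zpowers o))
  refine ⟨?_, ?_⟩
  · obtain ⟨v, ⟨hv, hc⟩, v1⟩ := (bot_or_exists_ne_one _).resolve_left (inf_centralizer_ne_bot
      (hU.isPGroup.to_inf_left (K := N a)) (isPGroup_zpowers op)
      (le_normalizer_inf (le_normalizer_of_le oU) (zpowers_le.2 oN)) fun e0 => gb (by
        have : g * o * g⁻¹ * o⁻¹ ∈ U ⊓ N a :=
          mem_inf.2 ⟨mul_mem goU (inv_mem (oU (mem_zpowers o))), d.s2.comm_mem hg.1 oL.2⟩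
        rw [e0, mem_bot, mul_inv_eq_one, mul_inv_eq_iff_eq_mul] at this
        exact (d.s2.tI.cent d.hab oL o1 hg.1).1 this))
    exact ⟨v, ⟨hv.2, (d.s2.tI.cent d.hab oL o1 hv.2).1
      (mem_centralizer_iff.1 hc o (mem_zpowers o)).symm⟩, v1,
      isPGroup_iff_forall.1 hU.isPGroup v hv.1, mem_centralizer_singleton_iff.1 (Xc (hY (hU.le hv.1)))⟩
  · have ob : zpowers o ≤ stabilizer G b := zpowers_le.2 (d.fix b o oL.1)
    by_cases hb : U ≤ stabilizer G b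
    · exact ⟨g, hg.1, gb, hb goU⟩
    obtain ⟨u, ⟨hu, hun⟩, hub⟩ := SetLike.exists_of_lt (lt_inf_normalizer hU.isPGroup
      (lt_of_le_of_ne inf_le_left fun e => hb (inf_eq_left.1 e)))
    obtain ⟨u', hu', z', hz', rfl⟩ := dec u (hY (hU.le hu))
    have zz : z' ∈ U ⊓ stabilizer G b := ⟨oU hz', ob hz'⟩
    refine ⟨u', hu'.1, fun e => hub ⟨hu, mul_mem e zz.2⟩, (conj_mem_of_mem_normalizer
      ((mul_mem_cancel_right (le_normalizer zz)).1 hun) ⟨oU (mem_zpowers o), ob (mem_zpowers o)⟩).2⟩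

theorem caseB (J : JobPhi.{u}) (hc : ¬ ∀ k ∈ X N a b, k * r = r * k) : False := by
  haveI : Fact (Nat.Prime 2) := ⟨Nat.prime_two⟩
  obtain ⟨p, o, hp, p2, oL, ho, oi⟩ := d.exists_o hc
  haveI : Fact p.Prime := ⟨hp⟩
  obtain ⟨⟨v, vK, v1, ⟨n, vn⟩, vr⟩, g, hg, gb, go⟩ := d.exists_U hp p2 oL ho
  have op : o ^ p ^ 1 = 1 := by rw [pow_one, ← ho, pow_orderOf_eq_one]
  obtain ⟨S, hS, vS⟩ := exists_isSyl_le (isPGroup_zpowers vn) (zpowers_le.2 vK)
  obtain ⟨S', hS'⟩ := exists_isSyl p (X N b a)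
  obtain ⟨j1, j2⟩ := J G Ω N a b p S S' d.s2.tI d.hab hp hS hS'
  obtain ⟨k, hk, kn, kb⟩ := j2 o oL (fun e => hp.one_lt.ne (by rw [← ho, e, orderOf_one])) ⟨1, op⟩
    g hg gb go
  have rS := (j1 k hk kn kb).ce v (vS (mem_zpowers v)) v1 r (d.s2.mR d.rR) vr.symm
  have hS2 := hS.cj s
  rw [d.s2.tI.cj_X, d.sa, d.sb] at hS2
  obtain ⟨y, hy, ey⟩ := hS2.exists_cj_le (isPGroup_zpowers op) (zpowers_le.2 oL)
  have c1 : y⁻¹ * l * y * o = o * (y⁻¹ * l * y) := by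
    have := rS _ (mem_cj.1 (ey (conj_mem_cj (mem_zpowers o))))
    calc _ = y⁻¹ * s * (r * (s⁻¹ * (y * o * y⁻¹) * s)) * s⁻¹ * y := by rw [← d.sl]; group
      _ = _ := by rw [this, ← d.sl]; group
  have lL := d.s2.mR' d.lR
  have lo : l ∈ normalizer (zpowers o : Set G) := mem_normalizer_of_cj_le (by
    rintro _ ⟨x, ⟨i, rfl⟩, rfl⟩
    exact ⟨-i, by simp [← conj_zpow, oi]⟩)
  have sM : IsSyl 2 R' (X N b a ⊓ normalizer (zpowers o : Set G)) :=
    d.sylR'.of_le (fun x hx => ⟨d.s2.mR' hx, by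
      rcases (d.ml x).1 hx with rfl | rfl
      exacts [one_mem _, lo]⟩) inf_le_left
  have cz : y⁻¹ * l * y ∈ centralizer (zpowers o : Set G) :=
    mem_centralizer_iff.2 fun x ⟨i, e⟩ => e ▸ (Commute.zpow_left c1.symm i).eq
  obtain ⟨m, hm, em⟩ := sM.exists_cj_le (isPGroup_zpowers (x := y⁻¹ * l * y) (k := 1) (by
    calc _ = y⁻¹ * (l * l) * y := by rw [pow_one, sq]; group
      _ = 1 := by simp [d.ll])) (zpowers_le.2 (mem_inf.2
        ⟨mul_mem (mul_mem (inv_mem hy) lL) hy, centralizer_le_normalizer _ cz⟩))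
  have lc := conj_mem_of_mem_normalizer (normalizer_le_normalizer_centralizer _ hm.2) cz
  rw [((d.ml _).1 (em (conj_mem_cj (mem_zpowers _)))).resolve_left fun e => d.l1 (by
    simpa [mul_assoc] using congrArg (fun z => y * (m⁻¹ * z * m) * y⁻¹) e)] at lc
  rw [← mem_centralizer_iff.1 lc o (mem_zpowers o), mul_inv_cancel_right, eq_inv_iff_mul_eq_one,
    ← sq] at oi
  exact p2 ((Nat.prime_dvd_prime_iff_eq hp Nat.prime_two).1 (ho ▸ orderOf_dvd_of_pow_eq_one oi))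

end Q2

theorem jobQ2 : JobQ2.{u} := by
  intro J G Ω _ _ _ N a b R R' P s d h2
  obtain ⟨r, r1, ur⟩ := (Nat.card_eq_two_iff' (1 : R)).1 h2
  obtain ⟨h, hW, hR⟩ := d.wne
  have mr : ∀ x, x ∈ R ↔ x = 1 ∨ x = r := fun x => ⟨fun hx => or_iff_not_imp_left.2 fun e =>
    congrArg Subtype.val (ur ⟨x, hx⟩ fun e' => e (congrArg Subtype.val e')), by
      rintro (rfl | rfl)
      exacts [one_mem _, r.2]⟩
  have r1' : (r : G) ≠ 1 := fun e => r1 (Subtype.ext e)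
  have q : Q2 N a b R R' P s r (s * r * s⁻¹) h := ⟨d, mr, fun x => by
    rw [← d.sR, mem_cj, mr]
    refine or_congr ⟨fun e => ?_, fun e => by simp [e]⟩ ⟨fun e => by rw [← e]; group,
      fun e => by rw [e]; group⟩
    simpa [mul_assoc] using congrArg (fun z => s * z * s⁻¹) e, r1', by simpa using r1', rfl, hW, hR⟩
  by_cases hc : ∀ k ∈ X N a b, k * r = r * k
  exacts [q.caseA hc, q.caseB J hc]

end H89.ON2
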