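import Cfsg.Agent.H89.ON2Q2
import Cfsg.Agent.H1.CoprimeGen
import Cfsg.Agent.H2.PrimeCore
import Cfsg.Agent.S2775

/-! ON2, job WE3: the strongly closed abelian subgroup `B`. -/

set_option autoImplicit false
set_option linter.unusedSectionVars false

namespace H89.ON2

open MulAction Cfsg Subgroup H89.K H98

universe u

/-- Goldschmidt's theorem without quotients. -/
theorem gold {G : Type u} [Group G] [Finite G] {Y T B : Subgroup G} (hT : IsSyl 2 T Y)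
    (hBT : B ≤ T) (ab : ∀ x ∈ B, ∀ y ∈ B, x * y = y * x)
    (sc : ∀ x ∈ B, ∀ g ∈ Y, g * x * g⁻¹ ∈ T → g * x * g⁻¹ ∈ B) :
    ∃ K O : Subgroup G, B ≤ K ∧ O ≤ Y ∧ Y ≤ normalizer (K : Set G) ∧
      Y ≤ normalizer (O : Set G) ∧ Odd (Nat.card O) ∧ ∀ l ∈ B, ∃ z ∈ B,
        (∀ k ∈ K, z * k * z⁻¹ * k⁻¹ ∈ O) ∧ ∃ y ∈ ⁅Y, Y⁆, ∃ o ∈ O, l = z * y * o := by
  obtain ⟨S, hS⟩ := hT.exists_sylow
  have hBY := hBT.trans hT.le
  set K := normalClosure ((B.subgroupOf Y : Subgroup Y) : Set Y) with hK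
  have BK : B.subgroupOf Y ≤ K := le_normalClosure
  obtain ⟨h1, h2, ⟨T', -, h3⟩, -⟩ := Cfsg.Agent.S2775.result S (B.subgroupOf Y)
    ⟨⟨fun x y => Subtype.ext (Subtype.ext (ab _ x.2 _ y.2))⟩⟩
    ⟨hS ▸ comap_mono hBT, fun x hx g hg => sc x hx g g.2 (by rwa [hS] at hg)⟩ K hK
    (K ⧸ pPrimeCore 2 K) (QuotientGroup.mk' _) (QuotientGroup.mk'_surjective _)
    (QuotientGroup.ker_mk' _)
  refine ⟨K.map Y.subtype, ((pPrimeCore 2 K).map K.subtype).map Y.subtype,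
    fun x hx => ⟨⟨x, hBY hx⟩, BK hx, rfl⟩, map_subtype_le _, le_normalizer_map_subtype _,
    le_normalizer_map_subtype _, ?_, fun l hl => ?_⟩
  · rw [card_map_of_injective Y.subtype_injective, card_map_of_injective K.subtype_injective]
    exact H2.odd_card_oddCore K
  · let l' : K := ⟨⟨l, hBY hl⟩, BK hl⟩
    have hl' : QuotientGroup.mk' (pPrimeCore 2 K) l' ∈ pCore 2 _ ⊔ commutator _ := h1 ▸ mem_top _
    obtain ⟨z, hz, y, hy, e⟩ := mem_sup_of_normal_right.1 hl'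
    obtain ⟨z, hzB, rfl⟩ := h3.ge (mem_sup_left hz)
    rw [commutator_def, ← MonoidHom.range_eq_top.2 (QuotientGroup.mk'_surjective (pPrimeCore 2 K)),
      MonoidHom.range_eq_map, ← map_commutator] at hy
    obtain ⟨y, hy, rfl⟩ := hy
    refine ⟨z, hzB, ?_, y, ?_, _, ⟨_, ⟨(z * y)⁻¹ * l', ?_, rfl⟩, rfl⟩, by simp [l', mul_assoc]⟩
    · rintro _ ⟨k, hk, rfl⟩
      refine ⟨_, ⟨z * ⟨k, hk⟩ * z⁻¹ * ⟨k, hk⟩⁻¹, ?_, rfl⟩, rfl⟩
      rw [SetLike.mem_coe, ← QuotientGroup.eq_one_iff, ← QuotientGroup.mk'_apply]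
      simp only [map_mul, map_inv]
      rw [← mem_center_iff.1 (h2 hz)]
      group
    · have := mem_map_of_mem (Y.subtype.comp K.subtype) hy
      rw [map_commutator] at this
      refine commutator_mono ?_ ?_ this <;> rintro _ ⟨x, -, rfl⟩ <;> exact x.1.2
    · rw [SetLike.mem_coe, ← QuotientGroup.eq, ← QuotientGroup.mk'_apply, map_mul, e]
      rfl

section

variable {G Ω : Type u} [Group G] [Finite G] [MulAction G Ω] {N : Ω → Subgroup G} {a b : Ω}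
  {R R' P : Subgroup G} {s : G}

theorem S2.not_cyclic (d : S2 N a b R R' P s) (el : ∀ r ∈ R, r * r = 1) (h4 : 4 ≤ Nat.card R) :
    ¬ IsCyclic R' := fun h => by
  have := h.exponent_eq_card
  have h2 : Monoid.exponent R' ∣ 2 := Monoid.exponent_dvd_of_forall_pow_eq_one fun x =>
    Subtype.ext (by simpa [_root_.sq] using d.elR' el x.2)
  have := Nat.le_of_dvd two_pos h2
  have := d.card_R'
  omega

/-- For abelian `P`, `N_H(P)` normalises `R`. -/
theorem S2.norm_R (d : S2 N a b R R' P s) (nc : ¬ IsCyclic R')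
    (ab : ∀ w ∈ P, ∀ v ∈ P, w * v = v * w) {m : G} (hm : m ∈ N a)
    (hmP : m ∈ normalizer (P : Set G)) {r : G} (hr : r ∈ R) : m * r * m⁻¹ ∈ R := by
  haveI : Fact (Nat.Prime 2) := ⟨Nat.prime_two⟩
  haveI : IsMulCommutative R' := ⟨⟨fun x y => Subtype.ext (d.cLL x.2 y.2)⟩⟩
  let f := P.normalizerMonoidHom
  have fa : ∀ (g : normalizer (P : Set G)) (w : P), (f g w : G) = g * w * (g : G)⁻¹ :=
    fun _ _ => rfl
  let L : Subgroup (MulAut P) :=
    { carrier := {φ | ∀ w : P, (φ w : G) ∈ R ↔ (w : G) ∈ R}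
      mul_mem' := fun h1 h2 w => (h1 _).trans (h2 w)
      one_mem' := fun _ => Iff.rfl
      inv_mem' := fun {φ} h w => by simpa using (h (φ⁻¹ w)).symm }
  have := H1.le_of_noncyclic_fixed nc (MulAut.conj.comp (f.comp (inclusion d.nP)))
    (((N a).subgroupOf _).map f) ?_ ?_ L ?_
  · exact (this ⟨⟨m, hmP⟩, hm, rfl⟩ ⟨r, d.le hr⟩).2 hr
  · rintro l _ ⟨x, hx, rfl⟩
    exact ⟨inclusion d.nP l * x * (inclusion d.nP l)⁻¹, d.tI.conj_of_fix (d.mR' l.2).2 hx, by simp⟩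
  · obtain ⟨k, hk⟩ := d.sylR'.isPGroup.exists_card_eq
    rw [hk]
    refine Nat.Coprime.pow_left k ((Nat.Prime.coprime_iff_not_dvd Nat.prime_two).2 fun h => ?_)
    obtain ⟨⟨_, x, hx, rfl⟩, ho⟩ := exists_prime_orderOf_dvd_card' 2 h
    obtain ⟨n, k, hn, e⟩ := exists_odd_pow (x : G)
    have h1 : (x : G) ^ n ∈ P := d.sylP.le_of_le_normalizer' (isPGroup_zpowers e)
      (zpowers_le.2 (pow_mem hx n)) (zpowers_le.2 (pow_mem x.2 n)) (mem_zpowers _)
    have h2 : f x ^ n = 1 := by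
      rw [← map_pow]
      ext w
      rw [fa, coe_pow, ab _ h1 _ w.2]
      simp
    rw [← orderOf_coe] at ho
    exact (Nat.not_even_iff_odd.2 hn) (even_iff_two_dvd.2 (ho ▸ orderOf_dvd_of_pow_eq_one h2))
  · rintro l l1 _ ⟨x, hx, rfl⟩ e w
    have l1 : (l : G) ≠ 1 := fun h => l1 (Subtype.ext h)
    have e : (l : G) * (x * w * (x : G)⁻¹) * (l : G)⁻¹ = x * (l * w * (l : G)⁻¹) * (x : G)⁻¹ := by
      simp only [MonoidHom.comp_apply, MulAut.conj_apply, mul_inv_eq_iff_eq_mul] at e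
      exact congrArg (fun φ : MulAut P => (φ w : G)) e
    rw [fa]
    refine ⟨fun h => d.cP l.2 l1 w.2 ?_, fun h => d.cP l.2 l1 (f x w).2 ?_⟩
    · rw [← d.cRL h l.2, mul_inv_cancel_right, mul_left_inj, mul_right_inj, eq_mul_inv_iff_mul_eq] at e
      exact e
    · rw [← d.cRL h l.2, mul_inv_cancel_right, mul_inv_eq_iff_eq_mul] at e
      exact e.symm

theorem S2.sc_R (d : S2 N a b R R' P s) (el : ∀ r ∈ R, r * r = 1) (h4 : 4 ≤ Nat.card R)
    (alt : (∀ w ∈ P, w * w = 1) ∨ ∀ w ∈ P, w * w = 1 → w ∈ R) {x g : G} (hx : x ∈ R)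
    (hg : g ∈ N a) (h : g * x * g⁻¹ ∈ P) : g * x * g⁻¹ ∈ R := by
  haveI : Fact (Nat.Prime 2) := ⟨Nat.prime_two⟩
  rcases alt with e | e
  · have ab : ∀ w ∈ P, ∀ v ∈ P, w * v = v * w := fun w hw v hv => by
      rw [← inv_eq_of_mul_eq_one_left (e _ (mul_mem hw hv)), mul_inv_rev,
        inv_eq_of_mul_eq_one_left (e _ hw), inv_eq_of_mul_eq_one_left (e _ hv)]
    have h1 : IsSyl 2 P (N a ⊓ centralizer {g * x * g⁻¹}) := d.sylP.of_le
      (fun w hw => ⟨d.mP hw, mem_centralizer_singleton_iff.2 (ab _ hw _ h)⟩) inf_le_left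
    obtain ⟨c, hc, hle⟩ := h1.exists_cj_le (d.sylP.cj_of_mem hg).isPGroup
      (le_inf (d.sylP.cj_of_mem hg).le (by
        rintro _ ⟨w, hw, rfl⟩
        refine mem_centralizer_singleton_iff.2 ?_
        simp only [MulEquiv.coe_toMonoidHom, MulAut.conj_apply, conj_mul, ab _ hw _ (d.le hx)]))
    rw [cj_cj] at hle
    have := d.norm_R (d.not_cyclic el h4) ab (mul_mem hc.1 hg) (mem_normalizer_of_cj_le hle) hx
    rwa [show c * g * x * (c * g)⁻¹ = c * (g * x * g⁻¹) * c⁻¹ by group,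
      mem_centralizer_singleton_iff.1 hc.2, mul_inv_cancel_right] at this
  · exact e _ h (by rw [conj_mul, el x hx]; group)

end

theorem jobWE3 : JobWE3.{u} := by
  intro G Ω _ _ _ N a b R R' P s D wp el h4 we1 alt
  have d := D.toS2
  have cH : ∀ {g h : G}, g ∈ N a ⊔ R' → h ∈ N a → g * h * g⁻¹ ∈ N a := fun hg hh =>
    d.tI.conj_of_fix (d.G_stab hg) hh
  obtain ⟨K, O, BK, OY, nK, nO, odd, H⟩ := gold d.sylT d.BT d.abB fun x hx g hg h => by
    obtain ⟨w, hw, l, hl, rfl⟩ := d.decG g hg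
    have e : w * l * x * (w * l)⁻¹ = w * x * w⁻¹ := by
      rw [mul_assoc w, d.abB l (d.lB hl) x hx]; group
    rw [e] at h ⊢
    by_cases hR : x ∈ R
    · exact d.rB (d.sc_R el h4 alt hR hw (d.tn _ h (cH (mem_sup_left hw) (d.mR hR).1)))
    · exact we1 x hx hR w hw h
  have o1 : ∀ o ∈ O, ∃ k, o = ((o * o) ^ k)⁻¹ := fun o ho => by
    obtain ⟨k, hk⟩ := odd
    refine ⟨k, eq_inv_of_mul_eq_one_right ?_⟩
    rw [← _root_.sq, ← pow_mul, ← pow_succ, ← hk]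
    exact congrArg Subtype.val (pow_card_eq_one' (x := (⟨o, ho⟩ : O)))
  have OH : O ≤ N a := fun o ho => by
    obtain ⟨k, hk⟩ := o1 o ho
    obtain ⟨w, hw, l, hl, e⟩ := d.decG o (OY ho)
    refine hk ▸ inv_mem (pow_mem ?_ k)
    rw [e, show w * l * (w * l) = w * (l * w * l⁻¹) * (l * l) by group, d.elR' el hl, mul_one]
    exact mul_mem hw (cH (mem_sup_right hl) hw)
  have YH : ⁅N a ⊔ R', N a ⊔ R'⁆ ≤ N a := commutator_le.2 fun g hg g' hg' => by
    obtain ⟨w, hw, l, hl, rfl⟩ := d.decG g hg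
    obtain ⟨w', hw', l', hl', rfl⟩ := d.decG g' hg'
    have : w * l * (w' * l') * (w * l)⁻¹ * (w' * l')⁻¹ = w * (l * w' * l⁻¹) *
        (l * l' * (l' * l)⁻¹) * (l' * w⁻¹ * l'⁻¹) * w'⁻¹ := by group
    rw [commutatorElement_def, this, d.cLL hl hl', mul_inv_cancel, mul_one]
    exact mul_mem (mul_mem (mul_mem hw (cH (mem_sup_right hl) hw'))
      (cH (mem_sup_right hl') (inv_mem hw))) (inv_mem hw')
  obtain ⟨l, hl, l1⟩ := d.exists_l
  obtain ⟨z, hz, zc, y, hy, o, ho, e⟩ := H l (d.lB hl)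
  have hr : z⁻¹ * l ∈ R := d.bn _ (mul_mem (inv_mem hz) (d.lB hl)) (by
    rw [e, mul_assoc, inv_mul_cancel_left]
    exact mul_mem (YH hy) (OH ho))
  obtain ⟨w, hw, wR⟩ := D.wne
  have wY : w ∈ N a ⊔ R' := mem_sup_left (d.mP hw.1)
  have z2 : z⁻¹ = z := inv_eq_of_mul_eq_one_left (d.elB el hz)
  have r1B : w * z * w⁻¹ * z⁻¹ ∈ R ⊔ R' := mul_mem (conj_mem_of_mem_normalizer hw.2 hz) (inv_mem hz)
  have r1H := d.comm_mem (d.mP hw.1) (d.G_stab (d.TG (d.BT hz)))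
  have r11 : w * z * w⁻¹ * z⁻¹ ≠ 1 := fun h => wR (d.cP hl l1 hw.1 (by
    have h2 := D.winv w hw wR _ hr
    rw [inv_eq_of_mul_eq_one_left (el _ hr), mul_inv_eq_iff_eq_mul] at h2
    rw [mul_inv_eq_one, mul_inv_eq_iff_eq_mul] at h
    calc w * l = w * z * (z⁻¹ * l) := by group
      _ = z * (w * (z⁻¹ * l)) := by rw [h, mul_assoc]
      _ = _ := by rw [h2]; group))
  have zc' : ∀ k ∈ K, w * z * w⁻¹ * z⁻¹ * k * (w * z * w⁻¹ * z⁻¹)⁻¹ * k⁻¹ ∈ O := fun k hk => by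
    have h1 := conj_mem_of_mem_normalizer (nO (mul_mem (mul_mem wY (d.TG (d.BT hz))) (inv_mem wY)))
      (zc k hk)
    have h2 := conj_mem_of_mem_normalizer (nO wY) (zc _ (conj_mem_of_mem_normalizer' (nK wY) hk))
    rw [show w * z * w⁻¹ * z⁻¹ = w * z * w⁻¹ * z by rw [z2]]
    convert mul_mem h1 h2 using 1
    group
  generalize w * z * w⁻¹ * z⁻¹ = r at r1B r1H r11 zc'
  have r2 := d.elB el r1B
  obtain ⟨h, hh, hne⟩ := d.o2 a r r1H r2 r11
  have hc := zc' _ (conj_mem_of_mem_normalizer (nK (mem_sup_left hh)) (BK r1B))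
  have h2 : h * r * h⁻¹ * (h * r * h⁻¹) = 1 := by rw [conj_mul, r2]; group
  generalize h * r * h⁻¹ = r' at hne hc h2
  have c := d.oc a O OH (le_sup_left.trans nO) odd _ hc r r1H
  obtain ⟨k, hk⟩ := o1 _ hc
  rw [inv_eq_of_mul_eq_one_left r2, inv_eq_of_mul_eq_one_left h2] at hk c
  have : r * r' * r * r' * (r * r' * r * r') = 1 := by
    calc _ = r * r' * r * r' * r * (r' * r * r') := by group
      _ = r * r * r' * (r * (r' * r') * r) * r' := by rw [c]; group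
      _ = 1 := by rw [h2, mul_one, r2, one_mul, mul_one, h2]
  rw [this, one_pow, inv_one] at hk
  refine hne ?_
  calc r * r' = r * r' * (r * r) * (r' * r') := by rw [r2, h2]; group
    _ = r * r' * r * (r' * r') * r * (r' * r') := by rw [h2]; group
    _ = r * r' * r * r' * r' * r * (r' * r') := by group
    _ = _ := by rw [hk, h2]; group

end H89.ON2
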