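import Cfsg.Agent.H89.ON2Kit

/-! ON2, job WL1: the Sylow subgroup `P = W⟨t⟩`. -/

set_option autoImplicit false
set_option linter.unusedSectionVars false

namespace H89.ON2

open MulAction Cfsg Subgroup H89.K H98

universe u

/-- `t ∈ P ∖ W` normalises `T₁ = N_T(B)`. -/
structure W1 {G Ω : Type*} [Group G] [MulAction G Ω] (N : Ω → Subgroup G) (a b : Ω)
    (R R' P : Subgroup G) (s t : G) : Prop extends A2 N a b R R' P s where
  tP : t ∈ P
  tW : t ∉ Wn R R' P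
  tn1 : t ∈ normalizer ((Wn R R' (P ⊔ R') : Subgroup G) : Set G)

/-- `ω(l) = [t, l]`. -/
def om {G : Type*} [Group G] (t l : G) : G := t * l * t⁻¹ * l⁻¹

namespace W1

variable {G Ω : Type*} [Group G] [Finite G] [MulAction G Ω] {N : Ω → Subgroup G} {a b : Ω}
  {R R' P : Subgroup G} {s t : G} (d : W1 N a b R R' P s t)
include d

theorem s2 : S2 N a b R R' P s := d.toA2.toS2

theorem tT : t ∈ P ⊔ R' := mem_sup_left d.tP

theorem B1 {x : G} (hx : x ∈ R ⊔ R') : x ∈ Wn R R' (P ⊔ R') := ⟨d.s2.BT hx, le_normalizer hx⟩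

theorem W1' {x : G} (hx : x ∈ Wn R R' P) : x ∈ Wn R R' (P ⊔ R') := ⟨mem_sup_left hx.1, hx.2⟩

theorem nb {l : G} (hl : l ∈ R') (h : t * l * t⁻¹ ∈ R ⊔ R') : l = 1 := by
  by_contra l1
  refine d.tW (mem_inf.2 ⟨d.tP, inv_mem_iff.1 (mem_normalizer_of_cj_le ?_)⟩)
  rintro _ ⟨x, hx, rfl⟩
  refine d.s2.cT hl l1 (mul_mem (mul_mem (inv_mem d.tT) (d.s2.BT hx)) (inv_mem (inv_mem d.tT))) ?_
  have := d.abB x hx _ h
  calc t⁻¹ * x * t⁻¹⁻¹ * l = t⁻¹ * (x * (t * l * t⁻¹)) * t := by group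
    _ = _ := by rw [this]; simp [mul_assoc]

theorem omW {l : G} (hl : l ∈ R') : om t l ∈ Wn R R' P := by
  have h1 := conj_mem_of_mem_normalizer d.tn1 (d.B1 (d.s2.lB hl))
  have h2 := mul_mem h1 (inv_mem (d.B1 (d.s2.lB hl)))
  exact ⟨d.tn _ h2.1 (d.s2.comm_mem (d.s2.mP d.tP) (d.s2.mR' hl).2), h2.2⟩

theorem om_mul (l : G) : om t l * l = t * l * t⁻¹ := by simp [om]

theorem omR {l : G} (hl : l ∈ R') (h : om t l ∈ R) : l = 1 :=
  d.nb hl (d.om_mul l ▸ mul_mem_sup h hl)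

theorem om_inj {l l' r : G} (hl : l ∈ R') (hl' : l' ∈ R') (hr : r ∈ R)
    (h : om t l = om t l' * r) : l = l' := by
  have : t * (l'⁻¹ * l) * t⁻¹ = l'⁻¹ * r * l := by
    have e : t * l * t⁻¹ = om t l' * r * l := by rw [← h, d.om_mul]
    calc t * (l'⁻¹ * l) * t⁻¹ = (t * l' * t⁻¹)⁻¹ * (t * l * t⁻¹) := by group
      _ = _ := by rw [e, om]; group
  have := d.nb (mul_mem (inv_mem hl') hl) (this ▸ mul_mem (mul_mem (inv_mem (d.s2.lB hl'))
    (d.s2.rB hr)) (d.s2.lB hl))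
  exact (inv_mul_eq_one.1 this).symm

theorem psi {w l : G} (hw : w ∈ Wn R R' P) (hl : l ∈ R') : ∃ r ∈ R, w * l * w⁻¹ = r * l :=
  (d.nR w (d.s2.mP hw.1) hw.2).2 l hl

theorem same {w w' l : G} (hw : w ∈ P) (hw' : w' ∈ P) (hl : l ∈ R') (l1 : l ≠ 1)
    (h : w * l * w⁻¹ = w' * l * w'⁻¹) : w'⁻¹ * w ∈ R := by
  refine d.s2.cP hl l1 (mul_mem (inv_mem hw') hw) ?_
  calc w'⁻¹ * w * l = w'⁻¹ * (w * l * w⁻¹) * w := by group
    _ = _ := by rw [h]; group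

theorem sur {l₀ : G} (hl : l₀ ∈ R') (l1 : l₀ ≠ 1) {r : G} (hr : r ∈ R) :
    ∃ l ∈ R', om t l * l₀ * (om t l)⁻¹ = r * l₀ := by
  choose f hf ef using fun l : R' => d.psi (d.omW l.2) hl
  have inj : Function.Injective fun l => (⟨f l, hf l⟩ : R) := fun l l' e => by
    have e : f l = f l' := congrArg Subtype.val e
    have := d.same (d.omW l.2).1 (d.omW l'.2).1 hl l1 (by rw [ef, ef, e])
    exact Subtype.ext (d.om_inj l.2 l'.2 this (by group))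
  obtain ⟨l, e⟩ := (inj.bijective_of_nat_card_le d.s2.card_R'.ge).2 ⟨r, hr⟩
  have e : f l = r := congrArg Subtype.val e
  exact ⟨l, l.2, by rw [ef, e]⟩

theorem dec {w : G} (hw : w ∈ Wn R R' P) : ∃ l ∈ R', ∃ r ∈ R, w = om t l * r := by
  obtain ⟨l₀, hl, l1⟩ := d.s2.exists_l
  obtain ⟨r, hr, e⟩ := d.psi hw hl
  obtain ⟨l, hl', e'⟩ := d.sur hl l1 hr
  exact ⟨l, hl', _, d.same hw.1 (d.omW hl').1 hl l1 (e.trans e'.symm), by group⟩

theorem card_W : Nat.card (Wn R R' P) = Nat.card R ^ 2 := by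
  rw [sq, ← congrArg (· * Nat.card R) d.s2.card_R', ← Nat.card_prod]
  refine (Nat.card_congr (Equiv.ofBijective (fun x : R' × R =>
    (⟨om t x.1 * x.2, mul_mem (d.omW x.1.2) (d.rw x.2.2)⟩ : Wn R R' P)) ⟨?_, ?_⟩)).symm
  · rintro ⟨l, r⟩ ⟨l', r'⟩ e
    have e : om t l * r = om t l' * r' := congrArg Subtype.val e
    have := d.om_inj l.2 l'.2 (mul_mem r'.2 (inv_mem r.2)) (by rw [← mul_assoc, ← e]; group)
    rw [this, mul_right_inj] at e
    exact Prod.ext (Subtype.ext this) (Subtype.ext e)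
  · rintro ⟨w, hw⟩
    obtain ⟨l, hl, r, hr, rfl⟩ := d.dec hw
    exact ⟨(⟨l, hl⟩, ⟨r, hr⟩), rfl⟩

theorem elL {l : G} (hl : l ∈ R') : l * l = 1 := by
  obtain ⟨r, hr, e⟩ := d.psi (inv_mem (d.omW hl)) hl
  refine d.nb (mul_mem hl hl) ?_
  have : t * (l * l) * t⁻¹ = om t l * om t l * (r * l) * l := by
    rw [← e, ← conj_mul, ← d.om_mul]
    group
  rw [this]
  exact mul_mem (mul_mem (d.s2.rB (d.wsq _ (d.omW hl))) (mul_mem_sup hr hl)) (d.s2.lB hl)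

theorem el {r : G} (hr : r ∈ R) : r * r = 1 := d.s2.elR (fun _ => d.elL) hr

theorem cW {w r : G} (hw : w ∈ Wn R R' P) (hr : r ∈ R) : w * r = r * w := by
  by_cases h : w ∈ R
  · exact d.s2.cRR h hr
  · have := d.winv w hw h r hr
    rwa [inv_eq_of_mul_eq_one_right (d.el hr), mul_inv_eq_iff_eq_mul] at this

theorem c1 {x r : G} (hx : x ∈ Wn R R' (P ⊔ R')) (hr : r ∈ R) : x * r = r * x := by
  obtain ⟨w, hw, l, hl, rfl⟩ := d.s2.decW hx.1 hx.2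
  rw [mul_assoc, ← d.s2.cRL hr hl, ← mul_assoc, d.cW hw hr, mul_assoc]

theorem u1 {l : G} (hl : l ∈ R') : t * l * t⁻¹ ∈ Wn R R' (P ⊔ R') :=
  conj_mem_of_mem_normalizer d.tn1 (d.B1 (d.s2.lB hl))

theorem tR : t ∈ normalizer (R : Set G) := by
  obtain ⟨l, hl, l1⟩ := d.s2.exists_l
  refine inv_mem_iff.1 (mem_normalizer_of_cj_le ?_)
  rintro _ ⟨r, hr, rfl⟩
  refine d.s2.cP hl l1 (mul_mem (mul_mem (inv_mem d.tP) (d.le hr)) (inv_mem (inv_mem d.tP))) ?_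
  have := d.c1 (d.u1 hl) hr
  calc t⁻¹ * r * t⁻¹⁻¹ * l = t⁻¹ * (r * (t * l * t⁻¹)) * t := by group
    _ = _ := by rw [← this]; simp [mul_assoc]

theorem inv {x : G} (hx : x ∈ Wn R R' (P ⊔ R')) (h : x * x = 1) :
    x ∈ R ⊔ R' ∨ x ∈ cj t (R ⊔ R') := by
  obtain ⟨w, hw, l₁, hl₁, rfl⟩ := d.s2.decW hx.1 hx.2
  obtain ⟨l, hl, r, hr, rfl⟩ := d.dec hw
  have hl₂ : l⁻¹ * l₁ ∈ R' := mul_mem (inv_mem hl) hl₁
  have e : om t l * r * l₁ = t * l * t⁻¹ * r * (l⁻¹ * l₁) := by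
    rw [om, mul_assoc _ l⁻¹, ← d.s2.cRL hr (inv_mem hl)]; group
  rw [e] at h ⊢
  generalize l⁻¹ * l₁ = m at h hl₂ ⊢
  by_cases l1 : l = 1
  · left
    simpa [l1] using mul_mem_sup hr hl₂
  by_cases m1 : m = 1
  · right
    rw [mem_cj, m1]
    have := mul_mem (d.s2.lB hl) (d.s2.rB (conj_mem_of_mem_normalizer' d.tR hr))
    simpa [mul_assoc] using this
  exfalso
  have uu : t * l * t⁻¹ * (t * l * t⁻¹) = 1 := by rw [conj_mul, d.elL hl]; simp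
  have cu := d.c1 (d.u1 hl) hr
  refine l1 (d.omR hl (d.s2.cP hl₂ m1 (d.omW hl).1 ?_))
  have key : t * l * t⁻¹ * m = m * (t * l * t⁻¹) := by
    generalize t * l * t⁻¹ = u at h uu cu ⊢
    have h2 : u * m * (u * m) = 1 := by
      calc u * m * (u * m) = u * (r * r) * m * (u * m) := by rw [d.el hr, mul_one]
        _ = u * r * (r * m) * u * m := by group
        _ = u * r * m * (r * u) * m := by rw [d.s2.cRL hr hl₂]; group
        _ = 1 := by rw [← cu, ← h]; group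
    calc u * m = (u * m)⁻¹ := (inv_eq_of_mul_eq_one_right h2).symm
      _ = m * u := by
        rw [mul_inv_rev, inv_eq_of_mul_eq_one_right uu, inv_eq_of_mul_eq_one_right (d.elL hl₂)]
  rw [om, mul_assoc, d.s2.cLL (inv_mem hl) hl₂, ← mul_assoc, key, mul_assoc]

theorem bb {x : G} (hx : x ∈ R ⊔ R') (hx' : x ∈ cj t (R ⊔ R')) : x ∈ R := by
  obtain ⟨y, hy, rfl⟩ := hx'
  obtain ⟨r, hr, l, hl, rfl⟩ := d.decB y hy
  have hr' := conj_mem_of_mem_normalizer d.tR hr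
  have e : (MulAut.conj t).toMonoidHom (r * l) = t * r * t⁻¹ * (t * l * t⁻¹) := by simp [mul_assoc]
  rw [e] at hx ⊢
  rw [d.nb hl ((mul_mem_cancel_left (d.s2.rB hr')).1 hx)]
  simpa using hr'

theorem omg {w : G} (hw : w ∈ Wn R R' P) (h : w * w = 1) : w ∈ R := by
  rcases d.inv (d.W1' hw) h with h | h
  · exact d.bn w h (d.s2.mP hw.1)
  · have := d.bn _ (mem_cj.1 h) (d.s2.mP (mul_mem (mul_mem (inv_mem d.tP) hw.1) d.tP))
    simpa [mul_assoc] using conj_mem_of_mem_normalizer d.tR this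

theorem two {n : G} (hn : n ∈ P ⊔ R') (h : cj n (R ⊔ R') ≤ Wn R R' (P ⊔ R')) :
    n ∈ Wn R R' (P ⊔ R') ∨ t⁻¹ * n ∈ Wn R R' (P ⊔ R') := by
  have : ((cj n (R ⊔ R') : Subgroup G) : Set G) ⊆ (R ⊔ R' : Subgroup G) ∪ (cj t (R ⊔ R') : Subgroup G) := by
    intro x hx
    refine d.inv (h hx) ?_
    obtain ⟨y, hy, rfl⟩ := hx
    rw [← map_mul, d.s2.elB (fun _ => d.el) hy, map_one]
  rcases SubgroupClass.subset_union.1 this with h | h
  · exact Or.inl ⟨hn, mem_normalizer_of_cj_le h⟩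
  · refine Or.inr (mem_inf.2 ⟨mul_mem (inv_mem d.tT) hn, mem_normalizer_of_cj_le ?_⟩)
    rw [← cj_cj]
    exact le_cj_iff.1 h

theorem all (h4 : 4 ≤ Nat.card R) {n : G} (hn : n ∈ P ⊔ R') :
    n ∈ Wn R R' (P ⊔ R') ∨ t⁻¹ * n ∈ Wn R R' (P ⊔ R') := by
  haveI : Fact (Nat.Prime 2) := ⟨Nat.prime_two⟩
  set T1 := Wn R R' (P ⊔ R') with hT1
  set T2 := (P ⊔ R') ⊓ normalizer (T1 : Set G) with hT2
  have hB : R ⊔ R' ≤ T1 := fun _ => d.B1
  have h12 : T1 ≤ T2 := le_inf inf_le_left le_normalizer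
  have h2 : ∀ x ∈ T2, x ∈ T1 ∨ t⁻¹ * x ∈ T1 := fun x hx => d.two hx.1 (cj_le_of_le hB hx.2)
  suffices T2 = P ⊔ R' from h2 n (this ▸ hn)
  by_contra hne
  obtain ⟨x, ⟨hx, hxn⟩, hx2⟩ :=
    SetLike.exists_of_lt (lt_inf_normalizer d.s2.pT (lt_of_le_of_ne inf_le_left hne))
  have hE : cj x (R ⊔ R') ≤ T2 := cj_le_of_le (hB.trans h12) hxn
  by_cases h1 : cj x (R ⊔ R') ≤ T1
  · rcases d.two hx h1 with h | h
    · exact hx2 (h12 h)
    · exact hx2 ((mul_mem_cancel_left (inv_mem (⟨d.tT, d.tn1⟩ : t ∈ T2))).1 (h12 h))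
  obtain ⟨e, he, he1⟩ := SetLike.not_le_iff_exists.1 h1
  have hte := (h2 e (hE he)).resolve_left he1
  have hR : ∀ y ∈ cj x (R ⊔ R'), y ∈ T1 → y ∈ R := by
    intro y hy hy1
    have c : e * y = y * e := by
      obtain ⟨e', he', rfl⟩ := he
      obtain ⟨y', hy', rfl⟩ := hy
      rw [← map_mul, ← map_mul, d.abB _ he' _ hy']
    have yy : y * y = 1 := by
      obtain ⟨y', hy', rfl⟩ := hy
      rw [← map_mul, d.s2.elB (fun _ => d.el) hy', map_one]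
    have e1 : t⁻¹ * e * y * (t⁻¹ * e)⁻¹ = t⁻¹ * y * t := by rw [mul_assoc _ e, c]; group
    have iff : y ∈ R ⊔ R' ↔ y ∈ cj t (R ⊔ R') := by
      rw [mem_cj, ← e1]
      exact mem_normalizer_iff.1 hte.2 y
    rcases d.inv hy1 yy with h | h
    · exact d.bb h (iff.1 h)
    · exact d.bb (iff.2 h) h
  have sub : ((cj x (R ⊔ R') : Subgroup G) : Set G) ⊆ (R : Set G) ∪ (fun y => e * y) '' R := by
    intro y hy
    rcases h2 y (hE hy) with h | h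
    · exact Or.inl (hR y hy h)
    · refine Or.inr ⟨e⁻¹ * y, hR _ (mul_mem (inv_mem he) hy) ?_, by simp⟩
      simpa [mul_assoc] using mul_mem (inv_mem hte) h
  have c1 := (Set.ncard_le_ncard sub).trans (Set.ncard_union_le _ _)
  have c2 : ((fun y => e * y) '' (R : Set G)).ncard ≤ (R : Set G).ncard := Set.ncard_image_le
  have c3 : ((cj x (R ⊔ R') : Subgroup G) : Set G).ncard = Nat.card R ^ 2 := by
    rw [← d.s2.card_B, ← card_cj x]; rfl
  have c4 : (R : Set G).ncard = Nat.card R := rfl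
  rw [c3] at c1
  nlinarith

theorem allP (h4 : 4 ≤ Nat.card R) {x : G} (hx : x ∈ P) :
    x ∈ Wn R R' P ∨ t⁻¹ * x ∈ Wn R R' P :=
  (d.all h4 (mem_sup_left hx)).imp (fun h => ⟨hx, h.2⟩)
    fun h => mem_inf.2 ⟨mul_mem (inv_mem d.tP) hx, h.2⟩

theorem tt (h4 : 4 ≤ Nat.card R) : t * t ∈ Wn R R' P :=
  (d.allP h4 (mul_mem d.tP d.tP)).resolve_right (by simpa using d.tW)

theorem orb {r l : G} (hr : r ∈ R) (r1 : r ≠ 1) (hl : l ∈ R') :
    ∃ v ∈ normalizer ((R ⊔ R' : Subgroup G) : Set G), v * r * v⁻¹ = l * r := by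
  obtain ⟨m, hm, e⟩ := d.sur (d.s2.s_R_inv hr) (fun h => r1 (by
    simpa [mul_assoc] using congrArg (fun z => s * z * s⁻¹) h)) (d.s2.s_R'_inv hl)
  refine ⟨s * om t m * s⁻¹, mul_mem (mul_mem d.s2.sB (d.omW hm).2) (inv_mem d.s2.sB), ?_⟩
  calc _ = s * (om t m * (s⁻¹ * r * s) * (om t m)⁻¹) * s⁻¹ := by group
    _ = _ := by rw [e]; group

theorem cls {r r' : G} (hr : r ∈ R) (r1 : r ≠ 1) (hr' : r' ∈ R) (r1' : r' ≠ 1) :
    ∃ g ∈ normalizer ((R ⊔ R' : Subgroup G) : Set G), g • a = a ∧ g * r * g⁻¹ = r' := by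
  obtain ⟨l, hl, l1⟩ := d.s2.exists_l
  obtain ⟨v, hv, ev⟩ := d.orb hr r1 hl
  obtain ⟨v', hv', ev'⟩ := d.orb hr' r1' hl
  obtain ⟨m, hm, e⟩ := d.sur hl l1 (mul_mem hr' (inv_mem hr))
  have c := d.cW (d.omW hm) hr
  have key : v'⁻¹ * om t m * v * r * (v'⁻¹ * om t m * v)⁻¹ = r' := by
    calc _ = v'⁻¹ * (om t m * (v * r * v⁻¹) * (om t m)⁻¹) * v' := by group
      _ = v'⁻¹ * (om t m * l * (om t m)⁻¹ * (om t m * r * (om t m)⁻¹)) * v' := by rw [ev]; group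
      _ = v'⁻¹ * (r' * (r⁻¹ * (l * r))) * v' := by rw [e, c]; group
      _ = v'⁻¹ * (l * r') * v' := by rw [← d.s2.cRL hr hl, ← d.s2.cRL hr' hl]; group
      _ = r' := by rw [← ev']; group
  refine ⟨_, mul_mem (mul_mem (inv_mem hv') (d.omW hm).2) hv, ?_, key⟩
  by_contra hne
  exact r1' (d.ti hne r' (key ▸ d.conj _ a r (d.s2.mR hr).1) (d.s2.mR hr').1)

theorem surj2 {r : G} (hr : r ∈ R) : ∃ w ∈ Wn R R' P, w * w = r := by
  by_cases r1 : r = 1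
  · exact ⟨1, one_mem _, by simp [r1]⟩
  obtain ⟨l, hl, l1⟩ := d.s2.exists_l
  have hw := d.omW hl
  obtain ⟨g, hg, ga, e⟩ := d.cls (d.wsq _ hw) (fun h => l1 (d.omR hl (d.omg hw h))) hr r1
  have mN := d.s2.tI.conj_of_fix ga (d.s2.mP hw.1)
  have mB := mul_mem (mul_mem hg hw.2) (inv_mem hg)
  have mR : ∀ x ∈ R, g * om t l * g⁻¹ * x = x * (g * om t l * g⁻¹) := fun x hx => by
    have := d.cW hw (d.s2.conj_R (inv_mem hg) (inv_smul_eq_iff.2 ga.symm) hx)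
    calc _ = g * (om t l * (g⁻¹ * x * g⁻¹⁻¹)) * g⁻¹ := by group
      _ = _ := by rw [this]; group
  rw [← conj_mul] at e
  generalize g * om t l * g⁻¹ = m at mN mB mR e
  obtain ⟨r₁, hr₁, e₁⟩ := (d.nR m mN mB).2 l hl
  obtain ⟨l', hl', e₂⟩ := d.sur hl l1 hr₁
  have hw' := d.omW hl'
  generalize om t l' = w at hw' e₂
  have cN : w⁻¹ * m ∈ N a := mul_mem (inv_mem (d.s2.mP hw'.1)) mN
  have := d.sq (fun _ => d.el) w hw' (w⁻¹ * m) ⟨cN, (d.s2.cH hl l1 cN).1 (by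
    calc w⁻¹ * m * l = w⁻¹ * (m * l * m⁻¹) * m := by group
      _ = _ := by rw [e₁, ← e₂]; group)⟩
    (fun x hx => by rw [mul_assoc, mR x hx, ← mul_assoc, d.cW (inv_mem hw') hx, mul_assoc])
    (by simpa [e] using hr)
  exact ⟨w, hw', by rw [← this, ← e]; simp⟩

theorem tom {l r : G} (h : t * t * l * (t * t)⁻¹ = r * l) :
    t * om t l * t⁻¹ = r * (om t l)⁻¹ := by
  calc _ = t * t * l * (t * t)⁻¹ * (t * l⁻¹ * t⁻¹) := by rw [om]; group
    _ = _ := by rw [h, om]; group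

theorem tw (h4 : 4 ≤ Nat.card R) {w : G} (hw : w ∈ Wn R R' P) :
    ∃ r ∈ R, t * w * t⁻¹ = r * w⁻¹ := by
  obtain ⟨l, hl, r, hr, rfl⟩ := d.dec hw
  obtain ⟨r₁, hr₁, e⟩ := d.psi (d.tt h4) hl
  have hr' := conj_mem_of_mem_normalizer d.tR hr
  refine ⟨r₁ * (t * r * t⁻¹) * r, mul_mem (mul_mem hr₁ hr') hr, ?_⟩
  rw [← conj_mul, d.tom e, mul_assoc, d.cW (inv_mem (d.omW hl)) hr']
  group

theorem tc (h4 : 4 ≤ Nat.card R) {r : G} (hr : r ∈ R) : t * r = r * t := by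
  obtain ⟨w, hw, rfl⟩ := d.surj2 hr
  obtain ⟨r, hr', e⟩ := d.tw h4 hw
  rw [← mul_inv_eq_iff_eq_mul, ← conj_mul, e]
  calc r * w⁻¹ * (r * w⁻¹) = r * (w⁻¹ * r) * w⁻¹ := by group
    _ = r * r * (w * w)⁻¹ := by rw [d.cW (inv_mem hw) hr']; group
    _ = _ := by rw [d.el hr', one_mul, inv_eq_of_mul_eq_one_right (d.el hr)]

theorem ab0 (h4 : 4 ≤ Nat.card R) {l m : G} (hl : l ∈ R') (hm : m ∈ R') :
    om t l * om t m = om t m * om t l := by
  obtain ⟨r, hr, e⟩ := d.psi (d.omW hl) hm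
  obtain ⟨ρ, hρ, e'⟩ := d.psi (d.tt h4) hl
  have il := inv_eq_of_mul_eq_one_right (d.elL hl)
  have im := inv_eq_of_mul_eq_one_right (d.elL hm)
  have ir := inv_eq_of_mul_eq_one_right (d.el hr)
  have A : t * l * t⁻¹ * m = r * m * (t * l * t⁻¹) := by
    rw [← e, ← d.om_mul, mul_assoc, d.s2.cLL hl hm]; group
  have B : l * (t * m * t⁻¹) = r * (t * m * t⁻¹) * l := by
    have h1 : ρ * l * (t * m * t⁻¹) = r * (t * m * t⁻¹) * (ρ * l) := by
      rw [← e']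
      calc _ = t * (t * l * t⁻¹ * m) * t⁻¹ := by group
        _ = t * r * (m * (t * l * t⁻¹)) * t⁻¹ := by rw [A]; group
        _ = _ := by rw [d.tc h4 hr]; group
    have h2 := d.c1 (d.u1 hm) hρ
    generalize t * m * t⁻¹ = v at h1 h2 ⊢
    refine mul_left_cancel (a := ρ) ?_
    calc ρ * (l * v) = r * (v * ρ) * l := by rw [← mul_assoc, h1]; group
      _ = r * ρ * (v * l) := by rw [h2]; group
      _ = _ := by rw [d.s2.cRR hr hρ]; group
  have C : t * l * t⁻¹ * (t * m * t⁻¹) = t * m * t⁻¹ * (t * l * t⁻¹) := by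
    rw [conj_mul, conj_mul, d.s2.cLL hl hm]
  have c1 := d.c1 (d.u1 hl) hr
  have c2 := d.c1 (d.u1 hm) hr
  have c3 := d.s2.cLL hl hm
  have A' : m * (t * l * t⁻¹) = r * (t * l * t⁻¹ * m) := by
    rw [A, ← mul_assoc r, ← mul_assoc r, d.el hr, one_mul]
  rw [om, om, il, im]
  generalize t * l * t⁻¹ = u at *
  generalize t * m * t⁻¹ = v at *
  calc u * l * (v * m) = u * (l * v) * m := by group
    _ = (u * r) * v * l * m := by rw [B]; group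
    _ = r * (u * v) * (l * m) := by rw [c1]; group
    _ = (r * v) * (u * m) * l := by rw [C, c3]; group
    _ = v * (r * (u * m)) * l := by rw [← c2]; group
    _ = _ := by rw [← A']; group

theorem abW (h4 : 4 ≤ Nat.card R) {w v : G} (hw : w ∈ Wn R R' P) (hv : v ∈ Wn R R' P) :
    w * v = v * w := by
  obtain ⟨l, hl, r, hr, rfl⟩ := d.dec hw
  obtain ⟨m, hm, r', hr', rfl⟩ := d.dec hv
  calc _ = om t l * (r * om t m) * r' := by group
    _ = om t l * om t m * (r * r') := by rw [← d.cW (d.omW hm) hr]; group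
    _ = om t m * (om t l * r') * r := by rw [d.ab0 h4 hl hm, d.s2.cRR hr hr']; group
    _ = _ := by rw [d.cW (d.omW hl) hr']; group

theorem wl (h4 : 4 ≤ Nat.card R) : WL R (Wn R R' P) P t where
  rw := d.rw
  wp := inf_le_left
  idx := relIndex_eq_two_iff_exists_notMem_and'.2 ⟨t⁻¹, inv_mem d.tP,
    fun h => d.tW (inv_mem_iff.1 h), fun _ hx => (d.allP h4 hx).symm⟩
  tP := d.tP
  tW := d.tW
  four := h4
  card := d.card_W
  el := fun _ => d.el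
  ab := fun _ hw _ hv => d.abW h4 hw hv
  cen := fun r hr x hx => by
    rcases d.allP h4 hx with h | h
    · exact d.cW h hr
    · rw [← mul_inv_cancel_left t x, mul_assoc, d.cW h hr, ← mul_assoc, d.tc h4 hr, mul_assoc]
  sq := d.wsq
  om := fun _ => d.omg
  surj := fun _ => d.surj2
  alt := by
    by_cases h : t * t ∈ R
    · refine Or.inl ⟨h, fun w hw => ?_⟩
      obtain ⟨l, hl, r, hr, rfl⟩ := d.dec hw
      rw [← conj_mul, d.tom (r := 1) (by rw [d.s2.cRL h hl]; group), d.tc h4 hr,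
        mul_inv_cancel_right, one_mul, d.cW (inv_mem (d.omW hl)) hr, mul_inv_rev,
        inv_eq_of_mul_eq_one_right (d.el hr)]
    · refine Or.inr fun x hx hxW hxx => h ?_
      have hw := (d.allP h4 hx).resolve_left hxW
      obtain ⟨r, hr, e⟩ := d.tw h4 hw
      have : x * x = r * (t * t) := by
        calc x * x = t * (t⁻¹ * x) * t⁻¹ * (t * t * (t⁻¹ * x)) := by group
          _ = _ := by rw [e, d.abW h4 (d.tt h4) hw]; group
      exact (mul_mem_cancel_left hr).1 (this ▸ hxx)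

end W1

theorem jobWL1 : JobWL1.{u} := by
  intro G Ω _ _ _ N a b R R' P s d h4 hW
  haveI : Fact (Nat.Prime 2) := ⟨Nat.prime_two⟩
  have hlt : Wn R R' (P ⊔ R') < P ⊔ R' := by
    refine lt_of_le_of_ne inf_le_left fun e => hW (le_antisymm inf_le_left fun w hw => ⟨hw, ?_⟩)
    exact (e.ge (mem_sup_left hw)).2
  obtain ⟨x, ⟨hx, hxn⟩, hx1⟩ := SetLike.exists_of_lt (lt_inf_normalizer d.toS2.pT hlt)
  obtain ⟨t, ht, l, hl, rfl⟩ := d.decT x hx
  have hl1 : l ∈ Wn R R' (P ⊔ R') := ⟨mem_sup_right hl, le_normalizer (mem_sup_right hl)⟩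
  exact ⟨t, W1.wl ⟨d, ht, fun h => hx1 (mul_mem ⟨mem_sup_left ht, h.2⟩ hl1),
    (mul_mem_cancel_right (le_normalizer hl1)).1 hxn⟩ h4⟩

end H89.ON2
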