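import Cfsg.Agent.H89.ON2Spec
import Cfsg.Agent.H8.TransferEval

/-! ON2, job WL2: a group with Sylow subgroup `W⟨t⟩` has a subgroup of index two. -/

set_option autoImplicit false
set_option linter.unusedSectionVars false

namespace H89.ON2

open Cfsg Subgroup H98

universe u

theorem card_le_two_mul {G : Type*} [Group G] [Finite G] {A B : Subgroup G} (e : G)
    (h : ∀ y ∈ A, y ∈ B ∨ e⁻¹ * y ∈ B) : Nat.card A ≤ 2 * Nat.card B := by
  have sub : (A : Set G) ⊆ (B : Set G) ∪ (fun y => e * y) '' B := fun y hy =>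
    (h y hy).imp id fun h => ⟨_, h, by simp⟩
  have c1 := (Set.ncard_le_ncard sub).trans (Set.ncard_union_le _ _)
  have c2 : ((fun y => e * y) '' (B : Set G)).ncard ≤ (B : Set G).ncard := Set.ncard_image_le
  have c3 : (A : Set G).ncard = Nat.card A := rfl
  have c4 : (B : Set G).ncard = Nat.card B := rfl
  omega

namespace WL

variable {G : Type*} [Group G] [Finite G] {R W P : Subgroup G} {t : G} (d : WL R W P t)
include d

theorem sub {H : Subgroup G} (hP : P ≤ H) :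
    WL (R.subgroupOf H) (W.subgroupOf H) (P.subgroupOf H) ⟨t, hP d.tP⟩ where
  rw := fun _ h => d.rw h
  wp := fun _ h => d.wp h
  idx := (relIndex_subgroupOf hP).trans d.idx
  tP := d.tP
  tW := d.tW
  four := by
    rw [Nat.card_congr (subgroupOfEquivOfLe (d.rw.trans (d.wp.trans hP))).toEquiv]
    exact d.four
  card := by
    rw [Nat.card_congr (subgroupOfEquivOfLe (d.rw.trans (d.wp.trans hP))).toEquiv,
      Nat.card_congr (subgroupOfEquivOfLe (d.wp.trans hP)).toEquiv]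
    exact d.card
  el := fun r h => Subtype.ext (d.el r h)
  ab := fun w h v h' => Subtype.ext (d.ab w h v h')
  cen := fun w h v h' => Subtype.ext (d.cen w h v h')
  sq := fun w h => d.sq w h
  om := fun w h e => d.om w h (congrArg Subtype.val e)
  surj := fun r h => let ⟨w, hw, e⟩ := d.surj r h
    ⟨⟨w, hP (d.wp hw)⟩, hw, Subtype.ext e⟩
  alt := d.alt.imp (fun h => ⟨h.1, fun w hw => Subtype.ext (h.2 w hw)⟩) fun h x hx => h x hx

theorem mul {x y : G} (hx : x ∈ P) (hy : y ∈ P) (h1 : x ∉ W) (h2 : y ∉ W) : x * y ∈ W :=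
  (mul_mem_iff_of_index_two (H := W.subgroupOf P) d.idx (a := ⟨x, hx⟩) (b := ⟨y, hy⟩)).2
    (iff_of_false h1 h2)

theorem mul' {x y : G} (hx : x ∈ P) (hy : y ∈ P) (h1 : x ∉ W) (h2 : y ∉ W) : x⁻¹ * y ∈ W :=
  d.mul (inv_mem hx) hy (mt inv_mem_iff.1 h1) h2

theorem pow4 {w : G} (h : w ∈ W) : w ^ 4 = 1 := by
  rw [← d.el _ (d.sq w h)]; simp [pow_succ, mul_assoc]

theorem big {E : Subgroup G} (hE : E ≤ P) (h : ∀ e ∈ E, e * e = 1)
    (hc : Nat.card E = 2 * Nat.card R) : R ≤ E := by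
  have pos : 0 < Nat.card R := Nat.card_pos
  by_cases hW : E ≤ W
  · have := card_le_of_le (show E ≤ R from fun e he => d.om e (hW he) (h e he))
    omega
  obtain ⟨e, he, heW⟩ := SetLike.not_le_iff_exists.1 hW
  have := card_le_two_mul (A := E) (B := R ⊓ E) e fun y hy => by
    by_cases hy' : y ∈ W
    · exact Or.inl ⟨d.om y hy' (h y hy), hy⟩
    · have m := mul_mem (inv_mem he) hy
      exact Or.inr ⟨d.om _ (d.mul' (hE he) (hE hy) heW hy') (h _ m), m⟩
  exact inf_eq_left.1 (eq_of_le_of_card_ge inf_le_left (by omega))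

section

variable (hi : ∀ w ∈ W, t * w * t⁻¹ = w⁻¹)
include hi

theorem inv {x w : G} (hx : x ∈ P) (h : x ∉ W) (hw : w ∈ W) : x * w * x⁻¹ = w⁻¹ := by
  have h1 := d.mul' d.tP hx d.tW h
  calc x * w * x⁻¹ = t * (t⁻¹ * x * w) * x⁻¹ := by group
    _ = t * w * t⁻¹ := by rw [d.ab _ h1 w hw]; group
    _ = _ := hi w hw

theorem sqt {x : G} (hx : x ∈ P) (h : x ∉ W) : x * x = t * t := by
  have h1 := d.mul' d.tP hx d.tW h
  have c : t * t * (t⁻¹ * x) = t⁻¹ * x * (t * t) := d.ab _ (d.mul d.tP d.tP d.tW d.tW) _ h1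
  calc x * x = t * (t⁻¹ * x) * t⁻¹ * (t * t * (t⁻¹ * x)) := by group
    _ = _ := by rw [hi _ h1, c]; group

theorem char {n x : G} (hn : n ∈ normalizer (P : Set G)) (hx : x ∈ P) (h : x ∉ W) :
    n * x * n⁻¹ ∉ W := fun hW => by
  have le : ∀ y ∈ cj n⁻¹ W, y ∈ P := fun y hy => cj_le_of_le d.wp (inv_mem hn) hy
  have xm : x ∈ cj n⁻¹ W := mem_cj.2 (by simpa using hW)
  have key : ∀ y ∈ cj n⁻¹ W, y ∈ W → y ∈ R := fun y hy hyW => by
    have c : x * y = y * x := by
      obtain ⟨x', hx', rfl⟩ := xm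
      obtain ⟨y', hy', rfl⟩ := hy
      rw [← map_mul, ← map_mul, d.ab _ hx' _ hy']
    have := d.inv hi hx h hyW
    rw [c, mul_inv_cancel_right] at this
    exact d.om y hyW (mul_eq_one_iff_eq_inv.2 this)
  have := card_le_two_mul (A := cj n⁻¹ W) (B := R) x fun y hy => by
    by_cases hy' : y ∈ W
    · exact Or.inl (key y hy hy')
    · exact Or.inr (key _ (mul_mem (inv_mem xm) hy) (d.mul' hx (le y hy) h hy'))
  rw [card_cj, d.card] at this
  have := d.four
  nlinarith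

theorem comm (ht : t * t ∈ R) {x y : G} (hx : x ∈ P) (hy : y ∈ P) : x * y * x⁻¹ * y⁻¹ ∈ R := by
  have aux : ∀ {x y : G}, x ∈ P → y ∈ W → x * y * x⁻¹ * y⁻¹ ∈ R := fun {x y} hx hy => by
    by_cases h : x ∈ W
    · rw [d.ab x h y hy]; simp
    · rw [d.inv hi hx h hy]
      exact d.sq _ (inv_mem hy)
  by_cases h2 : y ∈ W
  · exact aux hx h2
  by_cases h1 : x ∈ W
  · simpa [mul_assoc] using inv_mem (aux hy h1)
  have := aux hx (d.mul hy (inv_mem hx) h2 (mt inv_mem_iff.1 h1))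
  simpa [mul_assoc] using this

end

variable (hP : IsSyl 2 P ⊤) (hG : ∀ N : Subgroup G, N.Normal → N.index ≠ 2)
include hP hG

theorem odd : Odd P.index := by
  haveI : Fact (Nat.Prime 2) := ⟨Nat.prime_two⟩
  have := hP.not_dvd_relIndex
  rw [relIndex_top_right] at this
  exact Nat.odd_iff.2 (Nat.two_dvd_ne_zero.1 this)

theorem case8 (h : ∀ x ∈ P, x ∉ W → x * x ∉ R) : False := by
  have n4 : ∀ x ∈ P, x ∉ W → x ^ 4 ≠ 1 := fun x hx hW e =>
    h x hx hW (d.om _ (d.mul hx hx hW hW) (by rw [← e]; simp [pow_succ, mul_assoc]))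
  have t8 : t ^ 8 = 1 := by
    rw [← d.pow4 (d.mul d.tP d.tP d.tW d.tW), ← _root_.sq, ← pow_mul]
  obtain ⟨N, hN, h2, -⟩ := H8.thompson_transfer_general P W (d.odd hP hG) d.idx t
    (fun k a ⟨j, hj⟩ hW => by
      have := d.pow4 hW
      rw [← inv_inv a, inv_inv a⁻¹, conj_pow, conj_eq_one_iff, ← pow_mul, hj,
        show (2 * j + 1) * 4 = 8 * j + 4 by ring, pow_add, pow_mul, t8, one_pow, one_mul] at this
      exact n4 t d.tP d.tW this)
    fun k a ⟨j, hj⟩ hx => by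
      by_contra hW
      refine n4 _ hx hW ?_
      rw [← inv_inv a, inv_inv a⁻¹, conj_pow, ← pow_mul, hj,
        show (j + j) * 4 = 8 * j by ring, pow_mul, t8]
      simp
  exact hG N hN h2

theorem case4 (ht : t * t ∈ R) (hi : ∀ w ∈ W, t * w * t⁻¹ = w⁻¹) (h1 : t * t ≠ 1) : False := by
  haveI : Fact (Nat.Prime 2) := ⟨Nat.prime_two⟩
  have om1 : ∀ x ∈ P, x * x = 1 → x ∈ R := fun x hx e => by
    by_contra hR
    exact h1 ((d.sqt hi hx fun h => hR (d.om x h e)).symm.trans e)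
  have t4 : t ^ 4 = 1 := by rw [← d.el _ ht]; simp [pow_succ, mul_assoc]
  obtain ⟨k, a, hk, hW⟩ : ∃ (k : ℕ) (a : G), Odd k ∧ a⁻¹ * t ^ k * a ∈ W := by
    by_contra hn
    push Not at hn
    obtain ⟨N, hN, h2, -⟩ := H8.thompson_transfer_general P W (d.odd hP hG) d.idx t hn
      fun k a ⟨j, hj⟩ hx => d.rw (om1 _ hx (by
        calc _ = a⁻¹ * (t ^ k * t ^ k) * a := by group
          _ = 1 := by rw [← pow_add, hj, show j + j + (j + j) = 4 * j by ring, pow_mul, t4]; simp))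
    exact hG N hN h2
  have xP : t ^ k ∈ P := pow_mem d.tP k
  have xW : t ^ k ∉ W := fun h => d.tW (by
    obtain ⟨j, rfl⟩ := hk
    rw [pow_succ, pow_mul, _root_.sq] at h
    exact (mul_mem_cancel_left (pow_mem (d.rw ht) j)).1 h)
  generalize t ^ k = x at hW xP xW
  obtain ⟨w, hw⟩ : ∃ w, w = a⁻¹ * x * a := ⟨_, rfl⟩
  rw [← hw] at hW
  have pW : IsPGroup 2 W := hP.isPGroup.to_le d.wp
  obtain ⟨S, hS, WS⟩ := exists_isSyl_le (H := centralizer {w}) pW fun v hv =>
    mem_centralizer_singleton_iff.2 (d.ab v hv w hW)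
  obtain ⟨y, -, hy⟩ := hP.exists_cj_le hS.isPGroup le_top
  have inR : ∀ z ∈ S, z * z = 1 → z ∈ cj y⁻¹ R := fun z hz e => mem_cj.2 (by
    simpa using om1 _ (hy (conj_mem_cj hz)) (by rw [conj_mul, e]; simp))
  have Ry : R = cj y⁻¹ R := eq_of_le_of_card_ge (fun r hr => inR r (WS (d.rw hr)) (d.el r hr))
    (card_cj _ _).le
  obtain ⟨c, hc, ec⟩ := hS.exists_cj_le (Q := cj a⁻¹ R) (isPGroup_cj _ (pW.to_le d.rw)) (by
    rintro _ ⟨r, hr, rfl⟩
    refine mem_centralizer_singleton_iff.2 ?_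
    calc _ = a⁻¹ * (r * x) * a := by simp [hw, mul_assoc]
      _ = _ := by rw [← d.cen r hr x xP]; simp [hw, mul_assoc])
  rw [cj_cj] at ec
  have gR : c * a⁻¹ ∈ normalizer (R : Set G) := mem_normalizer_of_cj_le fun z hz => by
    rw [Ry]
    refine inR z (ec hz) ?_
    obtain ⟨r, hr, rfl⟩ := hz
    rw [← map_mul, d.el r hr, map_one]
  have gx : c * a⁻¹ * x * (c * a⁻¹)⁻¹ = w := by
    calc _ = c * w * c⁻¹ := by rw [hw]; group
      _ = w := by rw [mem_centralizer_singleton_iff.1 hc]; group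
  generalize c * a⁻¹ = g at gR gx
  let Y : Subgroup G :=
    { carrier := {u | u ∈ normalizer (R : Set G) ∧ u * w * u⁻¹ * w⁻¹ ∈ R}
      one_mem' := ⟨one_mem _, by simp⟩
      mul_mem' := fun {u v} hu hv => ⟨mul_mem hu.1 hv.1, by
        simpa [mul_assoc] using mul_mem (conj_mem_of_mem_normalizer hu.1 hv.2) hu.2⟩
      inv_mem' := fun {u} hu => ⟨inv_mem hu.1, by
        simpa [mul_assoc] using inv_mem (conj_mem_of_mem_normalizer' hu.1 hu.2)⟩ }
  have PR : P ≤ normalizer (R : Set G) := fun u hu =>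
    centralizer_le_normalizer _ (mem_centralizer_iff.2 fun r hr => (d.cen r hr u hu).symm)
  have PY : P ≤ Y := fun u hu => ⟨PR hu, d.comm hi ht hu (d.wp hW)⟩
  obtain ⟨c', hc', ec'⟩ := (hP.of_le PY le_top).exists_cj_le (Q := cj g P)
    (isPGroup_cj _ hP.isPGroup) (by
      rintro _ ⟨u, hu, rfl⟩
      refine ⟨mul_mem (mul_mem gR (PR hu)) (inv_mem gR), ?_⟩
      have := conj_mem_of_mem_normalizer gR (d.comm hi ht hu xP)
      rw [← gx]
      simpa [mul_assoc] using this)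
  rw [cj_cj] at ec'
  refine d.char hi (mem_normalizer_of_cj_le ec') xP xW ?_
  have := mul_mem (d.rw hc'.2) hW
  rw [← gx] at this
  simpa [mul_assoc] using this

theorem case2 (hi : ∀ w ∈ W, t * w * t⁻¹ = w⁻¹) (h1 : t * t = 1) : False := by
  haveI : Fact (Nat.Prime 2) := ⟨Nat.prime_two⟩
  obtain ⟨a, ha⟩ : ∃ a, a * t * a⁻¹ ∈ W := by
    by_contra hn
    push Not at hn
    obtain ⟨N, hN, h2, -⟩ := H8.thompson_transfer P W (d.odd hP hG) d.idx t (by rwa [_root_.sq]) hn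
    exact hG N hN h2
  have rR := d.om _ ha (by rw [conj_mul, h1]; simp)
  have tR : t ∉ R := fun h => d.tW (d.rw h)
  have RP : R ≤ P := d.rw.trans d.wp
  let E : Subgroup G :=
    { carrier := {e | e ∈ R ∨ e * t ∈ R}
      one_mem' := Or.inl (one_mem _)
      mul_mem' := fun {u v} hu hv => by
        rcases hu with hu | hu <;> rcases hv with hv | hv
        · exact Or.inl (mul_mem hu hv)
        · exact Or.inr (mul_assoc u v t ▸ mul_mem hu hv)
        · refine Or.inr ?_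
          rw [mul_assoc, ← d.cen v hv t d.tP, ← mul_assoc]
          exact mul_mem hu hv
        · left
          have := mul_mem hu hv
          rwa [mul_assoc, d.cen _ hv t d.tP, mul_assoc v, h1, mul_one] at this
      inv_mem' := fun {u} hu => hu.imp inv_mem fun hu => by
        have h2 := inv_mem hu
        have h3 := d.cen _ h2 t d.tP
        rw [mul_inv_rev, inv_eq_of_mul_eq_one_right h1] at h2 h3
        rw [← mul_assoc, h1, one_mul] at h3
        rwa [h3, mul_assoc, h1, mul_one] }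
  have EP : E ≤ P := fun e he => he.elim (RP ·) fun h => (mul_mem_cancel_right d.tP).1 (RP h)
  have Ee : ∀ e ∈ E, e * e = 1 := fun e he => he.elim (d.el e) fun h => by
    have := d.el _ h
    rwa [mul_assoc, d.cen _ h t d.tP, mul_assoc e t, h1, mul_one] at this
  have RE : R ≤ E := fun _ h => Or.inl h
  have cE : Nat.card E = 2 * Nat.card R := by
    have h2 : (R.subgroupOf E).index = 2 := relIndex_eq_two_iff_exists_notMem_and.2
      ⟨t, Or.inr (by simp [h1]), tR, fun e he => he.symm⟩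
    rw [← (R.subgroupOf E).index_mul_card, h2, Nat.card_congr (subgroupOfEquivOfLe RE).toEquiv]
  have Ec : ∀ e ∈ E, ∀ f ∈ E, e * f = f * e := fun e he f hf => by
    rw [← inv_eq_of_mul_eq_one_right (Ee _ (mul_mem he hf)), mul_inv_rev,
      inv_eq_of_mul_eq_one_right (Ee e he), inv_eq_of_mul_eq_one_right (Ee f hf)]
  have tE : t ∈ E := Or.inr (by simp [h1])
  have pE : IsPGroup 2 E := hP.isPGroup.to_le EP
  obtain ⟨c, hc, ec⟩ := (hP.of_le (K := centralizer {a * t * a⁻¹}) (fun u hu =>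
    mem_centralizer_singleton_iff.2 (d.cen _ rR u hu)) le_top).exists_cj_le (Q := cj a E)
      (isPGroup_cj _ pE) (by
        rintro _ ⟨e, he, rfl⟩
        refine mem_centralizer_singleton_iff.2 ?_
        simp only [MulEquiv.coe_toMonoidHom, MulAut.conj_apply, conj_mul, Ec e he t tE])
  rw [cj_cj] at ec
  have gt : c * a * t * (c * a)⁻¹ ∈ R := by
    have : c * a * t * (c * a)⁻¹ = a * t * a⁻¹ := by
      calc _ = c * (a * t * a⁻¹) * c⁻¹ := by group
        _ = _ := by rw [mem_centralizer_singleton_iff.1 hc]; group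
    exact this ▸ rR
  generalize c * a = g at ec gt
  have Fe : ∀ {y : G}, ∀ e ∈ cj y E, e * e = 1 := by
    rintro y _ ⟨e, he, rfl⟩
    rw [← map_mul, Ee e he, map_one]
  have RF : R ≤ cj g E := d.big ec Fe (by rw [card_cj, cE])
  have act : ∀ {F : Subgroup G}, F ≤ P → (∀ e ∈ F, e * e = 1) → ∀ w ∈ W, ∀ e ∈ F,
      (e ∈ R ∧ w * e * w⁻¹ = e) ∨ (e ∉ R ∧ w * e * w⁻¹ = w * w * e) := fun hF he w hw e h => by
    by_cases hR : e ∈ R
    · exact Or.inl ⟨hR, by rw [d.cen e hR w (d.wp hw)]; group⟩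
    · refine Or.inr ⟨hR, ?_⟩
      have := d.inv hi (hF h) (fun h' => hR (d.om e h' (he e h))) (inv_mem hw)
      calc w * e * w⁻¹ = w * (e * w⁻¹ * e⁻¹) * e := by group
        _ = _ := by rw [this, inv_inv]
  have nle : ¬ R ≤ cj g R := fun h => tR (conj_mem_cj_iff.1 (h gt))
  obtain ⟨z, ⟨zR, zg⟩, z1⟩ : ∃ z ∈ R ⊓ cj g R, z ≠ 1 := by
    refine (bot_or_exists_ne_one _).resolve_left fun h0 => ?_
    obtain ⟨e, he, heR⟩ := SetLike.not_le_iff_exists.1 fun h : cj g R ≤ R =>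
      nle (eq_of_le_of_card_ge h (card_cj g R).ge).ge
    have gE : cj g R ≤ cj g E := cj_mono g RE
    have := card_le_two_mul (A := cj g R) (B := R ⊓ cj g R) e fun y hy => by
      by_cases hy' : y ∈ R
      · exact Or.inl ⟨hy', hy⟩
      · have m := mul_mem (inv_mem he) hy
        exact Or.inr ⟨d.om _ (d.mul' (ec (gE he)) (ec (gE hy)) (fun h => heR (d.om e h (Fe e (gE he))))
          fun h => hy' (d.om y h (Fe y (gE hy)))) (Fe _ (gE m)), m⟩
    rw [h0, card_cj, card_bot] at this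
    have := d.four
    omega
  obtain ⟨w, hw, ew⟩ := d.surj z zR
  obtain ⟨v, hv, ev⟩ := d.surj _ (mem_cj.1 zg)
  have A : ∀ e ∈ cj g E, (e ∈ R ∧ w * e * w⁻¹ = e) ∨ (e ∉ R ∧ w * e * w⁻¹ = z * e) :=
    ew ▸ act ec Fe w hw
  have B : ∀ e ∈ cj g E, (e ∈ cj g R ∧ g * v * g⁻¹ * e * (g * v * g⁻¹)⁻¹ = e) ∨
      (e ∉ cj g R ∧ g * v * g⁻¹ * e * (g * v * g⁻¹)⁻¹ = z * e) := fun e he => by
    have e0 : g * v * g⁻¹ * e * (g * v * g⁻¹)⁻¹ = g * (v * (g⁻¹ * e * g) * v⁻¹) * g⁻¹ := by group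
    rw [e0, mem_cj]
    refine (act EP Ee v hv _ (mem_cj.1 he)).imp (fun h => ⟨h.1, ?_⟩) fun h => ⟨h.1, ?_⟩
    · rw [h.2]; group
    · rw [h.2, ev]; group
  have v4 : (g * v * g⁻¹) ^ 2 ^ 2 = 1 := by rw [conj_pow, show 2 ^ 2 = 4 from rfl, d.pow4 hv]; simp
  generalize g * v * g⁻¹ = u at B v4
  have zF := RF zR
  have wz : w * z * w⁻¹ = z := ((A z zF).resolve_right fun h => h.1 zR).2
  have uz : u * z * u⁻¹ = z := ((B z zF).resolve_right fun h => h.1 zg).2
  have nrm : ∀ {x : G} {X : Subgroup G}, (∀ e ∈ cj g E, (e ∈ X ∧ x * e * x⁻¹ = e) ∨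
      (e ∉ X ∧ x * e * x⁻¹ = z * e)) → x ∈ normalizer ((cj g E : Subgroup G) : Set G) :=
    fun h => mem_normalizer_of_cj_le (by
      rintro _ ⟨e, he, rfl⟩
      rcases h e he with h | h <;> rw [MulEquiv.coe_toMonoidHom, MulAut.conj_apply, h.2]
      exacts [he, mul_mem zF he])
  have wN := nrm A
  have uN := nrm B
  have k : w * u * w⁻¹ * u⁻¹ ∈ centralizer ((cj g E : Subgroup G) : Set G) := by
    have key : ∀ e ∈ cj g E, w * (u * e * u⁻¹) * w⁻¹ = u * (w * e * w⁻¹) * u⁻¹ := fun e he => by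
      rcases A e he with h | h <;> rcases B e he with h' | h' <;>
        simp only [h.2, h'.2, ← conj_mul, wz, uz]
    refine mem_centralizer_iff.2 fun e he => ?_
    have := key _ (conj_mem_of_mem_normalizer' wN (conj_mem_of_mem_normalizer' uN he))
    calc e * (w * u * w⁻¹ * u⁻¹) = u * (w * (w⁻¹ * (u⁻¹ * e * u) * w) * w⁻¹) * u⁻¹ *
          (w * u * w⁻¹ * u⁻¹) := by group
      _ = _ := by rw [← this]; group
  set C := centralizer ((cj g E : Subgroup G) : Set G) with hC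
  have uC : zpowers u ≤ normalizer (C : Set G) :=
    zpowers_le.2 (normalizer_le_normalizer_centralizer _ uN)
  have wY : w ∈ normalizer ((C ⊔ zpowers u : Subgroup G) : Set G) := mem_normalizer_of_cj_le (by
    rw [cj_sup, cj_eq_self (normalizer_le_normalizer_centralizer _ wN)]
    refine sup_le le_sup_left ((MonoidHom.map_zpowers _ _).le.trans (zpowers_le.2 ?_))
    simpa using mul_mem_sup k (mem_zpowers u))
  obtain ⟨S, hS, wS⟩ := exists_isSyl_le (H := (C ⊔ zpowers u) ⊔ zpowers w)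
    (isPGroup_zpowers (p := 2) (k := 2) (d.pow4 hw)) le_sup_right
  have FC : cj g E ≤ C := fun e he => mem_centralizer_iff.2 fun f hf => by
    obtain ⟨e, he, rfl⟩ := he
    obtain ⟨f, hf, rfl⟩ := hf
    rw [← map_mul, ← map_mul, Ec f hf e he]
  have FS : cj g E ≤ S := hS.le_of_le_normalizer (isPGroup_cj _ pE)
    (FC.trans (le_sup_left.trans le_sup_left)) (hS.le.trans (sup_le (sup_le
      (centralizer_le_normalizer _) (zpowers_le.2 uN)) (zpowers_le.2 wN)))
  obtain ⟨y, hy, ey⟩ := (hS.inf_of_le_normalizer le_sup_left (hS.le.trans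
    (sup_le le_normalizer (zpowers_le.2 wY)))).exists_cj_le (isPGroup_zpowers v4) le_sup_right
  obtain ⟨c, hc, x, ⟨i, rfl⟩, rfl⟩ := (mem_sup_right_norm uC).1 hy
  have uS : c * u * c⁻¹ ∈ S := by
    have := (ey (conj_mem_cj (mem_zpowers u))).1
    rwa [mul_assoc c, (Commute.zpow_self u i).eq, mul_inv_rev, ← mul_assoc, ← mul_assoc,
      mul_inv_cancel_right] at this
  obtain ⟨n, -, hn⟩ := hP.exists_cj_le hS.isPGroup le_top
  have Rn : R ≤ cj n (cj g E) := d.big ((cj_mono n FS).trans hn) (by rw [cj_cj]; exact Fe)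
    (by rw [card_cj, card_cj, cE])
  have fix : ∀ x ∈ S, ∀ e ∈ cj n⁻¹ R, x * e * x⁻¹ = e := by
    rintro x hx _ ⟨r, hr, rfl⟩
    have := d.cen r hr _ (hn (conj_mem_cj hx))
    calc _ = n⁻¹ * (n * x * n⁻¹ * r) * n * x⁻¹ := by simp [mul_assoc]
      _ = _ := by rw [this]; simp [mul_assoc]
  have RnF : cj n⁻¹ R ≤ cj g E := le_cj_iff.1 Rn
  have e1 : cj n⁻¹ R = R := eq_of_le_of_card_ge (fun e he => ((A e (RnF he)).resolve_right fun h =>
    z1 (by simpa [fix w (wS (mem_zpowers w)) e he] using h.2.symm)).1) (card_cj _ _).ge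
  refine nle fun e he => ((B e (RF he)).resolve_right fun h => z1 ?_).1
  have h2 := fix _ uS e (e1.ge he)
  have c1 := mem_centralizer_iff.1 hc e (RF he)
  have c2 := mem_centralizer_iff.1 hc z zF
  have : c * (u * e * u⁻¹) * c⁻¹ = e := by
    calc _ = c * u * c⁻¹ * (c * e) * u⁻¹ * c⁻¹ := by group
      _ = c * u * c⁻¹ * e * (c * u * c⁻¹)⁻¹ := by rw [← c1]; group
      _ = _ := h2
  rw [h.2, ← conj_mul, ← c1, ← c2] at this
  simpa using this

end WL

theorem jobWL2 : JobWL2.{u} := by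
  intro G _ _ H R W P t hH hP d
  have hG : ∀ N : Subgroup H, N.Normal → N.index ≠ 2 := fun N _ h2 => by
    have h1 : commutator H = ⊤ := map_injective H.subtype_injective (by
      rw [map_subtype_commutator, hH, ← MonoidHom.range_eq_map, range_subtype])
    have : N = ⊤ := top_le_iff.1 (h1.ge.trans (commutator_le.2 fun a _ b _ => by
      simp [commutatorElement_def, mul_mem_iff_of_index_two h2]
      tauto))
    simp [this] at h2
  have e := d.sub hP.le
  rcases e.alt with ⟨h1, h2⟩ | h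
  · by_cases h3 : (⟨t, hP.le d.tP⟩ : H) * ⟨t, hP.le d.tP⟩ = 1
    · exact e.case2 hP.subgroupOf_top hG h2 h3
    · exact e.case4 hP.subgroupOf_top hG h1 h2 h3
  · exact e.case8 hP.subgroupOf_top hG h

end H89.ON2
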