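import Cfsg.Agent.H89.ON2WL2
import Cfsg.Agent.H89.ON2Kit

/-! ON2, job WNE: `B` normal in `T` and `R` not elementary abelian. -/

set_option autoImplicit false
set_option linter.unusedSectionVars false

namespace H89.ON2

open MulAction Cfsg Subgroup H89.K H98

universe u

structure NE {G Ω : Type*} [Group G] [MulAction G Ω] (N : Ω → Subgroup G) (a b : Ω)
    (R R' P : Subgroup G) (s h : G) : Prop extends A2 N a b R R' P s where
  wp : Wn R R' P = P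
  nel : ∃ r ∈ R, r * r ≠ 1
  hP : h ∈ P
  hR : h ∉ R

namespace NE

variable {G Ω : Type u} [Group G] [Finite G] [MulAction G Ω] {N : Ω → Subgroup G} {a b : Ω}
  {R R' P : Subgroup G} {s h : G} (d : NE N a b R R' P s h)
include d

theorem s2 : S2 N a b R R' P s := d.toA2.toS2

theorem pW {w : G} (hw : w ∈ P) : w ∈ Wn R R' P := d.wp.ge hw

theorem hi {r : G} (hr : r ∈ R) : h * r * h⁻¹ = r⁻¹ := d.winv h (d.pW d.hP) d.hR r hr

theorem hb : h • b ≠ b := fun e => d.hR (d.pk h d.hP e)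

/-- Squaring is not onto `R`. -/
theorem nsq (hs : ∀ r ∈ R, ∃ x ∈ R, x * x = r) : False := by
  haveI : Fact (Nat.Prime 2) := ⟨Nat.prime_two⟩
  have sur : Function.Surjective fun x : R => x * x := fun r =>
    let ⟨x, hx, e⟩ := hs r r.2; ⟨⟨x, hx⟩, Subtype.ext e⟩
  obtain ⟨r, hr⟩ := exists_prime_orderOf_dvd_card' (G := R) 2
    ((d.sylR.isPGroup.card_eq_or_dvd).resolve_left fun e => d.rne (card_eq_one.1 e))
  have := Finite.injective_iff_surjective.2 sur (a₁ := r) (a₂ := 1) (by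
    simp only [mul_one]
    rw [← sq, ← hr, pow_orderOf_eq_one])
  simp [this] at hr

theorem cB_of {n : G} (h1 : ∀ r ∈ R, n * r = r * n) (h2 : ∀ l ∈ R', n * l = l * n) {x : G}
    (hx : x ∈ R ⊔ R') : n * x = x * n := by
  obtain ⟨r, hr, l, hl, rfl⟩ := d.decB x hx
  rw [← mul_assoc, h1 r hr, mul_assoc, h2 l hl, mul_assoc]

theorem cL {n : G} (hn : n ∈ N a) (hb : n • b = b) {l : G} (hl : l ∈ R') : n * l = l * n :=
  d.s2.tI.comm d.hab ⟨hn, hb⟩ (d.s2.mR' hl)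

theorem c0 {n : G} (hn : n ∈ N a) (hB : n ∈ normalizer ((R ⊔ R' : Subgroup G) : Set G))
    (hc : ∀ r ∈ R, n * r = r * n) {x : G} (hx : x ∈ R ⊔ R') : n * x = x * n := by
  refine d.cB_of hc (fun l hl => d.cL hn ?_ hl) hx
  by_contra hb
  have key : ∀ {r l : G}, r ∈ R → n * l * n⁻¹ = r * l → n * n * l * (n * n)⁻¹ = r * r * l :=
    fun {r l} hr e => by
      calc _ = n * (n * l * n⁻¹) * n⁻¹ := by group
        _ = n * r * n⁻¹ * (n * l * n⁻¹) := by rw [conj_mul, ← e]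
        _ = _ := by rw [e, hc r hr]; group
  by_cases h2 : (n * n) • b = b
  · obtain ⟨r, hr, r2⟩ := d.nel
    obtain ⟨l, hl, e⟩ := d.surj n hn hB hb r hr
    have := key hr e
    rw [d.cL (mul_mem hn hn) h2 hl, mul_inv_cancel_right, right_eq_mul] at this
    exact r2 this
  · refine d.nsq fun r hr => ?_
    obtain ⟨l, hl, e⟩ := d.surj _ (mul_mem hn hn) (mul_mem hB hB) h2 r hr
    obtain ⟨x, hx, e'⟩ := (d.nR n hn hB).2 l hl
    exact ⟨x, hx, mul_right_cancel ((key hx e').symm.trans e)⟩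

theorem two {w : G} (hw : w ∈ P) : w ∈ R ∨ h⁻¹ * w ∈ R := by
  by_contra hn
  push Not at hn
  obtain ⟨r, hr, r2⟩ := d.nel
  have := d.winv _ (d.pW (mul_mem (inv_mem d.hP) hw)) hn.2 r hr
  refine r2 (mul_eq_one_iff_eq_inv.2 ?_)
  rw [← this]
  calc r = h⁻¹ * (h * r * h⁻¹) * h := by group
    _ = _ := by rw [d.hi hr, ← d.winv w (d.pW hw) hn.1 r hr]; group

theorem c1 {n : G} (hn : n ∈ N a) (hB : n ∈ normalizer ((R ⊔ R' : Subgroup G) : Set G)) :
    (∀ x ∈ R ⊔ R', n * x = x * n) ∨ ∀ x ∈ R ⊔ R', h * n * x = x * (h * n) := by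
  have hN := d.s2.mP d.hP
  have hB' := (d.pW d.hP).2
  have nR := (d.nR n hn hB).1
  have k : ∀ x ∈ R ⊔ R', h⁻¹ * n⁻¹ * h * n * x = x * (h⁻¹ * n⁻¹ * h * n) := fun x hx =>
    d.c0 (mul_mem (mul_mem (mul_mem (inv_mem hN) (inv_mem hn)) hN) hn)
      (mul_mem (mul_mem (mul_mem (inv_mem hB') (inv_mem hB)) hB') hB) (fun r hr => by
        calc _ = h⁻¹ * n⁻¹ * (h * (n * r * n⁻¹) * h⁻¹) * h * n := by group
          _ = h⁻¹ * (h * r * h⁻¹) * n⁻¹ * h * n := by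
            rw [d.hi (conj_mem_of_mem_normalizer nR hr), d.hi hr]; group
          _ = _ := by group) hx
  have f : ∀ {l x y : G}, l ∈ R' → x ∈ R → h * l * h⁻¹ = y * l → n * l * n⁻¹ = x * l →
      n * y * n⁻¹ * x = x⁻¹ * y := fun {l x y} hl hx e1 e2 => by
    refine mul_right_cancel (b := l) ?_
    calc _ = n * (y * l) * n⁻¹ := by rw [mul_assoc _ x, ← e2]; group
      _ = n * h * (h⁻¹ * n⁻¹ * h * n * l) * (h * n)⁻¹ := by
        rw [← e1, k l (d.s2.lB hl)]; group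
      _ = h * (n * l * n⁻¹) * h⁻¹ := by group
      _ = h * x * h⁻¹ * (h * l * h⁻¹) := by rw [e2]; group
      _ = _ := by rw [d.hi hx, e1, mul_assoc]
  by_cases hb : n • b = b
  · refine Or.inl fun x hx => d.cB_of (fun r hr => ?_) (fun l hl => d.cL hn hb hl) hx
    obtain ⟨l, hl, e⟩ := d.surj h hN hB' d.hb r hr
    simpa [mul_inv_eq_iff_eq_mul] using
      f hl (one_mem R) e (by rw [d.cL hn hb hl]; group)
  have g : ∀ {l x : G}, n * l * n⁻¹ = x * l → n * n * l * (n * n)⁻¹ = n * x * n⁻¹ * x * l :=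
    fun {l x} e => by
      calc _ = n * (n * l * n⁻¹) * n⁻¹ := by group
        _ = n * x * n⁻¹ * (n * l * n⁻¹) := by rw [conj_mul, ← e]
        _ = _ := by rw [e]; group
  have h2 : (n * n) • b = b := by
    by_contra h2
    refine d.nsq fun r hr => ?_
    obtain ⟨l, hl, e⟩ := d.surj _ (mul_mem hn hn) (mul_mem hB hB) h2 r hr
    obtain ⟨x, hx, e'⟩ := (d.nR n hn hB).2 l hl
    obtain ⟨l', hl', e1⟩ := d.surj h hN hB' d.hb x hx
    obtain ⟨y, hy, e2⟩ := (d.nR n hn hB).2 l' hl'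
    refine ⟨x * y⁻¹, mul_mem hx (inv_mem hy), ?_⟩
    rw [← mul_right_cancel ((g e').symm.trans e), eq_mul_inv_of_mul_eq (f hl' hy e1 e2),
      ← d.s2.cRR hx (inv_mem hy), mul_assoc (x * y⁻¹), d.s2.cRR hx (inv_mem hy)]
  refine Or.inr fun x hx => d.c0 (mul_mem hN hn) (mul_mem hB' hB) (fun r hr => ?_) hx
  obtain ⟨l, hl, e⟩ := d.surj n hn hB hb r hr
  have := g e
  rw [d.cL (mul_mem hn hn) h2 hl, mul_inv_cancel_right, right_eq_mul] at this
  calc h * n * r = h * (n * r * n⁻¹) * h⁻¹ * (h * n) := by group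
    _ = _ := by rw [eq_inv_of_mul_eq_one_left this, d.hi (inv_mem hr), inv_inv]

theorem twoT {x : G} (hx : x ∈ P ⊔ R') : x ∈ R ⊔ R' ∨ h⁻¹ * x ∈ R ⊔ R' := by
  obtain ⟨w, hw, l, hl, rfl⟩ := d.decT x hx
  exact (d.two hw).imp (mul_mem_sup · hl) fun h => mul_assoc _ w l ▸ mul_mem_sup h hl

theorem wc {g : G} (hg : cj g (R ⊔ R') ≤ P ⊔ R') :
    g ∈ normalizer ((R ⊔ R' : Subgroup G) : Set G) := by
  refine mem_normalizer_of_cj_le ?_
  by_contra hn
  obtain ⟨e, he, heB⟩ := SetLike.not_le_iff_exists.1 hn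
  have he' := (d.twoT (hg he)).resolve_left heB
  have c1 := card_le_two_mul (A := cj g (R ⊔ R')) (B := cj g (R ⊔ R') ⊓ (R ⊔ R')) e fun y hy =>
    (d.twoT (hg hy)).imp (⟨hy, ·⟩) fun h' => mem_inf.2 ⟨mul_mem (inv_mem he) hy, by
      simpa [mul_assoc] using mul_mem (inv_mem he') h'⟩
  have ch : ∀ y ∈ cj g (R ⊔ R') ⊓ (R ⊔ R'), h * y = y * h := fun y hy => by
    have c : e * y = y * e := by
      obtain ⟨e', he2, rfl⟩ := he
      obtain ⟨y', hy', rfl⟩ := hy.1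
      rw [← map_mul, ← map_mul, d.abB _ he2 _ hy']
    calc h * y = h * (y * (h⁻¹ * e)) * e⁻¹ * h := by group
      _ = _ := by rw [← d.abB _ he' _ hy.2, ← mul_assoc, mul_inv_cancel_left, c]; group
  choose f hf l hl el using fun y : ↥(cj g (R ⊔ R') ⊓ (R ⊔ R')) => d.decB y y.2.2
  have c2 : Nat.card ↥(cj g (R ⊔ R') ⊓ (R ⊔ R')) ≤ Nat.card R := by
    refine Nat.card_le_card_of_injective (fun y => ⟨f y, hf y⟩) fun y z e => Subtype.ext ?_
    have e : f y = f z := congrArg Subtype.val e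
    have e1 : (z : G)⁻¹ * y = (l z)⁻¹ * l y := by rw [el y, el z, e]; group
    have c := ch _ (mul_mem (inv_mem z.2) y.2)
    rw [e1] at c
    have : (l z)⁻¹ * l y = 1 := by
      by_contra h1
      exact d.hR (d.s2.cP (mul_mem (inv_mem (hl z)) (hl y)) h1 d.hP c)
    rw [← e1, inv_mul_eq_one] at this
    exact this.symm
  have c3 : 2 < Nat.card R := by
    obtain ⟨r, hr, r2⟩ := d.nel
    haveI := Fintype.ofFinite R
    rw [Nat.card_eq_fintype_card, Fintype.two_lt_card_iff]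
    refine ⟨1, ⟨r, hr⟩, ⟨r⁻¹, inv_mem hr⟩, fun e => r2 ?_, fun e => r2 ?_, fun e => r2 ?_⟩
    · have e : (1 : G) = r := congrArg Subtype.val e
      rw [← e, mul_one]
    · simp [inv_eq_one.1 (congrArg Subtype.val e : (1 : G) = r⁻¹).symm]
    · exact mul_eq_one_iff_eq_inv.2 (congrArg Subtype.val e)
  rw [card_cj, d.s2.card_B] at c1
  nlinarith

theorem exists_z : ∃ z ∈ R ⊔ R', z * z ∈ R ∧ z * z ≠ 1 ∧ z * z * (z * z) = 1 ∧ h * z = z * h := by
  haveI : Fact (Nat.Prime 2) := ⟨Nat.prime_two⟩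
  obtain ⟨r, hr, r2, r4⟩ : ∃ r ∈ R, r * r ≠ 1 ∧ r * r * (r * r) = 1 := by
    obtain ⟨r, hr, r2⟩ := d.nel
    obtain ⟨k, hk⟩ := isPGroup_iff_forall.1 d.sylR.isPGroup r hr
    induction k generalizing r with
    | zero => simp_all
    | succ k ih =>
      by_cases h4 : r * r * (r * r) = 1
      · exact ⟨r, hr, r2, h4⟩
      · exact ih (r * r) (mul_mem hr hr) h4 (by rw [← sq, ← pow_mul, ← pow_succ', hk])
  obtain ⟨l, hl, e⟩ := d.surj h (d.s2.mP d.hP) (d.pW d.hP).2 d.hb _ (mul_mem hr hr)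
  have ll : l * l = 1 := by
    by_contra h1
    refine d.hR (d.s2.cP (mul_mem hl hl) h1 d.hP (mul_inv_eq_iff_eq_mul.1 ?_))
    rw [← conj_mul, e, mul_assoc, ← mul_assoc l, ← d.s2.cRL (mul_mem hr hr) hl, ← mul_assoc,
      ← mul_assoc, r4]
    group
  have zz : r * l * (r * l) = r * r := by
    rw [mul_assoc, ← mul_assoc l, ← d.s2.cRL hr hl, mul_assoc r l, ll, mul_one]
  refine ⟨r * l, mul_mem_sup hr hl, zz ▸ mul_mem hr hr, zz ▸ r2, zz ▸ r4,
    mul_inv_eq_iff_eq_mul.1 ?_⟩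
  rw [← conj_mul, d.hi hr, e]
  group

section

variable {z : G} (hz : z ∈ R ⊔ R') (z2 : z * z ∈ R) (z1 : z * z ≠ 1) (z4 : z * z * (z * z) = 1)
  (zh : h * z = z * h)
include hz zh

theorem zT {x : G} (hx : x ∈ P ⊔ R') : x * z = z * x := by
  rcases d.twoT hx with h' | h'
  · exact d.abB _ h' _ hz
  · rw [← mul_inv_cancel_left h x, mul_assoc, d.abB _ h' _ hz, ← mul_assoc, zh, mul_assoc]

theorem zN {n : G} (hn : n ∈ N a ⊔ R') (hB : n ∈ normalizer ((R ⊔ R' : Subgroup G) : Set G)) :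
    n * z = z * n := by
  obtain ⟨w, hw, l, hl, rfl⟩ := d.decG n hn
  have : w * z = z * w := by
    rcases d.c1 hw ((mul_mem_cancel_right (le_normalizer (d.s2.lB hl))).1 hB) with c | c
    · exact c z hz
    · have := c z hz
      rwa [mul_assoc, ← mul_assoc z, ← zh, mul_assoc, mul_right_inj] at this
  rw [mul_assoc, d.abB _ (d.s2.lB hl) _ hz, ← mul_assoc, this, mul_assoc]

theorem sylC {g y : G} (hg : g ∈ N a ⊔ R') (hy : ∀ x ∈ P ⊔ R', x * y = y * x) :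
    IsSyl 2 (cj g (P ⊔ R')) ((N a ⊔ R') ⊓ centralizer {g * y * g⁻¹}) :=
  (d.sylT.cj_of_mem hg).of_le (le_inf (d.sylT.cj_of_mem hg).le (by
    rintro _ ⟨x, hx, rfl⟩
    refine mem_centralizer_singleton_iff.2 ?_
    simp only [MulEquiv.coe_toMonoidHom, MulAut.conj_apply, conj_mul, hy x hx])) inf_le_left

include z2 z1 z4

theorem zw {g : G} (hg : g ∈ N a ⊔ R') (hx : g * z * g⁻¹ ∈ P ⊔ R') : g * z * g⁻¹ = z := by
  haveI : Fact (Nat.Prime 2) := ⟨Nat.prime_two⟩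
  by_cases xB : g * z * g⁻¹ ∈ R ⊔ R'
  · obtain ⟨c, hc, ec⟩ := (d.sylC hz zh hg fun x => d.zT hz zh).exists_cj_le d.s2.pB
      (le_inf (d.s2.BT.trans d.s2.TG) fun x hx => mem_centralizer_singleton_iff.2 (d.abB _ hx _ xB))
    rw [le_cj_iff, cj_cj] at ec
    have := d.zN hz zh (mul_mem (inv_mem hg) hc.1) (d.wc ec)
    have c2 := mem_centralizer_singleton_iff.1 hc.2
    refine mul_left_cancel (a := c) ?_
    rw [c2]
    calc _ = g * (z * (g⁻¹ * c)) := by group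
      _ = _ := by rw [← this]; group
  exfalso
  have ga : g • a = a := d.s2.G_stab hg
  have xx : g * z * g⁻¹ * (g * z * g⁻¹) ∈ R := by
    refine d.bn _ ?_ (by rw [conj_mul]; exact d.s2.tI.conj_of_fix ga (d.s2.mR z2).1)
    have h1 := (d.twoT hx).resolve_left xB
    have h2 : g * z * g⁻¹ * (g * z * g⁻¹) =
        h * (h⁻¹ * (g * z * g⁻¹)) * h⁻¹ * (h * h) * (h⁻¹ * (g * z * g⁻¹)) := by group
    rw [h2]
    exact mul_mem (mul_mem (conj_mem_of_mem_normalizer (d.pW d.hP).2 h1)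
      (d.s2.rB (d.wsq h (d.pW d.hP)))) h1
  have x4 : g * z * g⁻¹ * (g * z * g⁻¹) * (g * z * g⁻¹ * (g * z * g⁻¹)) = 1 := by
    rw [conj_mul, conj_mul, z4]; simp
  obtain ⟨l, hl, e⟩ : ∃ l ∈ R', l⁻¹ * (g * z * g⁻¹) * l = (g * z * g⁻¹)⁻¹ := by
    generalize g * z * g⁻¹ = x at hx xB xx x4
    obtain ⟨w, hw, m, hm, ex⟩ := d.decT x hx
    obtain ⟨l, hl, e⟩ := d.surj w (d.s2.mP hw) (d.pW hw).2
      (fun e => xB (ex ▸ mul_mem_sup (d.pk w hw e) hm)) _ xx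
    refine ⟨l, hl, ?_⟩
    have e2 : x * l * x⁻¹ = x * x * l := by
      rw [← e, ex, mul_assoc w, d.s2.cLL hm hl]; group
    calc l⁻¹ * x * l = l⁻¹ * (x * l * x⁻¹) * x := by group
      _ = x * x * x := by rw [e2, d.s2.cRL xx hl]; group
      _ = x⁻¹ := by rw [eq_inv_iff_mul_eq_one, ← x4]; group
  have yi : g⁻¹ * l⁻¹ * g * z * (g⁻¹ * l⁻¹ * g)⁻¹ = z⁻¹ := by
    calc _ = g⁻¹ * (l⁻¹ * (g * z * g⁻¹) * l) * g := by group
      _ = _ := by rw [e]; group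
  have yG : g⁻¹ * l⁻¹ * g ∈ N a ⊔ R' :=
    mul_mem (mul_mem (inv_mem hg) (inv_mem (mem_sup_right hl))) hg
  obtain ⟨k, hk⟩ := isPGroup_iff_forall.1 d.sylR'.isPGroup _ (inv_mem hl)
  have y2 : (g⁻¹ * l⁻¹ * g) ^ 2 ^ k = 1 := by
    rw [← inv_inv g, inv_inv g⁻¹, conj_pow, hk]; simp
  generalize g⁻¹ * l⁻¹ * g = y at yi yG y2
  have Tc : P ⊔ R' ≤ centralizer (zpowers z : Set G) := fun x hx =>
    mem_centralizer_iff.2 fun _ ⟨i, e⟩ => e ▸ (Commute.zpow_left (d.zT hz zh hx).symm i).eq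
  obtain ⟨n, hn, en⟩ := (d.sylT.of_le (le_inf d.s2.TG (Tc.trans (centralizer_le_normalizer _)))
    inf_le_left).exists_cj_le (isPGroup_zpowers y2) (zpowers_le.2 (mem_inf.2 ⟨yG,
      mem_normalizer_of_cj_le (by
        rintro _ ⟨x, ⟨i, rfl⟩, rfl⟩
        exact ⟨-i, by simp [← conj_zpow, yi]⟩)⟩))
  have := conj_mem_of_mem_normalizer' (normalizer_le_normalizer_centralizer _ hn.2)
    (Tc (en (conj_mem_cj (mem_zpowers y))))
  have := mem_centralizer_iff.1 this z (mem_zpowers z)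
  simp only [mul_assoc, inv_mul_cancel_left, inv_mul_cancel, mul_one] at this
  rw [← this, mul_inv_cancel_right] at yi
  exact z1 (mul_eq_one_iff_eq_inv.2 yi)

theorem contra : False := by
  haveI : Fact (Nat.Prime 2) := ⟨Nat.prime_two⟩
  have zT' : ∀ x ∈ P ⊔ R', x * (z * z) = z * z * x := fun x hx =>
    (Commute.mul_right (d.zT hz zh hx) (d.zT hz zh hx)).eq
  have c := d.zc a (N a ⊔ R') (P ⊔ R') (z * z) le_sup_left d.s2.G_stab d.sylT
    (d.s2.BT (d.s2.rB z2)) z4 fun g hg hx => by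
      obtain ⟨c, hc, ec⟩ := (d.sylC hz zh hg zT').exists_cj_le (Q := zpowers z)
        (d.s2.pB.to_le (zpowers_le.2 hz)) (zpowers_le.2 (mem_inf.2 ⟨d.s2.TG (d.s2.BT hz),
          mem_centralizer_singleton_iff.2 (d.zT hz zh hx).symm⟩))
      have h1 := mem_cj.1 (ec (conj_mem_cj (mem_zpowers z)))
      have h2 := d.zw hz z2 z1 z4 zh (mul_mem (inv_mem hg) hc.1) (by simpa [mul_assoc] using h1)
      have c2 := mem_centralizer_singleton_iff.1 hc.2
      refine mul_left_cancel (a := c) ?_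
      rw [c2]
      calc _ = g * (z * z) * (g⁻¹ * c) := by group
        _ = g * (g⁻¹ * c * z * (g⁻¹ * c)⁻¹ * (g⁻¹ * c * z * (g⁻¹ * c)⁻¹)) * (g⁻¹ * c) := by rw [h2]
        _ = _ := by group
  obtain ⟨g, hg, hne⟩ := d.o2 a _ (d.s2.mR z2).1 z4 z1
  exact hne (c _ (d.s2.tI.conj_of_fix (d.fix a g hg) (d.s2.mR z2).1))

end

end NE

theorem jobWNE : JobWNE.{u} := by
  intro G Ω _ _ _ N a b R R' P s d hW hr
  obtain ⟨h, hh, hR⟩ := d.wne
  have e : NE N a b R R' P s h := ⟨d, hW, hr, hh.1, hR⟩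
  obtain ⟨z, hz, z2, z1, z4, zh⟩ := e.exists_z
  exact e.contra hz z2 z1 z4 zh

end H89.ON2
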