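import Cfsg.Agent.H89.Wagner

/-!
The Ostrom–Wagner theorem: a finite projective plane with a collineation group that is
2-transitive on points is Desarguesian.
-/

set_option autoImplicit false
set_option linter.unusedSectionVars false

namespace H89

open MulAction

theorem exists_ext_two {G : Type*} [Group G] [Finite G] {U S : Subgroup G} (hS : IsPGroup 2 S)
    (h : U < S) : ∃ t ∈ S, t ∉ U ∧ t ∈ Subgroup.normalizer (U : Set G) ∧ t * t ∈ U := by
  obtain ⟨x, x1, x2, x3⟩ := exists_mem_normalizer_of_lt hS h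
  obtain ⟨k, hk⟩ := hS ⟨x, x1⟩
  replace hk : x ^ 2 ^ k ∈ U := by
    rw [show x ^ 2 ^ k = 1 from congrArg Subtype.val hk]; exact one_mem _
  induction k with
  | zero => exact absurd (by simpa using hk) x2
  | succ k ih =>
    by_cases e : x ^ 2 ^ k ∈ U
    · exact ih e
    · exact ⟨_, pow_mem x1 _, e, pow_mem x3 _, by rwa [← pow_add, ← mul_two, ← pow_succ]⟩

theorem isPGroup_zpowers {G : Type*} [Group G] {p : ℕ} {g : G} (gp : g ^ p = 1) :
    IsPGroup p (Subgroup.zpowers g) := by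
  rintro ⟨_, k, rfl⟩
  refine ⟨1, Subtype.ext ?_⟩
  change (g ^ k) ^ p ^ 1 = 1
  rw [pow_one, ← zpow_natCast, ← zpow_mul, mul_comm, zpow_mul, zpow_natCast, gp, one_zpow]

theorem Pl.exists_quad {P L : Type*} {I : P → L → Prop} {n : ℕ} (h : Pl I n) :
    ∃ a b c d, Quad I a b c d := by
  obtain ⟨l⟩ := h.neL
  obtain ⟨x, y, xy, hx, hy⟩ := h.exists_two l
  obtain ⟨u, hu, ux, uy⟩ := h.exists_point_ne l x y
  obtain ⟨z, hz, -⟩ := h.exists_off l l
  obtain ⟨m, m1, m2⟩ := h.join' z u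
  obtain ⟨w, hw, wz, wu⟩ := h.exists_point_ne m z u
  have ml : m ≠ l := fun e => hz (e ▸ m1)
  refine ⟨x, y, z, w, fun k => ⟨?_, ?_, ?_, ?_⟩⟩ <;> rintro ⟨h1, h2, h3⟩
  · exact hz (h.line_eq xy h1 h2 hx hy ▸ h3)
  · exact wu (h.point_eq ml hw (h.line_eq xy h1 h2 hx hy ▸ h3) m2 hu)
  · exact ux (h.point_eq ml m2 hu (h.line_eq wz h3 h2 hw m1 ▸ h1) hx)
  · exact uy (h.point_eq ml m2 hu (h.line_eq wz h3 h2 hw m1 ▸ h1) hy)

namespace Act

variable {G P L : Type*} [Group G] [MulAction G P] [MulAction G L] {I : P → L → Prop} {n : ℕ}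
  [Finite G] [Finite P] [Finite L]

theorem good_of_ce (h : Act G I n) {p : ℕ} (pp : p.Prime) (hp : p ∣ n) {w : G} (w1 : w ≠ 1)
    (wp : w ^ p = 1) {c : P} (hc : Ce I w c) : ∃ a, Good G I c a := by
  obtain ⟨a, ha⟩ := h.exists_ax hc
  refine ⟨a, by_contra fun hca => ?_, w, w1, hc, ha⟩
  have h1 := Set.ncard_sdiff_singleton_add_one (s := {x | ¬ I x a}) (a := c) hca
  rw [h.ncard_off] at h1
  obtain ⟨x, hx, hx'⟩ := exists_fixed_of_not_dvd_ncard pp (isPGroup_zpowers wp)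
    ({x | ¬ I x a} \ {c}) (Set.toFinite _) (by
      rintro k x ⟨hx, hxc⟩
      have k1 : (k : G) • c = c := (Subgroup.zpowers_le (H := stabilizer G c)).2 (h.ce_fix hc) k.2
      have k2 : (k : G) • a = a := (Subgroup.zpowers_le (H := stabilizer G a)).2 (h.ax_fix ha) k.2
      exact ⟨h.T_smul_off k2 hx, fun h' => hxc (smul_left_cancel (k : G) (h'.trans k1.symm))⟩)
    fun e => pp.one_lt.ne' (Nat.dvd_one.1 ((Nat.dvd_add_right e).1
      (h1 ▸ hp.trans (dvd_pow_self n two_ne_zero))))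
  exact (h.fix_cases w1 hc ha (hx' ⟨w, Subgroup.mem_zpowers w⟩)).elim hx.2 hx.1

theorem exists_persp (h : Act G I n) {U : Subgroup G} {k : ℕ} (hU : Planar I (U : Set G))
    (hk : Pl (res I U) k) {t : G} (ht : t ∈ Subgroup.normalizer (U : Set G)) (htt : t * t ∈ U)
    (hnp : ¬ Planar I ((U ⊔ Subgroup.zpowers t : Subgroup G) : Set G)) :
    ∃ τ : Coll (res I U), τ ≠ 1 ∧ τ * τ = 1 ∧ (∃ c a, Ce (res I U) τ c ∧ Ax (res I U) τ a) ∧
      (∀ x : fixedPoints U P, ((τ • x : fixedPoints U P) : P) = t • (x : P)) ∧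
      ∀ l : fixedPoints U L, ((τ • l : fixedPoints U L) : L) = t • (l : L) := by
  obtain ⟨τ, h1, h2⟩ := h.exists_ind ht
  have ττ : τ * τ = 1 := hk.act.faith fun x => Subtype.ext (by
    rw [mul_smul, h1, h1, ← mul_smul, mem_fixedPoints_sub.1 x.2 _ htt])
  have fx : ∀ x : fixedPoints U P, τ • x = x → ∀ g ∈ U ⊔ Subgroup.zpowers t, g • (x : P) = x :=
    fun x hx => (sup_le (mem_fixedPoints_sub.1 x.2) (Subgroup.zpowers_le.2 (by
      rw [mem_stabilizer_iff, ← h1, hx])) : U ⊔ Subgroup.zpowers t ≤ stabilizer G (x : P))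
  have np : ¬ Planar (res I U) {τ} := by
    rintro ⟨a, b, c, d, q, hq⟩
    obtain ⟨fa, fb, fc, fd⟩ := hq τ rfl
    obtain ⟨ab, ac, ad, bc, bd, cd⟩ := hk.quad_ne q
    have key : ∀ {x y : fixedPoints U P} {l}, x ≠ y → I x l → I y l → l ∈ fixedPoints U L :=
      fun {x y l} xy hx hy g => h.fix_line (g := (g : G)) (fun e => xy (Subtype.ext e)) (x.2 g)
        (y.2 g) hx hy
    refine hnp ⟨a, b, c, d, fun l => ⟨?_, ?_, ?_, ?_⟩,
      fun g hg => ⟨fx a fa g hg, fx b fb g hg, fx c fc g hg, fx d fd g hg⟩⟩ <;> intro e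
    · exact (q ⟨l, key ab e.1 e.2.1⟩).1 e
    · exact (q ⟨l, key ab e.1 e.2.1⟩).2.1 e
    · exact (q ⟨l, key ac e.1 e.2.1⟩).2.2.1 e
    · exact (q ⟨l, key bc e.1 e.2.1⟩).2.2.2 e
  refine ⟨τ, ?_, ττ, (hk.act.inv_cases ττ).resolve_left np, h1, h2⟩
  rintro rfl
  obtain ⟨a, b, c, d, q⟩ := hk.exists_quad
  exact np ⟨a, b, c, d, q, by rintro _ rfl; simp⟩

section

variable (h : Act G I n) (h2 : IsMultiplyPretransitive G P 2)
include h h2

theorem exists_flag {x y : P} {l m : L} (hx : I x l) (hy : I y m) :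
    ∃ g : G, g • x = y ∧ g • l = m := by
  obtain ⟨x', x1, x2, -⟩ := h.exists_point_ne l x x
  obtain ⟨y', y1, y2, -⟩ := h.exists_point_ne m y y
  obtain ⟨g, rfl, rfl⟩ := is_two_pretransitive_iff.1 h2 x2 y2
  exact ⟨g, rfl, h.line_eq y2 (h.smul g x1) (h.smul g hx) y1 hy⟩

theorem orbits_aux : IsMultiplyPretransitive G L 2 ∧
    Nat.card (orbitRel.Quotient G (P × L)) = 2 := by
  haveI := Fintype.ofFinite G
  obtain ⟨l⟩ := h.neL
  obtain ⟨x, y, xy, hx, -⟩ := h.exists_two l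
  obtain ⟨m, -, ml, -⟩ := h.exists_line_ne x l l
  haveI : Nontrivial P := ⟨x, y, xy⟩
  haveI : Nontrivial L := ⟨m, l, ml⟩
  haveI : IsPretransitive G P := isPretransitive_of_is_two_pretransitive
  haveI : IsPretransitive G L := ⟨fun a b => by
    obtain ⟨x, -, -, hx, -⟩ := h.exists_two a
    obtain ⟨y, -, -, hy, -⟩ := h.exists_two b
    exact (h.exists_flag h2 hx hy).imp fun _ => And.right⟩
  have hχ : H30.fixChar G L = H30.fixChar G P := funext fun g => by
    rw [H30.fixChar_apply, H30.fixChar_apply]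
    exact congrArg Nat.cast (h.ncard_fix_eq g).symm
  have hr := (H30.card_orbits_prod_eq_two_iff (G := G) P).2 h2
  constructor
  · rw [← H30.card_orbits_prod_eq_two_iff]
    have := H30.classInner_fixChar_fixChar (G := G) L L
    rw [hχ, H30.classInner_fixChar_fixChar, hr] at this
    exact_mod_cast this.symm
  · have := H30.classInner_fixChar_fixChar (G := G) P L
    rw [hχ, H30.classInner_fixChar_fixChar, hr] at this
    exact_mod_cast this.symm

theorem exists_antiflag {x y : P} {l m : L} (hx : ¬ I x l) (hy : ¬ I y m) :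
    ∃ g : G, g • x = y ∧ g • l = m := by
  obtain ⟨a, -, -, ha, -⟩ := h.exists_two l
  obtain ⟨z, -, hz⟩ := (Nat.card_eq_two_iff' (Quotient.mk'' (a, l))).1 (h.orbits_aux h2).2
  have key : ∀ c k, ¬ I c k → (Quotient.mk'' (c, k) : orbitRel.Quotient G (P × L)) = z :=
    fun c k hc => hz _ fun e => hc <| by
      obtain ⟨g, hg⟩ := Quotient.exact' e
      obtain ⟨rfl, rfl⟩ := Prod.ext_iff.1 hg
      exact h.smul g ha
  obtain ⟨g, hg⟩ := Quotient.exact' ((key y m hy).trans (key x l hx).symm)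
  exact ⟨g, congrArg Prod.fst hg, congrArg Prod.snd hg⟩

theorem card_two' {x y : P} (xy : x ≠ y) :
    (n + 1) * n * Nat.card (stabilizer G x ⊓ stabilizer G y : Subgroup G) =
      Nat.card (stabilizer G x) := by
  rw [← ncard_orbit_mul_card (stabilizer G x) y]
  congr 1
  refine (h.ncard_ne x).symm.trans (congrArg _ (Set.ext fun z => ⟨fun hz => ?_, ?_⟩))
  · obtain ⟨g, g1, g2⟩ := is_two_pretransitive_iff.1 h2 xy (Ne.symm hz)
    exact ⟨⟨g, g1⟩, g2⟩
  · rintro ⟨g, rfl⟩ e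
    exact xy (smul_left_cancel (g : G) (g.2.trans e.symm))

theorem card_two {x y : P} (xy : x ≠ y) :
    (n ^ 2 + n + 1) * ((n + 1) * n * Nat.card (stabilizer G x ⊓ stabilizer G y : Subgroup G)) =
      Nat.card G := by
  haveI : IsPretransitive G P := isPretransitive_of_is_two_pretransitive
  rw [h.card_two' h2 xy, ← h.card_points, ← index_stabilizer_of_transitive G x,
    Subgroup.index_mul_card]

theorem card_two_eq {x y x' y' : P} (xy : x ≠ y) (xy' : x' ≠ y') :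
    Nat.card (stabilizer G x ⊓ stabilizer G y : Subgroup G) =
      Nat.card (stabilizer G x' ⊓ stabilizer G y' : Subgroup G) := by
  have := h.two_le
  exact Nat.eq_of_mul_eq_mul_left (by positivity) (Nat.eq_of_mul_eq_mul_left (by positivity)
    ((h.card_two h2 xy).trans (h.card_two h2 xy').symm))

theorem card_two_lines {x y : P} {l m : L} (xy : x ≠ y) (lm : l ≠ m) :
    Nat.card (stabilizer G x ⊓ stabilizer G y : Subgroup G) =
      Nat.card (stabilizer G l ⊓ stabilizer G m : Subgroup G) := by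
  have := h.two_le
  exact Nat.eq_of_mul_eq_mul_left (by positivity) (Nat.eq_of_mul_eq_mul_left (by positivity)
    ((h.card_two h2 xy).trans (h.dual.card_two (h.orbits_aux h2).1 lm).symm))

theorem card_anti {x y : P} {m : L} (xy : x ≠ y) (hm : ¬ I x m) :
    n * Nat.card (stabilizer G x ⊓ stabilizer G m : Subgroup G) =
      (n + 1) * Nat.card (stabilizer G x ⊓ stabilizer G y : Subgroup G) := by
  have h1 := ncard_orbit_mul_card (stabilizer G x) m
  rw [show orbit (stabilizer G x) m = {l | ¬ I x l} from Set.ext fun l => ⟨by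
      rintro ⟨g, rfl⟩
      exact h.dual.T_smul_off g.2 hm, fun hl => by
      obtain ⟨g, g1, g2⟩ := h.exists_antiflag h2 hm hl
      exact ⟨⟨g, g1⟩, g2⟩⟩, h.ncard_off', ← h.card_two' h2 xy] at h1
  have := h.two_le
  exact Nat.eq_of_mul_eq_mul_left (n := n) (by omega) (by linarith)

theorem dvd_ncard_orbit {p j : ℕ} (pp : p.Prime) (hj : p ^ j ∣ n) {x y : P} (xy : x ≠ y)
    {W : Subgroup G} (hW : IsSylowIn p W (stabilizer G x ⊓ stabilizer G y)) {m : L}
    (hm : ¬ I x m) : p ^ j ∣ (orbit W m).ncard := by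
  haveI : Fact p.Prime := ⟨pp⟩
  rcases j.eq_zero_or_pos with rfl | j0
  · simp
  have h1 := ncard_orbit_mul_card W m
  obtain ⟨i, hi⟩ := IsPGroup.iff_card.1 (hW.isP.to_le (inf_le_left : W ⊓ stabilizer G m ≤ W))
  have h3 : p ^ i ∣ Nat.card (stabilizer G x ⊓ stabilizer G m : Subgroup G) :=
    hi ▸ Subgroup.card_dvd_of_le (inf_le_inf_right _ (hW.le.trans inf_le_left))
  have h4 := Nat.mul_dvd_mul hj h3
  rw [h.card_anti h2 xy hm, ← pow_add] at h4
  have h5 := Nat.Coprime.dvd_of_dvd_mul_left (Nat.Coprime.pow_left _ ((Nat.Prime.coprime_iff_not_dvd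
    pp).2 fun e => pp.one_lt.ne' (Nat.dvd_one.1 ((Nat.dvd_add_right
      ((dvd_pow_self p j0.ne').trans hj)).1 e)))) h4
  have h6 := pow_dvd_pow p ((pp.pow_dvd_iff_le_factorization Nat.card_pos.ne').1 h5)
  rw [← hW.card_eq, ← h1, hi, pow_add] at h6
  exact Nat.dvd_of_mul_dvd_mul_right (pow_pos pp.pos i) h6

theorem exists_central {p : ℕ} (pp : p.Prime) (hp : p ∣ n) {x y : P} (xy : x ≠ y)
    {W : Subgroup G} (hW : IsSylowIn p W (stabilizer G x ⊓ stabilizer G y)) :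
    ∃ w ∈ W, w ≠ 1 ∧ w ^ p = 1 ∧ ∀ g ∈ W, g * w = w * g := by
  haveI : Fact p.Prime := ⟨pp⟩
  obtain ⟨m, hm, -⟩ := h.exists_off' x x
  have h1 := h.dvd_ncard_orbit h2 pp (j := 1) (by rwa [pow_one]) xy hW hm
  rw [pow_one] at h1
  have h3 : p ∣ Nat.card W := ncard_orbit_mul_card W m ▸ h1.mul_right _
  haveI : Nontrivial W := Finite.one_lt_card_iff_nontrivial.1
    (pp.one_lt.trans_le (Nat.le_of_dvd Nat.card_pos h3))
  haveI := hW.isP.center_nontrivial
  obtain ⟨k, hk⟩ := IsPGroup.iff_card.1 (hW.isP.to_subgroup (Subgroup.center W))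
  obtain ⟨w, hw⟩ := exists_prime_orderOf_dvd_card' (G := Subgroup.center W) p (by
    rw [hk]
    refine dvd_pow_self p ?_
    rintro rfl
    exact Finite.one_lt_card.ne' hk)
  refine ⟨w.1.1, w.1.2, fun e => pp.one_lt.ne' ?_, ?_, fun g hg => ?_⟩
  · rw [← hw, orderOf_eq_one_iff]
    exact Subtype.ext (Subtype.ext e)
  · exact congrArg (fun x : Subgroup.center W => x.1.1) (hw ▸ pow_orderOf_eq_one w : w ^ p = 1)
  · exact congrArg Subtype.val (Subgroup.mem_center_iff.1 w.2 ⟨g, hg⟩)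

theorem dvd_ncard_fixed {p j : ℕ} (pp : p.Prime) (hj : p ^ j ∣ n) {x y : P} (xy : x ≠ y)
    {W : Subgroup G} (hW : IsSylowIn p W (stabilizer G x ⊓ stabilizer G y)) {w : G}
    (hw : ∀ g ∈ W, g * w = w * g) {l : L} (hx : I x l) (hy : I y l) :
    p ^ j ∣ {m | w • m = m ∧ I y m ∧ m ≠ l}.ncard := by
  refine dvd_ncard_of_forall_dvd_orbit (H := W) _ _ (Set.toFinite _) (fun g m hm => ?_)
    fun m hm => h.dvd_ncard_orbit h2 pp hj xy hW fun e => hm.2.2 (h.line_eq xy e hm.2.1 hx hy)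
  have gl : (g : G) • l = l := h.fix_line xy (hW.le g.2).1 (hW.le g.2).2 hx hy
  refine ⟨?_, h.smul_of_fix' (hW.le g.2).2 hm.2.1,
    fun e => hm.2.2 (smul_left_cancel (g : G) (e.trans gl.symm))⟩
  change w • (g : G) • m = (g : G) • m
  rw [← mul_smul, ← hw g g.2, mul_smul, hm.1]

theorem exists_good_of_even (hn : 2 ∣ n) : ∃ c a, Good G I c a := by
  obtain ⟨l⟩ := h.neL
  obtain ⟨x, y, xy, hx, hy⟩ := h.exists_two l
  obtain ⟨W, hW⟩ := exists_isSylowIn 2 (stabilizer G x ⊓ stabilizer G y)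
  obtain ⟨w, wW, w1, ww, hw⟩ := h.exists_central h2 Nat.prime_two hn xy hW
  rcases h.inv_cases (g := w) (by rwa [← sq]) with hp | ⟨c, a, hc, -⟩
  swap
  · exact ⟨c, h.good_of_ce Nat.prime_two hn w1 ww hc⟩
  exfalso
  have fx : ∀ {X : Type _} [MulAction G X] {x : X},
      x ∈ fixedPoints (Subgroup.zpowers w) X ↔ w • x = x := fun {X _ x} =>
    ⟨fun e => e ⟨w, Subgroup.mem_zpowers w⟩, fun e g =>
      (Subgroup.zpowers_le (H := stabilizer G x)).2 e g.2⟩
  have hp' : Planar I (Subgroup.zpowers w : Set G) := by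
    obtain ⟨a, b, c, d, q, hq⟩ := hp
    obtain ⟨fa, fb, fc, fd⟩ := hq w rfl
    have := fun (x : P) (e : w • x = x) => (Subgroup.zpowers_le (H := stabilizer G x)).2 e
    exact ⟨a, b, c, d, q, fun g hg => ⟨this a fa hg, this b fb hg, this c fc hg, this d fd hg⟩⟩
  obtain ⟨k, hk⟩ := h.exists_sub hp'
  obtain ⟨m, hm⟩ := h.exists_sub (hp'.mono (S' := (⊥ : Subgroup G)) (bot_le (a := Subgroup.zpowers w)))
  have hb := h.baer bot_le (Subgroup.mem_zpowers w) (Subgroup.mem_normalizer_fintype (by simp))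
    (by rwa [← sq]) (fun u hu => by
      obtain ⟨i, rfl⟩ := mem_powers_iff_mem_zpowers.2 hu
      rcases Nat.even_or_odd' i with ⟨j, rfl | rfl⟩
      · left; simp [pow_mul, ww]
      · right; simp [pow_mul, pow_succ, ww, ← sq]) hk hm
  rw [h.order_bot hm] at hb
  obtain rfl := hb.resolve_left fun e => w1 (h.faith fun z => e.2 z (by simp [mem_fixedPoints_sub]))
  have wl : w • l = l := h.fix_line xy (hW.le wW).1 (hW.le wW).2 hx hy
  have e1 := hk.ncard_diff' (x := ⟨y, fun g => (Subgroup.zpowers_le (H := stabilizer G y)).2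
    (hW.le wW).2 g.2⟩) (l := ⟨l, fx.2 wl⟩) hy
  have e2 := ncard_res (Subgroup.zpowers w) fun m => I y m ∧ m ≠ l
  simp only [fx] at e2
  have e3 : {m | w • m = m ∧ I y m ∧ m ≠ l}.ncard = k := by
    rw [← e2, ← e1]
    congr 1
    ext m
    exact and_congr_right fun _ => by rw [Ne, Ne, Subtype.ext_iff]
  have k2 : 2 ∣ k := Nat.prime_two.dvd_of_dvd_pow hn
  have key : ∀ j, 2 ^ j ∣ k := fun j => by
    induction j with
    | zero => simp
    | succ j ih =>
      exact e3 ▸ h.dvd_ncard_fixed h2 Nat.prime_two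
        (by rw [pow_succ, sq]; exact Nat.mul_dvd_mul ih k2) xy hW hw hx hy
  have := hk.two_le
  exact (Nat.le_of_dvd (by omega) (key k)).not_gt Nat.lt_two_pow_self

theorem exists_good_of_primePow (hn : IsPrimePow n) : ∃ c a, Good G I c a := by
  obtain ⟨p, j, pp, j0, hj⟩ := (isPrimePow_nat_iff n).1 hn
  haveI : Fact p.Prime := ⟨pp⟩
  have hp : p ∣ n := hj ▸ dvd_pow_self p j0.ne'
  obtain ⟨l⟩ := h.neL
  obtain ⟨x, y, xy, hx, hy⟩ := h.exists_two l
  obtain ⟨W, hW⟩ := exists_isSylowIn p (stabilizer G x ⊓ stabilizer G y)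
  obtain ⟨w, wW, w1, wp, hw⟩ := h.exists_central h2 pp hp xy hW
  have wl : w • l = l := h.fix_line xy (hW.le wW).1 (hW.le wW).2 hx hy
  have key : ∀ z m, I z l → W ≤ stabilizer G z → I z m → m ≠ l → w • m = m →
      ∃ c a, Good G I c a := fun z m hz hWz hm ml wm => by
    obtain ⟨u, hu, uz, hWu⟩ : ∃ u, I u l ∧ u ≠ z ∧ W ≤ stabilizer G u := by
      by_cases e : x = z
      · exact ⟨y, hy, e ▸ xy.symm, hW.le.trans inf_le_right⟩
      · exact ⟨x, hx, e, hW.le.trans inf_le_left⟩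
    have hW' := isSylowIn_of_card hW.isP (le_inf hWu hWz)
      (by rw [h.card_two_eq h2 uz xy, hW.card_eq])
    have h1 := h.dvd_ncard_fixed h2 pp hj.dvd uz hW' hw hu hz
    have h3 := Set.eq_of_subset_of_ncard_le (s := {m | w • m = m ∧ I z m ∧ m ≠ l})
      (t := {m | I z m ∧ m ≠ l}) (fun _ e => e.2) (by
        rw [h.ncard_diff' hz, ← hj]
        exact Nat.le_of_dvd ((Set.ncard_pos (Set.toFinite _)).2 ⟨m, wm, hm, ml⟩) h1)
    refine ⟨z, h.good_of_ce pp hp w1 wp fun k hk => ?_⟩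
    by_cases e : k = l
    · rw [e, wl]
    · exact (h3.ge ⟨hk, e⟩).1
  by_cases hu : ∃ u, ¬ I u l ∧ w • u = u
  · obtain ⟨u, ul, wu⟩ := hu
    obtain ⟨m, m1, m2⟩ := h.join' u y
    exact key y m hy (hW.le.trans inf_le_right) m2 (fun e => ul (e ▸ m1))
      (h.fix_line (fun e : u = y => ul (e ▸ hy)) wu (hW.le wW).2 m1 m2)
  obtain ⟨m, wm, ml⟩ := Set.exists_ne_of_one_lt_ncard (s := {l : L | w • l = l})
    (h.ncard_fix_eq w ▸ (Set.one_lt_ncard_iff (Set.toFinite _)).2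
      ⟨x, y, (hW.le wW).1, (hW.le wW).2, xy⟩) l
  obtain ⟨z, z1, z2⟩ := h.meet ml
  refine key z m z2 (fun g hg => ?_) z1 ml wm
  have gl : g • l = l := h.fix_line xy (hW.le hg).1 (hW.le hg).2 hx hy
  by_cases e : g • m = m
  · exact h.fix_point ml e gl z1 z2
  obtain ⟨v, v1, v2⟩ := h.meet e
  have wv := h.fix_point e (by rw [← mul_smul, ← hw g hg, mul_smul, wm]) wm v1 v2
  obtain rfl := h.point_eq ml v2 (by_contra fun e => hu ⟨v, e, wv⟩) z1 z2
  exact h.point_eq (fun e : g • m = l => ml (smul_left_cancel g (e.trans gl.symm)))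
    (h.smul g z1) (h.smul_of_fix gl z2) v1 z2

theorem not_planar_of_card {x y : P} (xy : x ≠ y) {S : Subgroup G} (hS : IsPGroup 2 S)
    (hc : 2 ^ (Nat.card (stabilizer G x ⊓ stabilizer G y : Subgroup G)).factorization 2 ≤
      Nat.card S) : ¬ Planar I (S : Set G) := by
  intro hp
  obtain ⟨T, ST, hT⟩ := exists_isSylowIn_ge hS (le_top (a := S))
  have bound : ∀ {R : Subgroup G} {a b : P}, IsPGroup 2 R → a ≠ b → (∀ g ∈ R, g • a = a) →
      (∀ g ∈ R, g • b = b) → Nat.card R ∣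
        2 ^ (Nat.card (stabilizer G x ⊓ stabilizer G y : Subgroup G)).factorization 2 :=
    fun hR ab ha hb => h.card_two_eq h2 ab xy ▸ card_dvd_of_isPGroup_le hR (le_inf ha hb)
  have hlt : S < T := lt_of_le_of_ne ST (by
    rintro rfl
    obtain ⟨a, b, c, d, q, hq⟩ := hp
    have h1 := bound hS (h.quad_ne q).1 (fun g hg => (hq g hg).1) fun g hg => (hq g hg).2.1
    rw [hT.card_eq, Subgroup.card_top, Nat.pow_dvd_pow_iff_le_right one_lt_two] at h1
    have h3 : 2 ^ ((Nat.card (stabilizer G x ⊓ stabilizer G y : Subgroup G)).factorization 2 + 1) ∣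
        Nat.card G := by
      rw [← h.card_two h2 xy, pow_succ']
      exact (Nat.mul_dvd_mul (by rw [mul_comm]; exact (Nat.even_mul_succ_self n).two_dvd)
        (Nat.ordProj_dvd _ _)).mul_left _
    have := (Nat.prime_two.pow_dvd_iff_le_factorization Nat.card_pos.ne').1 h3
    omega)
  obtain ⟨t, tT, tS, ht, htt⟩ := exists_ext_two hT.isP hlt
  have hR : IsPGroup 2 (S ⊔ Subgroup.zpowers t : Subgroup G) :=
    hT.isP.to_le (sup_le ST (Subgroup.zpowers_le.2 tT))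
  obtain ⟨a, b, ab, ha, hb⟩ : ∃ a b : P, a ≠ b ∧ (∀ g ∈ S ⊔ Subgroup.zpowers t, g • a = a) ∧
      ∀ g ∈ S ⊔ Subgroup.zpowers t, g • b = b := by
    by_cases e : Planar I ((S ⊔ Subgroup.zpowers t : Subgroup G) : Set G)
    · obtain ⟨a, b, c, d, q, hq⟩ := e
      exact ⟨a, b, (h.quad_ne q).1, fun g hg => (hq g hg).1, fun g hg => (hq g hg).2.1⟩
    obtain ⟨k, hk⟩ := h.exists_sub hp
    obtain ⟨τ, -, -, ⟨-, l, -, hl⟩, h1, -⟩ := h.exists_persp hp hk ht htt e
    obtain ⟨a, b, ab, ha, hb⟩ := hk.exists_two l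
    have fx : ∀ x : fixedPoints S P, τ • x = x → ∀ g ∈ S ⊔ Subgroup.zpowers t, g • (x : P) = x :=
      fun x hx => (sup_le (mem_fixedPoints_sub.1 x.2) (Subgroup.zpowers_le.2 (by
        rw [mem_stabilizer_iff, ← h1, hx])) : S ⊔ Subgroup.zpowers t ≤ stabilizer G (x : P))
    exact ⟨a, b, fun e => ab (Subtype.ext e), fx a (hl a ha), fx b (hl b hb)⟩
  have := Subgroup.eq_of_le_of_card_ge (le_sup_left : S ≤ S ⊔ Subgroup.zpowers t)
    ((Nat.le_of_dvd (by positivity) (bound hR ab ha hb)).trans hc)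
  exact tS (this.ge (Subgroup.mem_sup_right (Subgroup.mem_zpowers t)))

theorem primePow_of_odd (hn : Odd n) : IsPrimePow n := by
  obtain ⟨U, ⟨hU, hp⟩, hmax⟩ := Set.Finite.exists_maximal
    (s := {U : Subgroup G | IsPGroup 2 U ∧ Planar I (U : Set G)}) (Set.toFinite _) ⟨⊥,
      IsPGroup.of_bot, by
        obtain ⟨a, b, c, d, q⟩ := h.exists_quad
        exact ⟨a, b, c, d, q, by simp⟩⟩
  obtain ⟨k, hk⟩ := h.exists_sub hp
  obtain ⟨j, j0, hj⟩ := h.exists_pow hU hp hk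
  obtain ⟨l⟩ := h.neL
  obtain ⟨x, y, xy, -⟩ := h.exists_two l
  have key : ∀ K : Subgroup G, U ≤ K →
      Nat.card (stabilizer G x ⊓ stabilizer G y : Subgroup G) = Nat.card K → ∃ t ∈ K,
      ∃ τ : Coll (res I U), τ ≠ 1 ∧ τ * τ = 1 ∧ (∃ c a, Ce (res I U) τ c ∧ Ax (res I U) τ a) ∧
      (∀ x : fixedPoints U P, ((τ • x : fixedPoints U P) : P) = t • (x : P)) ∧
      ∀ l : fixedPoints U L, ((τ • l : fixedPoints U L) : L) = t • (l : L) := fun K UK hK => by
    obtain ⟨S, US, hS⟩ := exists_isSylowIn_ge hU UK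
    have np := h.not_planar_of_card h2 xy hS.isP (by rw [hK, hS.card_eq])
    obtain ⟨t, tS, tU, ht, htt⟩ := exists_ext_two hS.isP
      (lt_of_le_of_ne US (by rintro rfl; exact np hp))
    exact ⟨t, hS.le tS, h.exists_persp hp hk ht htt fun e => tU (hmax
      ⟨hS.isP.to_le (sup_le US (Subgroup.zpowers_le.2 tS)), e⟩ le_sup_left
      (Subgroup.mem_sup_right (Subgroup.mem_zpowers t)))⟩
  rw [hj]
  refine IsPrimePow.pow (hk.act.wagner ((Nat.odd_pow_iff j0.ne').1 (hj ▸ hn)) (fun a b ab => ?_)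
    fun a b ab => ?_) j0.ne'
  · obtain ⟨t, ht, τ, τ1, ττ, hτ, h1, -⟩ := key (stabilizer G (a : P) ⊓ stabilizer G (b : P))
      (le_inf (mem_fixedPoints_sub.1 a.2) (mem_fixedPoints_sub.1 b.2))
      (h.card_two_eq h2 xy fun e => ab (Subtype.ext e))
    exact ⟨τ, τ1, ττ, hτ, Subtype.ext ((h1 a).trans ht.1), Subtype.ext ((h1 b).trans ht.2)⟩
  · obtain ⟨t, ht, τ, τ1, ττ, hτ, -, h1⟩ := key (stabilizer G (a : L) ⊓ stabilizer G (b : L))
      (le_inf (mem_fixedPoints_sub.1 a.2) (mem_fixedPoints_sub.1 b.2))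
      (h.card_two_lines h2 xy fun e => ab (Subtype.ext e))
    exact ⟨τ, τ1, ττ, hτ, Subtype.ext ((h1 a).trans ht.1), Subtype.ext ((h1 b).trans ht.2)⟩

theorem good_all {x : P} {l : L} (hx : I x l) : Good G I x l := by
  obtain ⟨c, a, hc⟩ := (Nat.even_or_odd n).elim (fun e => h.exists_good_of_even h2 e.two_dvd)
    fun e => h.exists_good_of_primePow h2 (h.primePow_of_odd h2 e)
  obtain ⟨g, rfl, rfl⟩ := h.exists_flag h2 hc.1 hx
  exact h.good_smul g hc

theorem exists_onan : ∃ p, ONan G p h.E := by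
  haveI : IsPretransitive G P := isPretransitive_of_is_two_pretransitive
  obtain ⟨c⟩ := h.neP
  obtain ⟨a, b, ab, ha, hb⟩ := h.dual.exists_two c
  obtain ⟨p, pp, hp⟩ := h.dual.T_exp (h.good_all h2 ha).dual (h.good_all h2 hb).dual ab
  refine ⟨p, h2, ⟨fun {g g'} e => inv_mul_eq_one.1 (h.faith fun x => by
    rw [mul_smul, ← e, inv_smul_smul])⟩, fun g _ _ e => h.dual.conj_T g e,
    fun e => h.ce_fix e.1, fun {x} _ _ e e' => ?_, pp, fun x g => ⟨1, Subtype.ext ?_⟩, ?_⟩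
  · obtain ⟨a, b, ab, ha, hb⟩ := h.dual.exists_two x
    exact h.dual.T_comm (h.good_all h2 ha).dual (h.good_all h2 hb).dual ab e e'
  · obtain ⟨k, rfl⟩ := exists_smul_eq G x c
    simpa using hp _ (h.dual.conj_T k g.2)
  · obtain ⟨y, hy, yc, -⟩ := h.exists_point_ne a c c
    obtain ⟨-, g, g1, g2, g3⟩ := h.good_all h2 ha
    exact ⟨c, y, yc.symm, g, ⟨g2, a, ha, g3⟩, g1, g3 y hy⟩

theorem mem_L_iff {x y z : P} {l : L} (xy : x ≠ y) (hx : I x l) (hy : I y l) :
    z ∈ ONan.L h.E x y ↔ I z l := by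
  constructor
  · intro hz
    obtain ⟨-, g, g1, g2, g3⟩ := h.good_all h2 hx
    exact (h.fix_cases g1 g2 g3 (hz g ⟨⟨g2, l, hx, g3⟩, g3 y hy⟩)).elim (fun e => e ▸ hx) id
  · rintro hz g ⟨⟨g2, a, ha, g3⟩, gy⟩
    by_cases g1 : g = 1
    · rw [g1, one_smul]
    exact g3 z (h.line_eq xy hx hy ha ((h.fix_cases g1 g2 g3 gy).resolve_left xy.symm) ▸ hz)

/-- The Ostrom–Wagner theorem. -/
theorem ostrom_wagner : ∃ (F : Type) (_ : Field F) (_ : Fintype F) (ρ : P → Fin 3 → F),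
    ProjModel (ONan.L h.E) F ρ := by
  obtain ⟨p, hp⟩ := h.exists_onan h2
  obtain ⟨F, _, _, d, ρ, hd, m⟩ := hp.exists_projModel
  obtain ⟨l⟩ := h.neL
  obtain ⟨x, y, xy, hx, hy⟩ := h.exists_two l
  obtain ⟨w, hw, -⟩ := h.exists_off l l
  have : ⊤ ≤ Submodule.span F (Set.range ![ρ x, ρ y, ρ w]) := fun v _ => by
    by_cases v0 : v = 0
    · rw [v0]; exact zero_mem _
    obtain ⟨z, c, rfl⟩ := m.surj v v0
    refine Submodule.smul_mem _ _ ?_
    obtain ⟨k, k1, k2⟩ := h.join' w z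
    obtain ⟨u, u1, u2⟩ := h.meet' k l
    have wu : w ≠ u := fun e => hw (e ▸ u2)
    obtain ⟨a, b, e⟩ := (m.line wu z).1 ((h.mem_L_iff h2 wu k1 u1).2 k2)
    obtain ⟨a', b', e'⟩ := (m.line xy u).1 ((h.mem_L_iff h2 xy hx hy).2 u2)
    rw [← e, ← e']
    exact add_mem (Submodule.smul_mem _ _ (Submodule.subset_span ⟨2, rfl⟩))
      (Submodule.smul_mem _ _ (add_mem (Submodule.smul_mem _ _ (Submodule.subset_span ⟨0, rfl⟩))
        (Submodule.smul_mem _ _ (Submodule.subset_span ⟨1, rfl⟩))))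
  have h3 := finrank_le_of_span_eq_top (top_le_iff.1 this)
  obtain rfl : d = 3 := le_antisymm (by simpa using h3) hd
  exact ⟨F, inferInstance, inferInstance, ρ, m⟩

end

end Act

end H89
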