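import Cfsg.Agent.H34.R5Spec
import Cfsg.Agent.H5.ThompsonFpf

/-! Tower R5 (S3194), job S5. -/

set_option autoImplicit false

namespace H89.R5
open Cfsg Subgroup H41.IT H34.R5

universe u

theorem mem_of_coprime_pow {G : Type*} [Group G] {L : Subgroup G} {n : G} {a b : ℕ}
    (h : a.Coprime b) (ha : n ^ a ∈ L) (hb : n ^ b ∈ L) : n ∈ L := by
  have e : n = (n ^ a) ^ Nat.gcdA a b * (n ^ b) ^ Nat.gcdB a b := by
    rw [← zpow_natCast, ← zpow_natCast, ← zpow_mul, ← zpow_mul, ← zpow_add, ← Nat.gcd_eq_gcd_ab,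
      h, Nat.cast_one, zpow_one]
  rw [e]
  exact mul_mem (zpow_mem ha _) (zpow_mem hb _)

theorem jobS5 : JobS5.{u} := by
  intro G _ _ x y e s hs P bs t1 gf z hz z1 hPz hzN u hu huz
  obtain ⟨j, j0, hj⟩ := t1.pw
  have hse : s * e ∣ c y := by
    obtain ⟨i, rfl⟩ : ∃ i, j = i + 1 := ⟨j - 1, by omega⟩
    exact ⟨s ^ i, by rw [hj]; ring⟩
  have hB : c z = c y := bs.full hse P z1 hPz
  have hL : c u = e := gf.ce u hu
  have e0 : 0 < e := hL ▸ Nat.card_pos
  have hLB : C u ≤ C z := fun a ha => mem_C.2 (gf.ab u hu a ha z (mem_C.2 huz.symm))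
  have hsup : (P : Subgroup G) ⊔ C u = C z := by
    have hle : (P : Subgroup G) ⊔ C u ≤ C z := sup_le hPz hLB
    refine le_antisymm hle (relIndex_eq_one.1 ?_)
    have d1 : ((P : Subgroup G) ⊔ C u).relIndex (C z) ∣ s ^ j := by
      have k := relIndex_dvd_of_le_left (C z) (le_sup_right : C u ≤ (P : Subgroup G) ⊔ C u)
      have k2 : Nat.card (C u) * (C u).relIndex (C z) = Nat.card (C z) := by
        rw [← Nat.card_congr (subgroupOfEquivOfLe hLB).toEquiv, relIndex, card_mul_index]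
      change c u * _ = c z at k2
      rw [hL, hB, hj] at k2
      exact Nat.eq_of_mul_eq_mul_left e0 k2 ▸ k
    have d2 : ((P : Subgroup G) ⊔ C u).relIndex (C z) ∣ (P : Subgroup G).index :=
      (relIndex_dvd_of_le_left (C z) le_sup_left).trans (relIndex_dvd_index_of_le hPz)
    exact Nat.eq_one_of_dvd_coprimes
      (Nat.Coprime.pow_left j ((Nat.Prime.coprime_iff_not_dvd hs.1).2 P.not_dvd_index)) d1 d2
  set Y := normalizer ((P : Subgroup G) : Set G) ⊓ normalizer (C u : Set G) with hY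
  have hYB : Y ≤ normalizer (C z : Set G) := hsup ▸ normalizer_inf_normalizer_le_normalizer_sup _ _
  have hcop : (Nat.card Y).Coprime (c x) := by
    refine Nat.coprime_of_dvd fun r hr h1 h2 => ?_
    have : Fact r.Prime := ⟨hr⟩
    obtain ⟨n, hn⟩ := exists_prime_orderOf_dvd_card' (G := Y) r h1
    have hn' : orderOf (n : G) = r := (orderOf_coe n).trans hn
    refine t1.nn z hB (H5.isNilpotent_of_fpf_subgroup (H := zpowers (n : G)) ?_
      (zpowers_le.2 (hYB n.2)) ?_)
    · intro h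
      rw [zpowers_eq_bot.1 h, orderOf_one] at hn'
      exact hr.one_lt.ne hn'
    · intro h hh h0
      rw [eq_bot_iff]
      intro k hk
      by_contra k1
      have o1 : orderOf h ∣ c y := bs.ord_dvd k1 (hB ▸ ord_dvd_c hk.1) (mem_C.1 hk.2).symm
      have o2 : orderOf h ∣ c x := (hn' ▸ orderOf_dvd_of_mem_zpowers hh).trans h2
      exact h0 (orderOf_eq_one_iff.1 (Nat.eq_one_of_dvd_coprimes bs.cop o2 o1))
  have hYd : Nat.card Y ∣ e * s ^ j := by
    rw [← hj]
    exact hcop.dvd_of_dvd_mul_left (bs.card ▸ card_subgroup_dvd_card Y)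
  have hLY : C u ≤ Y := le_inf (hLB.trans hzN) le_normalizer
  intro n hn
  have : ((C u).subgroupOf Y).Normal := normal_subgroupOf_of_le_normalizer inf_le_right
  have k1 : n ^ s ^ j ∈ C u := by
    have k2 : Nat.card (C u) * ((C u).subgroupOf Y).index = Nat.card Y := by
      rw [← Nat.card_congr (subgroupOfEquivOfLe hLY).toEquiv, card_mul_index]
    change c u * _ = _ at k2
    rw [← k2, hL] at hYd
    obtain ⟨m, hm⟩ := Nat.dvd_of_mul_dvd_mul_left e0 hYd
    rw [hm, pow_mul]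
    exact pow_mem (((C u).subgroupOf Y).pow_index_mem ⟨n, hn⟩) m
  have k3 : n ^ (P : Subgroup G).index ∈ (P : Subgroup G) := by
    obtain ⟨m, hm⟩ := relIndex_dvd_index_of_le (le_normalizer (H := (P : Subgroup G)))
    rw [hm, pow_mul]
    exact pow_mem (((P : Subgroup G).subgroupOf (normalizer _)).pow_index_mem ⟨n, hn.1⟩) m
  refine mem_of_coprime_pow
    (Nat.Coprime.pow_left j ((Nat.Prime.coprime_iff_not_dvd hs.1).2 P.not_dvd_index)) k1 ?_
  have k4 := pow_mem hn (P : Subgroup G).index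
  generalize n ^ (P : Subgroup G).index = m at k3 k4
  have uL : u ∈ C u := mem_C.2 (Commute.refl u)
  have w1 : m * u * m⁻¹ * u⁻¹ ∈ (P : Subgroup G) := by
    have := mul_mem k3 ((mem_normalizer_iff.1 (hzN (hLB uL)) _).1 (inv_mem k3))
    simpa [mul_assoc] using this
  have w2 : m * u * m⁻¹ ∈ C u := (mem_normalizer_iff.1 k4.2 _).1 uL
  have w3 : (m * u * m⁻¹ * u⁻¹) ^ orderOf u = 1 := by
    rw [(mem_C.1 w2).inv_right.mul_pow, conj_pow, inv_pow, pow_orderOf_eq_one]
    simp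
  obtain ⟨k, hk⟩ := P.isPGroup' ⟨_, w1⟩
  have w4 : m * u * m⁻¹ * u⁻¹ = 1 := by
    have h1 := orderOf_dvd_of_pow_eq_one w3
    have h2 := orderOf_dvd_of_pow_eq_one (congrArg Subtype.val hk)
    exact orderOf_eq_one_iff.1 (Nat.eq_one_of_dvd_coprimes
      (((Nat.coprime_primes hu.1 hs.1).2 hu.2.1).pow_right k) h1 h2)
  rw [mul_inv_eq_one, mul_inv_eq_iff_eq_mul] at w4
  exact mem_C.2 w4

end H89.R5
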