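import Cfsg.Agent.H86.SPGDef

/-! STD-SP type I, slot DG: the minimum weight of the Reed-Muller code, for determinants. -/

set_option autoImplicit false
set_option linter.unusedSectionVars false

namespace H89.SPDG

open Finset

section Deg

variable {M : Type} [Group M] {F : Type} [Field F]

/-- Functions of degree at most `r`. -/
def Deg : ℕ → (M → F) → Prop
  | 0, f => ∀ x y, f x = f y
  | r + 1, f => ∀ a, Deg r (fun x => f (x * a) - f x)

theorem deg_const : ∀ (r : ℕ) (c : F), Deg r (fun _ : M => c)
  | 0, _ => fun _ _ => rfl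
  | r + 1, c => fun _ => deg_const r (c - c)

theorem deg_succ : ∀ (r : ℕ) (f : M → F), Deg r f → Deg (r + 1) f
  | 0, f, h => fun a x y => by
      show f (x * a) - f x = f (y * a) - f y
      rw [h (x * a) (y * a), h x y]
  | r + 1, _, h => fun a => deg_succ r _ (h a)

theorem deg_add : ∀ (r : ℕ) (f g : M → F), Deg r f → Deg r g → Deg r (fun x => f x + g x)
  | 0, f, g, h, h' => fun x y => by
      show f x + g x = f y + g y
      rw [h x y, h' x y]
  | r + 1, f, g, h, h' => fun a => by
      have := deg_add r _ _ (h a) (h' a)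
      convert this using 2
      ring

theorem deg_smul : ∀ (r : ℕ) (c : F) (f : M → F), Deg r f → Deg r (fun x => c * f x)
  | 0, c, f, h => fun x y => by
      show c * f x = c * f y
      rw [h x y]
  | r + 1, c, f, h => fun a => by
      have := deg_smul r c _ (h a)
      convert this using 2
      ring

theorem deg_shift (hc : ∀ x y : M, x * y = y * x) :
    ∀ (r : ℕ) (f : M → F) (b : M), Deg r f → Deg r (fun x => f (x * b))
  | 0, _, _, h => fun _ _ => h _ _
  | r + 1, f, b, h => fun a => by
      have := deg_shift hc r _ b (h a)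
      convert this using 4
      rw [mul_assoc, mul_assoc, hc a b]

theorem deg_mul (hc : ∀ x y : M, x * y = y * x) :
    ∀ (n r s : ℕ) (f g : M → F), r + s = n → Deg r f → Deg s g → Deg n (fun x => f x * g x) := by
  intro n
  induction n with
  | zero =>
    intro r s f g h hf hg
    obtain rfl : r = 0 := by omega
    obtain rfl : s = 0 := by omega
    intro x y
    show f x * g x = f y * g y
    rw [hf x y, hg x y]
  | succ n ih =>
    intro r s f g h hf hg
    rcases r with _ | r
    · obtain rfl : s = n + 1 := by omega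
      have := deg_smul _ (f 1) _ hg
      convert this using 3
      exact hf _ _
    rcases s with _ | s
    · obtain rfl : r = n := by omega
      have := deg_smul _ (g 1) _ hf
      convert this using 2
      rw [mul_comm, hg _ 1]
    intro a
    have h1 := ih r (s + 1) _ _ (by omega) (hf a) (deg_shift hc _ _ a hg)
    have h2 := ih (r + 1) s _ _ (by omega) hf (hg a)
    have := deg_add _ _ _ h1 h2
    convert this using 2
    ring

theorem deg_prod (hc : ∀ x y : M, x * y = y * x) {ι : Type} (d : ℕ) (f : ι → M → F)
    (s : Finset ι) (h : ∀ i ∈ s, Deg d (f i)) : Deg (s.card * d) (fun x => ∏ i ∈ s, f i x) := by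
  classical
  induction s using Finset.induction_on with
  | empty => simpa using deg_const 0 (1 : F)
  | insert i s hi ih =>
    have := deg_mul hc (d + s.card * d) _ _ _ _ rfl (h i (mem_insert_self _ _))
      (ih fun j hj => h j (mem_insert_of_mem hj))
    rw [card_insert_of_notMem hi, add_mul, one_mul, add_comm]
    simpa only [prod_insert hi] using this

theorem deg_sum {ι : Type} (d : ℕ) (f : ι → M → F)
    (s : Finset ι) (h : ∀ i ∈ s, Deg d (f i)) : Deg d (fun x => ∑ i ∈ s, f i x) := by
  classical
  induction s using Finset.induction_on with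
  | empty => simpa using deg_const d (0 : F)
  | insert i s hi ih =>
    have := deg_add d _ _ (h i (mem_insert_self _ _)) (ih fun j hj => h j (mem_insert_of_mem hj))
    simpa only [sum_insert hi] using this

theorem deg_det (hc : ∀ x y : M, x * y = y * x) (l : ℕ) (A : M → Matrix (Fin l) (Fin l) F)
    (h : ∀ i j, Deg 1 (fun x => A x i j)) : Deg l (fun x => (A x).det) := by
  simp only [Matrix.det_apply']
  refine deg_sum _ (fun σ x => ((Equiv.Perm.sign σ : ℤ) : F) * ∏ i, A x (σ i) i) _ fun σ _ => ?_
  refine deg_smul _ _ _ ?_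
  have := deg_prod hc 1 (fun i x => A x (σ i) i) univ fun i _ => h _ _
  simpa using this

theorem weight [Finite M] : ∀ (r : ℕ) (f : M → F), Deg r f → (∃ x, f x ≠ 0) →
    Nat.card M ≤ 2 ^ r * (Function.support f).ncard := by
  have c0 : ∀ (r : ℕ) (f : M → F), (∀ x y, f x = f y) → (∃ x, f x ≠ 0) →
      Nat.card M ≤ 2 ^ r * (Function.support f).ncard := fun r f h ⟨x, hx⟩ => by
    have : Function.support f = Set.univ := Set.eq_univ_of_forall fun y => by
      rw [Function.mem_support, h y x]; exact hx
    rw [this, Set.ncard_univ]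
    exact Nat.le_mul_of_pos_left _ (by positivity)
  intro r
  induction r with
  | zero => exact fun f h => c0 0 f h
  | succ r ih =>
    intro f h hx
    by_cases k : ∀ a x, f (x * a) - f x = 0
    · refine c0 _ f (fun x y => ?_) hx
      have h1 := k x 1
      have h2 := k y 1
      rw [one_mul, sub_eq_zero] at h1 h2
      rw [h1, h2]
    push Not at k
    obtain ⟨a, ha⟩ := k
    have h1 := ih _ (h a) ha
    have h2 : Function.support (fun x => f (x * a) - f x) ⊆
        (fun x => x * a⁻¹) '' Function.support f ∪ Function.support f := fun x hx' => by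
      by_contra hn
      rw [Set.mem_union, not_or] at hn
      apply hx'
      have e1 : f x = 0 := by simpa using hn.2
      have e2 : f (x * a) = 0 := by
        by_contra e
        exact hn.1 ⟨x * a, e, by simp⟩
      show f (x * a) - f x = 0
      rw [e1, e2, sub_zero]
    have h3 := (Set.ncard_le_ncard h2 (Set.toFinite _)).trans (Set.ncard_union_le _ _)
    have h4 := Set.ncard_image_le (f := fun x => x * a⁻¹) (s := Function.support f) (Set.toFinite _)
    calc Nat.card M ≤ _ := h1
      _ ≤ 2 ^ r * (2 * (Function.support f).ncard) := Nat.mul_le_mul_left _ (by omega)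
      _ = _ := by ring

theorem geo (f : ℕ) : ∑ k ∈ range f, 2 ^ k + 1 = 2 ^ f := by
  induction f with
  | zero => simp
  | succ f ih => rw [sum_range_succ, pow_succ]; omega

theorem deg_pow [CharP F 2] (hc : ∀ x y : M, x * y = y * x) (l f : ℕ)
    (B : M → Matrix (Fin l) (Fin l) F) (c : Matrix (Fin l) (Fin l) F)
    (hB : ∀ x y, B (x * y) = B x + B y) :
    Deg (f * l) (fun x => (c + B x).det ^ (2 ^ f - 1)) := by
  haveI : Fact (Nat.Prime 2) := ⟨Nat.prime_two⟩
  haveI : ExpChar F 2 := ExpChar.prime Nat.prime_two
  have h1 : ∀ k, Deg l (fun x => (c + B x).det ^ (2 ^ k)) := fun k => by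
    have := deg_det hc l (fun x => (iterateFrobenius F 2 k).mapMatrix (c + B x)) fun i j a x y => by
      simp only [RingHom.mapMatrix_apply, Matrix.map_apply, hB, Matrix.add_apply, map_add]
      ring
    convert this using 2
    rw [← RingHom.map_det, iterateFrobenius_def]
  have := deg_prod hc l (fun k x => (c + B x).det ^ (2 ^ k)) (range f) fun k _ => h1 k
  rw [card_range] at this
  convert this using 2
  rw [prod_pow_eq_pow_sum]
  congr 1
  have := geo f
  omega

end Deg

theorem dg : H86.SPG.DG := by
  intro M _ _ F _ _ _ l B B' c hc hB hB' S hS ⟨x0, hx0⟩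
  haveI : Fact (Nat.Prime 2) := ⟨Nat.prime_two⟩
  haveI := Fintype.ofFinite F
  obtain ⟨f, -, hf⟩ := FiniteField.card F 2
  have q1 : 2 ^ (f : ℕ) - 1 ≠ 0 := by
    have : 2 ^ 1 ≤ 2 ^ (f : ℕ) := Nat.pow_le_pow_right (by norm_num) f.2
    omega
  have pw : ∀ a : F, a ≠ 0 → a ^ (2 ^ (f : ℕ) - 1) = 1 := fun a ha => by
    rw [← hf]; exact FiniteField.pow_card_sub_one_eq_one a ha
  have h1 := deg_pow hc l f B 0 hB
  have h2 := deg_smul _ (-1) _ (deg_pow hc l f B' c hB')
  have h3 := deg_add _ _ _ h1 h2
  have h4 := weight _ _ h3 ⟨x0, by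
    simp only [zero_add]
    by_cases e1 : (B x0).det = 0
    · have e2 : (c + B' x0).det ≠ 0 := fun e => hx0 ⟨fun _ => e, fun _ => e1⟩
      rw [e1, pw _ e2, zero_pow q1]; simp
    · have e2 : (c + B' x0).det = 0 := by
        by_contra e
        exact hx0 ⟨fun e' => absurd e' e1, fun e' => absurd e' e⟩
      rw [e2, pw _ e1, zero_pow q1]; simp⟩
  refine h4.trans ?_
  rw [Nat.card_eq_fintype_card (α := F), hf, ← pow_mul]
  refine Nat.mul_le_mul_left _ (Set.ncard_le_ncard (fun x hx => ?_) (Set.toFinite _))
  by_contra hn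
  apply hx
  have := hS x hn
  simp only [zero_add]
  by_cases e1 : (B x).det = 0
  · rw [e1, this.1 e1, zero_pow q1]; simp
  · rw [pw _ e1, pw _ fun e => e1 (this.2 e)]; simp

end H89.SPDG
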