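/- An element of order three with a single Jordan block of size three: it centralizes the invariant
subgroups of odd prime power order. -/
import Cfsg.Agent.H89.ThF
import Cfsg.Agent.H58.ElCount
import Cfsg.Agent.H91.SPCop
import Cfsg.Agent.H2.CoreFree
import Cfsg.Agent.H1.InvSylow

set_option autoImplicit false
open Cfsg Subgroup Module
open scoped commutatorElement

namespace H89.Th
variable {S : Type*} [Group S] {E : Type*} [AddCommGroup E] [Module (ZMod 3) E]
  {ρ : Representation (ZMod 3) S E} {b t u : S}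

/-- the elements acting trivially on `E / X` -/
def mv (ρ : Representation (ZMod 3) S E) (X : Submodule (ZMod 3) E) : Subgroup S where
  carrier := {g | ∀ v, ρ g v - v ∈ X}
  one_mem' v := by simp
  mul_mem' {g h} hg hh v := by
    have := X.add_mem (hg (ρ h v)) (hh v)
    rwa [sub_add_sub_cancel, ← act] at this
  inv_mem' {g} hg v := by
    have := X.neg_mem (hg (ρ g⁻¹ v))
    rwa [act_inv', neg_sub] at this

theorem eq_one_of_cube [Finite S] {L : Subgroup S} (h3 : ¬ 3 ∣ Nat.card L) {g : S} (hg : g ∈ L)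
    (e : g ^ 3 = 1) : g = 1 := by
  rcases (Nat.dvd_prime Nat.prime_three).1 (orderOf_dvd_of_pow_eq_one e) with h | h
  · exact orderOf_eq_one_iff.1 h
  · exact absurd (h ▸ L.orderOf_dvd_natCard hg) h3

theorem card_dvd [Finite S] [Finite E] (hρ : Function.Injective ρ) {X : Submodule (ZMod 3) E}
    {L : Subgroup S} (hL : L ≤ mv ρ X) (hc : ¬ 3 ∣ Nat.card L) :
    Nat.card L ∣ H58.glo 3 (finrank (ZMod 3) X) := by
  have inv : ∀ g : L, X ≤ X.comap ((ρ.comp L.subtype) g) := fun g v hv => by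
    have := X.add_mem (hL g.2 v) hv
    rwa [sub_add_cancel] at this
  let σ := Representation.subrepresentation (ρ.comp L.subtype) X inv
  let φ := (LinearMap.GeneralLinearGroup.generalLinearEquiv (ZMod 3) X).toMonoidHom.comp σ.asGroupHom
  have := H58.card_linearEquiv_eq (F := ZMod 3) (V := X)
  rw [Nat.card_zmod] at this
  rw [← this]
  refine card_dvd_of_injective φ ((injective_iff_map_eq_one φ).2 fun g e => Subtype.ext
    (eq_one_of_cube hc g.2 (hρ (LinearMap.ext fun v => ?_))))
  have k : ∀ w ∈ X, ρ g w = w := fun w hw => congrArg Subtype.val (LinearEquiv.congr_fun e ⟨w, hw⟩)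
  have a := k _ (hL g.2 v)
  have a' := congrArg (ρ g) a
  simp only [map_sub] at a a'
  rw [pow_three, act, act, map_one, Module.End.one_apply]
  linear_combination (norm := module) a' + (2 : ZMod 3) • a + h3 (ρ g v - v)

theorem cyc_comm [Finite S] {A : Subgroup S} (hc : IsCyclic A) {g h : S} (hg : g ∈ normalizer (A : Set S))
    (hh : h ∈ normalizer (A : Set S)) : ⁅g, h⁆ ∈ centralizer (A : Set S) := by
  have : (⁅(⟨g, hg⟩ : normalizer (A : Set S)), ⟨h, hh⟩⁆) ∈ A.normalizerMonoidHom.ker := by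
    rw [MonoidHom.mem_ker, map_commutatorElement, commutatorElement_eq_one_iff_mul_comm]
    exact (IsCyclic.mulAutMulEquiv A).injective (by rw [map_mul, map_mul, mul_comm])
  rwa [normalizerMonoidHom_ker] at this

theorem odd_cen [Finite S] [Finite E] [Group.IsSolvable S] (hρ : Function.Injective ρ) (b3 : b ^ 3 = 1)
    (h9 : Nat.card (LinearMap.range (ρ b - 1)) = 9) (T : Tr b t u) {K P : Subgroup S}
    (hK : ¬ 3 ∣ Nat.card K) (tK : t ∈ K) (uK : u ∈ K) {r : ℕ} [hr : Fact r.Prime] (r2 : r ≠ 2)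
    (PK : P ≤ K) (hP : IsPGroup r P) (bP : b ∈ normalizer (P : Set S)) {x : S} (hx : x ∈ P) :
    x * b = b * x := by
  have : Fact (Nat.Prime 3) := ⟨Nat.prime_three⟩
  obtain ⟨v₁, v₂, v₃, F⟩ := exists_fr hρ b3 h9 T
  set y := x * (b * x⁻¹ * b⁻¹) with hy
  have yP : y ∈ P := P.mul_mem hx ((mem_normalizer_iff.1 bP _).1 (P.inv_mem hx))
  by_contra ne
  have y1 : y ≠ 1 := fun e => ne (by rw [← one_mul (b * x), ← e, hy]; group)
  suffices c : Commute y b by
    refine y1 (eq_one_of_cube hK (PK yP) ?_)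
    have : (y * b) ^ 3 = 1 := by
      rw [show y * b = x * b * x⁻¹ by rw [hy]; group, conj_pow, b3]; group
    rwa [c.mul_pow, b3, mul_one] at this
  set Y := LinearMap.range (ρ b - 1)
  have f2 : finrank (ZMod 3) Y = 2 := Nat.pow_right_injective (a := 3) (by norm_num) (by
    have := natCard_eq_pow_finrank (K := ZMod 3) (V := Y)
    rw [h9, Nat.card_zmod] at this
    exact this.symm)
  have f4 : finrank (ZMod 3) (Y ⊔ Y.map (ρ x) : Submodule _ _) ≤ 4 :=
    (Submodule.finrank_add_le_finrank_add_finrank _ _).trans (by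
      have := Submodule.finrank_map_le (ρ x) Y
      omega)
  set X := Y ⊔ Y.map (ρ x)
  have f5 : finrank (ZMod 3) (Submodule.span (ZMod 3) {v₁} ⊔ X : Submodule _ _) ≤ 5 :=
    (Submodule.finrank_add_le_finrank_add_finrank _ _).trans (by
      rw [finrank_span_singleton F.ne]; omega)
  set X' := Submodule.span (ZMod 3) {v₁} ⊔ X
  have bX : b ∈ mv ρ X := fun v => Submodule.mem_sup_left ⟨v, rfl⟩
  have yX : y ∈ mv ρ X := by
    rw [show y = x * b * x⁻¹ * b⁻¹ by rw [hy]; group]
    refine mul_mem (fun v => Submodule.mem_sup_right ⟨_, ⟨ρ x⁻¹ v, rfl⟩, ?_⟩) (inv_mem bX)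
    simp [act_inv']
  have n3 : ∀ {L : Subgroup S}, L ≤ K → ¬ 3 ∣ Nat.card L := fun h e => hK (e.trans (card_dvd_of_le h))
  set A := P ⊓ mv ρ X
  have yA : y ∈ A := ⟨yP, yX⟩
  have bA : b ∈ normalizer (A : Set S) := inf_normalizer_le_normalizer_inf ⟨bP, le_normalizer bX⟩
  have d4 : Nat.card A ∣ 24261120 := (card_dvd hρ inf_le_right (n3 (inf_le_left.trans PK))).trans (by
    generalize finrank (ZMod 3) X = d at f4
    interval_cases d <;> simp [H58.glo, Finset.prod_range_succ])
  obtain ⟨k, hk⟩ := (hP.to_le (inf_le_left : A ≤ P)).exists_card_eq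
  obtain ⟨k, rfl⟩ : ∃ j, k = j + 1 := Nat.exists_eq_succ_of_ne_zero fun e =>
    y1 (by rw [e, pow_zero, card_eq_one] at hk; exact mem_bot.1 (hk ▸ yA))
  have rd : r ∣ Nat.card A := hk ▸ dvd_pow_self r k.succ_ne_zero
  have r3 : r ≠ 3 := fun e => n3 (inf_le_left.trans PK) (e ▸ rd)
  have hr' : r = 5 ∨ r = 13 := by
    have := (Nat.mem_primeFactorsList_iff_dvd (by norm_num) hr.out).2 (rd.trans d4)
    simpa [r2, r3] using this
  have cA : Nat.card A = r := by
    obtain rfl | ⟨k, rfl⟩ : k = 0 ∨ ∃ j, k = j + 1 := by cases k <;> simp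
    · rw [hk]; simp
    · have := (pow_dvd_pow r (by omega : 2 ≤ k + 1 + 1)).trans (hk ▸ d4)
      rcases hr' with rfl | rfl <;> norm_num at this
  rcases hr' with rfl | rfl
  · have m := H2.card_modEq_card_inf_centralizer (q := 3) (Q := zpowers b)
      (IsPGroup.of_card_dvd_pow (n := 1) (by rw [Nat.card_zpowers]; exact orderOf_dvd_of_pow_eq_one b3))
      (zpowers_le.2 bA)
    rcases (Nat.dvd_prime hr.out).1 (cA ▸ card_dvd_of_le (inf_le_left : A ⊓ centralizer (zpowers b : Set S) ≤ A))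
      with h | h
    · rw [h, cA] at m; exact absurd m (by decide)
    · have := eq_of_le_of_card_ge (inf_le_left : A ⊓ centralizer (zpowers b : Set S) ≤ A) (by rw [h, cA])
      exact (mem_centralizer_iff.1 (this.ge yA).2 b (mem_zpowers b)).symm
  · have XX : mv ρ X ≤ mv ρ X' := fun g hg v => Submodule.mem_sup_right (hg v)
    have m1 : v₁ ∈ X' := Submodule.mem_sup_left (Submodule.mem_span_singleton_self _)
    have m2 : v₂ ∈ X' := by simpa [F.b1] using X'.add_mem (XX bX v₁) m1
    have m3 : v₃ ∈ X' := by simpa [F.b2] using X'.add_mem (XX bX v₂) m2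
    have tX : t ∈ mv ρ X' := fun w => by
      obtain ⟨w, a, c, d, h1, h2, rfl⟩ := F.dec w
      convert X'.add_mem (X'.smul_mem (-(2 * c)) m2) (X'.smul_mem (-(2 * d)) m3) using 1
      simp only [map_add, map_smul, h1, F.t1, F.t2, F.t3]; module
    have uX : u ∈ mv ρ X' := fun w => by
      obtain ⟨w, a, c, d, h1, h2, rfl⟩ := F.dec w
      convert X'.add_mem (X'.smul_mem (-(2 * a)) m1) (X'.smul_mem (-(2 * d)) m3) using 1
      simp only [map_add, map_smul, h2, F.u1, F.u2, F.u3]; module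
    set L := K ⊓ mv ρ X'
    have AL : A ≤ L := inf_le_inf PK XX
    have d5 : Nat.card L ∣ 475566474240 := (card_dvd hρ inf_le_right (n3 inf_le_left)).trans (by
      generalize finrank (ZMod 3) X' = d at f5
      interval_cases d <;> simp [H58.glo, Finset.prod_range_succ])
    have d6 : Nat.card L ∣ 8053760 := (Nat.Coprime.pow_right 10 ((Nat.prime_three.coprime_iff_not_dvd.2
      (n3 inf_le_left)).symm)).dvd_of_dvd_mul_left d5
    have nL := (normal_subgroupOf_iff_le_normalizer AL).1 (H91.SP.normal_of_solv (A := L) hr.out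
      ((Nat.card_congr (subgroupOfEquivOfLe AL).toEquiv).trans cA) (fun e => by
        have := e.trans d6; norm_num at this) fun s j hs s13 j0 e => by
      have e' := e.trans d6
      have := (Nat.mem_primeFactorsList_iff_dvd (by norm_num) hs).2 ((dvd_pow_self s j0.ne').trans e')
      have h : s = 2 ∨ s = 5 ∨ s = 11 := by simpa [s13] using this
      have jl : j ≤ 10 := by
        by_contra c
        have := (pow_dvd_pow s (by omega : 11 ≤ j)).trans e'
        rcases h with rfl | rfl | rfl <;> norm_num at this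
      rcases h with rfl | rfl | rfl <;> interval_cases j <;> first | decide | norm_num at e')
    have cy : IsCyclic A := isCyclic_of_prime_card cA
    have c1 := cyc_comm cy bA (nL ⟨uK, uX⟩)
    have c2 := cyc_comm cy bA (nL ⟨tK, tX⟩)
    have e1 : ⁅b, u⁆ = t := by rw [commutatorElement_def, T.bu]; group
    have e2 : ⁅b, t⁆ * t = u := by rw [commutatorElement_def, T.bt]; group
    have ty : Commute t y := (mem_centralizer_iff.1 (e1 ▸ c1) y yA).symm
    have uy : Commute u y := (mem_centralizer_iff.1 (e2 ▸ mul_mem c2 (e1 ▸ c1)) y yA).symm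
    obtain ⟨q, hq, e⟩ := F.sg2 hρ T ty uy
    have q2 : q ^ 2 = 1 ∧ Commute q y := by
      have tu : Commute t u := T.tu
      rcases hq with rfl | rfl | rfl | rfl
      exacts [by simp, ⟨(sq _).trans T.tt, ty⟩, ⟨(sq _).trans T.uu, uy⟩,
        ⟨by rw [tu.mul_pow, sq, sq, T.tt, T.uu, mul_one], ty.mul_left uy⟩]
    have := (show Commute (q * y) b from e).pow_left 14
    rwa [q2.2.mul_pow, show 14 = 2 * 7 from rfl, pow_mul, q2.1, one_pow, one_mul, show 2 * 7 = 13 + 1 from rfl,
      pow_succ, ← cA, show y ^ Nat.card A = 1 from congrArg Subtype.val (pow_card_eq_one' (x := (⟨y, yA⟩ : A))),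
      one_mul] at this

theorem exists_mul [Finite S] {U Z C : Subgroup S} (h : U ≤ Z)
    (hi : (C.relIndex Z).Coprime (U.relIndex Z)) {z : S} (hz : z ∈ Z) : ∃ u ∈ U, u⁻¹ * z ∈ C := by
  have e := relIndex_inf_mul_relIndex C U Z
  rw [inf_eq_left.2 h] at e
  have hi' : C.relIndex Z ≤ C.relIndex U := Nat.le_of_dvd (Nat.pos_of_ne_zero FiniteIndex.index_ne_zero)
    (hi.dvd_of_dvd_mul_right (by rw [e]; exact relIndex_dvd_of_le_left Z inf_le_left))
  obtain ⟨q, hq⟩ := ((quotientSubgroupOfEmbeddingOfLE C h).injective.bijective_of_nat_card_le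
    hi').2 (QuotientGroup.mk ⟨z, hz⟩)
  obtain ⟨u, rfl⟩ := QuotientGroup.mk_surjective q
  rw [quotientSubgroupOfEmbeddingOfLE_apply_mk, QuotientGroup.eq] at hq
  exact ⟨u, u.2, hq⟩

universe u v

theorem jobOdd : H23.Thom.JobOdd.{u, v} := by
  intro S _ _ _ E _ _ _ ρ hρ b b3 h9 _ K Q hK K3 QK hQ Q4 nQ cQ
  obtain ⟨t, tQ, u, uQ, T⟩ := exists_tr (IsPGroup.of_card (n := 2) Q4)
    (fun x hx y hy => congrArg Subtype.val (hQ.1.is_comm.comm (⟨x, hx⟩ : Q) ⟨y, hy⟩)) b3 nQ cQ
  have cop : (Nat.card (zpowers b)).Coprime (Nat.card K) := by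
    rw [Nat.card_zpowers]
    exact (Nat.prime_three.coprime_iff_not_dvd.2 K3).coprime_dvd_left (orderOf_dvd_of_pow_eq_one b3)
  have syl := H1.exists_invariant_sylow_subgroup (zpowers b) K le_normalizer_of_normal cop (.inr inferInstance)
  obtain ⟨P, hP⟩ := syl 2
  have hi : ((centralizer {b}).relIndex K).Coprime (((P : Subgroup K).map K.subtype).relIndex K) := by
    refine Nat.coprime_of_dvd fun r hr h1 h2 => ?_
    have := Fact.mk hr
    obtain ⟨R, hR⟩ := syl r
    by_cases r2 : r = 2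
    · subst r2
      rw [relIndex, ← comap_subtype, comap_map_eq_self_of_injective K.subtype_injective] at h2
      exact P.not_dvd_index h2
    · refine R.not_dvd_index (h1.trans (index_dvd_of_le fun x hx => mem_centralizer_singleton_iff.2 ?_))
      exact odd_cen hρ b3 h9 T K3 (QK tQ) (QK uQ) r2 (map_subtype_le _) (R.2.map _) (hR (mem_zpowers b))
        ⟨x, hx, rfl⟩
  refine (P.2.map K.subtype).to_le (commutator_le.2 fun k hk g hg => ?_)
  obtain ⟨s, hs, e⟩ := exists_mul (map_subtype_le _) hi hk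
  obtain ⟨n, rfl⟩ := hg
  have c : Commute (s⁻¹ * k) (b ^ n) := (show Commute _ b from mem_centralizer_singleton_iff.1 e).zpow_right n
  have : ⁅k, b ^ n⁆ = s * (b ^ n * s⁻¹ * (b ^ n)⁻¹) := by
    rw [commutatorElement_def, show k * b ^ n = s * (s⁻¹ * k * b ^ n) by group, c.eq]; group
  exact this ▸ mul_mem hs ((mem_normalizer_iff.1 (hP ⟨n, rfl⟩) _).1 (inv_mem hs))

end H89.Th
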