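/- An element of order three with a single Jordan block of size three acting on a `2`-group: tools. -/
import Cfsg.Agent.H89.ThOdd
import Cfsg.Agent.H98.Coprime
import Cfsg.Agent.H1.Coprime

set_option autoImplicit false
open Cfsg Subgroup Module
open scoped commutatorElement

namespace H89.Th
variable {S : Type*} [Group S] {E : Type*} [AddCommGroup E] [Module (ZMod 3) E]
  {ρ : Representation (ZMod 3) S E} {b t u : S} {R : Subgroup S}

/-- the elements fixing all vectors with the property `U` -/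
def fx (ρ : Representation (ZMod 3) S E) (U : E → Prop) : Subgroup S where
  carrier := {g | ∀ v, U v → ρ g v = v}
  one_mem' v := by simp
  mul_mem' {g h} hg hh v hv := by rw [act, hh v hv, hg v hv]
  inv_mem' {g} hg v hv := by nth_rewrite 1 [← hg v hv]; rw [act_inv]

theorem cenR (hR : ⁅R, zpowers b⁆ = R) {U : E → Prop} (hU : ∀ r ∈ R, ∀ v, U v → U (ρ r v))
    (hb : b ∈ fx ρ U) : R ≤ fx ρ U := by
  rw [← hR]
  refine commutator_le.2 fun r hr g hg => mul_mem (fun v hv => ?_) (inv_mem (zpowers_le.2 hb hg))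
  rw [act, act, zpowers_le.2 hb hg _ (hU _ (R.inv_mem hr) v hv), act_inv']

theorem no_refl [Finite E] (hR : ⁅R, zpowers b⁆ = R) {g : S} (hg : g ∈ R) {v : E} (hv : v ≠ 0)
    (h1 : ∀ w, ρ g w - w ∈ Submodule.span (ZMod 3) {v}) (h2 : ρ g v = -v) : False := by
  let φ := ((LinearMap.det : (E →ₗ[ZMod 3] E) →* ZMod 3).comp ρ).toHomUnits
  have e : LinearMap.det (ρ g) = 1 := congrArg Units.val (Abelianization.commutator_subset_ker φ
    (commutator_mono le_top le_top (hR.ge hg)))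
  let f := (LinearEquiv.coord (ZMod 3) E v hv).toLinearMap ∘ₗ (ρ g - 1).codRestrict _ h1
  have k : ∀ w, f w • v = ρ g w - w := fun w => LinearEquiv.coord_apply_smul _ _ _ hv _
  have : ρ g = LinearMap.transvection f v := LinearMap.ext fun w => by
    rw [LinearMap.transvection.apply, k, add_sub_cancel]
  rw [this, LinearMap.transvection.det, add_eq_left] at e
  have := k v
  rw [e, zero_smul, h2] at this
  exact neg_ne hv (sub_eq_zero.1 this.symm)

theorem idx {L H : Subgroup S} {a : S} (ha : a ∈ L) (hn : a ∉ H) (h : ∀ g ∈ L, g * a ∈ H ∨ g ∈ H) :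
    Nat.card L = 2 * Nat.card (L ⊓ H : Subgroup S) := by
  rw [← relIndex_eq_two_iff_exists_notMem_and.2 ⟨a, ha, hn, h⟩, relIndex, mul_comm,
    ← card_mul_index (H.subgroupOf L), ← inf_subgroupOf_left,
    Nat.card_congr (subgroupOfEquivOfLe inf_le_left).toEquiv]

theorem idx_sgn {L : Subgroup S} {a : S} {v : E} (hv : v ≠ 0) (ha : a ∈ L) (hn : ρ a v = -v)
    (h : ∀ g ∈ L, ρ g v = v ∨ ρ g v = -v) : Nat.card L = 2 * Nat.card (L ⊓ fx ρ (· = v) : Subgroup S) :=
  idx ha (fun c => neg_ne hv (hn.symm.trans (c v rfl))) fun g hg => (h g hg).symm.imp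
    (fun e w hw => by rw [hw, act, hn, map_neg, e, neg_neg]) fun e w hw => by rw [hw, e]

theorem exists_N [Finite S] {Q : Subgroup S} (h2 : IsPGroup 2 R) (hR : ⁅R, zpowers b⁆ = R) (QR : Q ≤ R)
    (Qc : ∀ x ∈ Q, ∀ y ∈ Q, x * y = y * x) (nQ : b ∈ normalizer (Q : Set S))
    (cQ : b ∉ centralizer (Q : Set S)) : ∃ N ≤ R, (∀ x ∈ N, ∀ y ∈ N, x * y = y * x) ∧
      b ∈ normalizer (N : Set S) ∧ b ∉ centralizer (N : Set S) ∧ ⁅N, R⁆ ≤ centralizer (R : Set S) := by
  have bR : zpowers b ≤ normalizer (R : Set S) := hR ▸ H1.le_normalizer_commutator_right _ _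
  have RR : ⁅R, R⁆ ≤ R := H1.commutator_le_of_le_normalizer le_normalizer
  by_cases h : ⁅R, R⁆ ≤ centralizer (R : Set S)
  · exact ⟨Q, QR, Qc, nQ, cQ, (commutator_mono QR le_rfl).trans h⟩
  suffices ∀ n, ∀ N : Subgroup S, Nat.card N = n → N ≤ ⁅R, R⁆ → R ≤ normalizer (N : Set S) →
      zpowers b ≤ normalizer (N : Set S) → ¬ N ≤ centralizer (R : Set S) → _ from
    this _ _ rfl le_rfl (H1.le_normalizer_commutator_left _ _) (H1.le_normalizer_commutator bR bR) h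
  intro n
  induction n using Nat.strong_induction_on with
  | _ n ih =>
  intro N hn NR RN bN NC
  by_cases c : ⁅N, R⁆ ≤ centralizer (R : Set S)
  · have c' := commutator_eq_bot_iff_le_centralizer.2 c
    have := commutator_eq_bot_iff_le_centralizer.1
      (commutator_commutator_eq_bot_of_rotate (by rwa [commutator_comm R N]) c')
    refine ⟨N, NR.trans RR, fun x hx y hy => mem_centralizer_iff.1 (this (NR hy)) x hx, bN (mem_zpowers b),
      fun e => NC (le_centralizer_iff.1 ?_), c⟩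
    rw [← hR, commutator_comm]
    exact (commutator_mono (zpowers_le.2 e) le_rfl).trans
      (H1.commutator_le_of_le_normalizer (H98.le_normalizer_centralizer RN))
  · have lt := H98.commutator_lt_of_isPGroup (h2.to_le (NR.trans RR)) h2 RN (by rintro rfl; exact NC bot_le)
    exact ih _ (hn ▸ (card_le_of_le lt.le).lt_of_ne fun e => lt.ne (eq_of_le_of_card_ge lt.le e.ge)) _ rfl
      (lt.le.trans NR) (H1.le_normalizer_commutator_right _ _) (H1.le_normalizer_commutator bN bR) c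

theorem fin (hρ : Function.Injective ρ) {v₁ v₂ v₃ v₄ : E} (F : Fr ρ b t u v₁ v₂ v₃) (tR : t ∈ R) (uR : u ∈ R)
    {F₀ F₁ : Submodule (ZMod 3) E} (i : F₀ ⊓ F₁ = ⊥) (s : F₀ ⊔ F₁ = ⊤) (R0 : R ≤ mv ρ F₀) (b0 : b ∈ mv ρ F₀)
    (R1 : R ≤ fx ρ (· ∈ F₁)) (b1 : b ∈ fx ρ (· ∈ F₁))
    (d : ∀ w ∈ F₀, ∃ a c d e : ZMod 3, w = a • v₁ + c • v₂ + d • v₃ + e • v₄)
    (t4 : ρ t v₄ = v₄) (u4 : ρ u v₄ = v₄) (h4 : v₄ = 0 ∨ ∃ x ∈ R, ρ x v₁ = v₄) :
    F₀ ⊓ F₁ = ⊥ ∧ F₀ ⊔ F₁ = ⊤ ∧ (∀ r ∈ R, ∀ v ∈ F₁, ρ r v = v) ∧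
    (∀ r ∈ R ⊔ zpowers b, ∀ v ∈ F₀, ρ r v ∈ F₀) ∧
    (∀ r ∈ R ⊔ zpowers b, (∀ v ∈ F₀, ρ r v = v) → r = 1) ∧
    ∀ N : Submodule (ZMod 3) E, N ≤ F₀ → (∀ r ∈ R ⊔ zpowers b, ∀ v ∈ N, ρ r v ∈ N) → N = ⊥ ∨ N = F₀ := by
  refine ⟨i, s, R1, fun r hr v hv => ?_, fun r hr h => hρ (LinearMap.ext fun w => ?_), fun N hN h => ?_⟩
  · simpa using F₀.add_mem (sup_le R0 (zpowers_le.2 b0) hr v) hv
  · obtain ⟨x, hx, y, hy, rfl⟩ := Submodule.mem_sup.1 (s ▸ Submodule.mem_top : w ∈ F₀ ⊔ F₁)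
    simp [h x hx, sup_le R1 (zpowers_le.2 b1) hr y hy]
  · refine or_iff_not_imp_left.2 fun ne => ?_
    obtain ⟨w, hw, w0⟩ := N.ne_bot_iff.1 ne
    have hr := fun r hr => h r (mem_sup_left hr)
    have hb := h b (mem_sup_right (mem_zpowers b))
    have sm : ∀ (a : ZMod 3) v, a • v ∈ N → a • v ≠ 0 → v ∈ N := fun a v hv n =>
      (N.smul_mem_iff (left_ne_zero_of_smul n)).1 hv
    have m1 : v₁ ∈ N := by
      obtain ⟨a, c, d, e, rfl⟩ := d w (hN hw)
      have p := hr t tR _ hw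
      have q := hr u uR _ hw
      have pq := hr t tR _ q
      simp only [map_add, map_smul, map_neg, F.t1, F.t2, F.t3, F.u1, F.u2, F.u3, t4, u4] at p q pq
      have q1 : a • v₁ ∈ N := by
        convert N.sub_mem (N.sub_mem (N.add_mem hw p) q) pq using 1
        linear_combination (norm := module) (-a) • h3 v₁
      have q2 : c • v₂ ∈ N := by
        convert N.sub_mem (N.add_mem (N.sub_mem hw p) q) pq using 1
        linear_combination (norm := module) (-c) • h3 v₂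
      have q3 : d • v₃ ∈ N := by
        convert N.add_mem (N.sub_mem (N.sub_mem hw p) q) pq using 1
        linear_combination (norm := module) (-d) • h3 v₃
      by_cases n1 : a • v₁ = 0; swap
      · exact sm _ _ q1 n1
      by_cases n2 : c • v₂ = 0; swap
      · exact F.b3 ▸ hb _ (F.b2 ▸ hb _ (sm _ _ q2 n2))
      by_cases n3 : d • v₃ = 0; swap
      · exact F.b3 ▸ hb _ (sm _ _ q3 n3)
      simp only [n1, n2, n3, zero_add] at hw w0
      obtain rfl | ⟨x, hx, rfl⟩ := h4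
      · simp at w0
      · exact act_inv (ρ := ρ) x v₁ ▸ hr _ (R.inv_mem hx) _ (sm _ _ hw w0)
    have m2 : v₂ ∈ N := F.b1 ▸ hb _ m1
    have m3 : v₃ ∈ N := F.b2 ▸ hb _ m2
    have m4 : v₄ ∈ N := by
      obtain rfl | ⟨x, hx, rfl⟩ := h4
      exacts [N.zero_mem, hr x hx _ m1]
    refine le_antisymm hN fun w hw => ?_
    obtain ⟨a, c, d, e, rfl⟩ := d w hw
    exact add_mem (add_mem (add_mem (N.smul_mem _ m1) (N.smul_mem _ m2)) (N.smul_mem _ m3)) (N.smul_mem _ m4)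

end H89.Th
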