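/- An element of order three with a single Jordan block of size three acting on a `2`-group. -/
import Cfsg.Agent.H89.ThTwoA
import Cfsg.Agent.H78.XS

set_option autoImplicit false
open Cfsg Subgroup Module
open scoped commutatorElement

namespace H89.Th
variable {S : Type*} [Group S] {E : Type*} [AddCommGroup E] [Module (ZMod 3) E]
  {ρ : Representation (ZMod 3) S E} {b t u z x : S} {R : Subgroup S} {v₁ v₂ v₃ : E}

theorem base [Finite E] (hρ : Function.Injective ρ) (hR : ⁅R, zpowers b⁆ = R) {U : E → Prop}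
    (hU : R ≤ fx ρ U) {p₁ p₂ p₃ p₄ : E} (n : p₁ ≠ 0)
    (d : ∀ w, ∃ w₀, ∃ a c d e : ZMod 3, U w₀ ∧ w = w₀ + a • p₁ + c • p₂ + d • p₃ + e • p₄) {g : S} (hg : g ∈ R)
    (h1 : ∃ a : ZMod 3, ρ g p₁ = a • p₁) (h2 : ρ g p₂ = p₂) (h3 : ρ g p₃ = p₃) (h4 : ρ g p₄ = p₄) : g = 1 := by
  rcases sgn n h1 with h | h
  · refine hρ (LinearMap.ext fun w => ?_)
    obtain ⟨w, a, c, d, e, hw, rfl⟩ := d w
    simp [h, h2, h3, h4, hU hg w hw]
  · refine (no_refl hR hg n (fun w => ?_) h).elim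
    obtain ⟨w, a, c, d, e, hw, rfl⟩ := d w
    refine Submodule.mem_span_singleton.2 ⟨-(2 * a), ?_⟩
    simp only [map_add, map_smul, h, h2, h3, h4, hU hg w hw]; module

theorem sq_sgn {g : S} {v : E} (h : ρ g v = v ∨ ρ g v = -v) : ρ (g * g) v = v := by
  rcases h with h | h <;> simp [h]

theorem ea_of_sq {A : Subgroup S} (h : ∀ a ∈ A, a * a = 1) : IsElementaryAbelian 2 A :=
  ⟨⟨⟨Commute.of_orderOf_dvd_two fun a : A => orderOf_dvd_of_pow_eq_one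
    (Subtype.ext ((sq _).trans (h a a.2)))⟩⟩, fun a ha => (sq _).trans (h a ha)⟩

theorem caseA [Finite E] (hρ : Function.Injective ρ) (hR : ⁅R, zpowers b⁆ = R) (F : Fr ρ b t u v₁ v₂ v₃)
    (tR : t ∈ R) (uR : u ∈ R) (tc : ∀ r ∈ R, t * r = r * t) (uc : ∀ r ∈ R, u * r = r * u) :
    (IsElementaryAbelian 2 R ∧ Nat.card R = 4) ∧
    ∃ F₀ F₁ : Submodule (ZMod 3) E, F₀ ⊓ F₁ = ⊥ ∧ F₀ ⊔ F₁ = ⊤ ∧ (∀ r ∈ R, ∀ v ∈ F₁, ρ r v = v) ∧
    (∀ r ∈ R ⊔ zpowers b, ∀ v ∈ F₀, ρ r v ∈ F₀) ∧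
    (∀ r ∈ R ⊔ zpowers b, (∀ v ∈ F₀, ρ r v = v) → r = 1) ∧
    ∀ N : Submodule (ZMod 3) E, N ≤ F₀ → (∀ r ∈ R ⊔ zpowers b, ∀ v ∈ N, ρ r v ∈ N) → N = ⊥ ∨ N = F₀ := by
  let F₁ := LinearMap.ker (ρ t - 1) ⊓ LinearMap.ker (ρ u - 1)
  have m1 : ∀ w, w ∈ F₁ ↔ ρ t w = w ∧ ρ u w = w := fun w => by simp [F₁, sub_eq_zero]
  have b1 : b ∈ fx ρ (· ∈ F₁) := fun w hw => F.e0 w ((m1 w).1 hw).1 ((m1 w).1 hw).2
  have R1 : R ≤ fx ρ (· ∈ F₁) := cenR hR (fun r hr w hw => (m1 _).2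
    ⟨by rw [act_eq (tc r hr), ((m1 w).1 hw).1], by rw [act_eq (uc r hr), ((m1 w).1 hw).2]⟩) b1
  have sg := fun r hr => F.sg (tc r hr) (uc r hr)
  have bs := fun g (hg : g ∈ R) => base (p₄ := 0) hρ hR R1 F.n3 (p₂ := v₁) (p₃ := v₂) (fun w => by
    obtain ⟨w, a, c, d, h1, h2, rfl⟩ := F.dec w
    exact ⟨w, d, a, c, 0, (m1 _).2 ⟨h1, h2⟩, by module⟩) hg
  let F₀ := Submodule.span (ZMod 3) {v₁, v₂, v₃}
  have p1 : v₁ ∈ F₀ := Submodule.subset_span (by simp)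
  have p2 : v₂ ∈ F₀ := Submodule.subset_span (by simp)
  have p3 : v₃ ∈ F₀ := Submodule.subset_span (by simp)
  have mv0 : ∀ g, g ∈ fx ρ (· ∈ F₁) → ρ g v₁ ∈ F₀ → ρ g v₂ ∈ F₀ → ρ g v₃ ∈ F₀ → g ∈ mv ρ F₀ :=
    fun g hg q1 q2 q3 w => by
      obtain ⟨w, a, c, d, h1, h2, rfl⟩ := F.dec w
      convert add_mem (add_mem (F₀.smul_mem a (sub_mem q1 p1)) (F₀.smul_mem c (sub_mem q2 p2)))
        (F₀.smul_mem d (sub_mem q3 p3)) using 1
      simp only [map_add, map_smul, hg w ((m1 _).2 ⟨h1, h2⟩)]; module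
  have pm : ∀ {v w}, v ∈ F₀ → w = v ∨ w = -v → w ∈ F₀ := by
    rintro v w hv (rfl | rfl)
    exacts [hv, neg_mem hv]
  refine ⟨⟨ea_of_sq fun g hg => bs _ (R.mul_mem hg hg) ⟨1, by rw [sq_sgn (sg g hg).2.2, one_smul]⟩
    (sq_sgn (sg g hg).1) (sq_sgn (sg g hg).2.1) (map_zero _), ?_⟩, F₀, F₁, fin (v₄ := 0) hρ F tR uR ?_ ?_
    (fun g hg => mv0 g (R1 hg) (pm p1 (sg g hg).1) (pm p2 (sg g hg).2.1) (pm p3 (sg g hg).2.2))
    (mv0 b b1 (F.b1 ▸ p2) (F.b2 ▸ p3) (F.b3 ▸ p1)) R1 b1 (fun w hw => ?_) (map_zero _) (map_zero _) (.inl rfl)⟩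
  · rw [idx_sgn F.ne uR F.u1 fun g hg => (sg g hg).1, idx_sgn (L := R ⊓ _) F.n2
      ⟨tR, fun w hw => hw ▸ F.t1⟩ F.t2 fun g hg => (sg g hg.1).2.1,
      (card_eq_one (H := R ⊓ fx ρ (· = v₁) ⊓ fx ρ (· = v₂))).2 (eq_bot_iff.2 fun g hg => bs g hg.1.1
        (F.e3 _ (by rw [act_eq (tc g hg.1.1), F.t3, map_neg]) (by rw [act_eq (uc g hg.1.1), F.u3, map_neg]))
        (hg.1.2 _ rfl) (hg.2 _ rfl) (map_zero _))]
  · refine eq_bot_iff.2 fun w hw => ?_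
    obtain ⟨a, c, d, e⟩ := Submodule.mem_span_triple.1 hw.1
    exact neg_eq_zero.1 (ind (ρ := ρ) (t := t) (u := u) (w0 := -w) (w1 := a • v₁) (w2 := c • v₂) (w3 := d • v₃)
      (by simp [((m1 w).1 hw.2).1]) (by simp [((m1 w).1 hw.2).2]) (by simp [F.t1]) (by simp [F.u1])
      (by simp [F.t2]) (by simp [F.u2]) (by simp [F.t3]) (by simp [F.u3]) (by rw [← e]; abel)).1
  · refine eq_top_iff.2 fun w _ => ?_
    obtain ⟨w, a, c, d, h1, h2, rfl⟩ := F.dec w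
    exact Submodule.mem_sup.2 ⟨_, Submodule.mem_span_triple.2 ⟨a, c, d, rfl⟩, w, (m1 _).2 ⟨h1, h2⟩, by abel⟩
  · obtain ⟨a, c, d, e⟩ := Submodule.mem_span_triple.1 hw
    exact ⟨a, c, d, 0, by simp [e]⟩

theorem opp (F : Fr ρ b t u v₁ v₂ v₃) (ht : t * z = z * t) (hu : u * z = z * u) {ε : ZMod 3} (e0 : ε ≠ 0)
    (h1 : ρ z v₁ = ε • v₁) (h2 : ρ z v₂ = ε • v₂) (h3 : ρ z v₃ = ε • v₃) :
    b ∈ fx ρ fun w => ρ z w = -ε • w := fun w hw => by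
  obtain ⟨w, a, c, d, k1, k2, rfl⟩ := F.dec w
  have n2 : (2 : ZMod 3) ≠ 0 := by decide
  obtain ⟨-, i1, i2, i3⟩ := ind (ρ := ρ) (t := t) (u := u) (w0 := ρ z w + ε • w) (w1 := (2 * ε * a) • v₁)
    (w2 := (2 * ε * c) • v₂) (w3 := (2 * ε * d) • v₃) (by simp [act_eq ht, k1]) (by simp [act_eq hu, k2])
    (by simp [F.t1]) (by simp [F.u1]) (by simp [F.t2]) (by simp [F.u2]) (by simp [F.t3]) (by simp [F.u3]) (by
      simp only [map_add, map_smul, h1, h2, h3] at hw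
      linear_combination (norm := module) hw)
  simp only [smul_eq_zero, mul_eq_zero, n2, e0, F.ne, F.n2, F.n3, false_or, or_false] at i1 i2 i3
  simp [i1, i2, i3, F.e0 w k1 k2]

/-- a central involution commuting with `b` -/
theorem cinv (hρ : Function.Injective ρ) (hR : ⁅R, zpowers b⁆ = R) (F : Fr ρ b t u v₁ v₂ v₃)
    (tR : t ∈ R) (uR : u ∈ R) (zR : z ∈ R) (z1 : z ≠ 1) (zz : z * z = 1) (zc : ∀ r ∈ R, r * z = z * r)
    (zb : b * z = z * b) : ρ z v₁ = -v₁ ∧ ρ z v₂ = -v₂ ∧ ρ z v₃ = -v₃ ∧ (b ∈ fx ρ fun w => ρ z w = w) ∧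
      R ≤ fx ρ fun w => ρ z w = w := by
  have k : ∀ ε : ZMod 3, ε ≠ 0 → ρ z v₁ = ε • v₁ → ρ z v₂ = ε • v₂ ∧ ρ z v₃ = ε • v₃ ∧
      (b ∈ fx ρ fun w => ρ z w = -ε • w) ∧ R ≤ fx ρ fun w => ρ z w = -ε • w := fun ε e0 h1 => by
    have h2 : ρ z v₂ = ε • v₂ := by rw [← F.b1, ← act_eq zb, h1, map_smul]
    have h3 : ρ z v₃ = ε • v₃ := by rw [← F.b2, ← act_eq zb, h2, map_smul]
    have := opp F (zc t tR) (zc u uR) e0 h1 h2 h3
    exact ⟨h2, h3, this, cenR hR (fun r hr v hv => by rw [← act_eq (zc r hr), hv, map_smul]) this⟩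
  rcases (F.sg (zc t tR) (zc u uR)).1 with h | h
  · refine (z1 (hρ (LinearMap.ext fun w => ?_))).elim
    have e : ρ z (w - ρ z w) = -(1 : ZMod 3) • (w - ρ z w) := by rw [map_sub, ← act, zz]; simp
    have := (k 1 one_ne_zero (by simpa using h)).2.2.2 zR _ e
    rw [e] at this
    rw [map_one, Module.End.one_apply]
    linear_combination (norm := module) -this - h3 (w - ρ z w)
  · simpa [h] using k (-1) (by decide) (by simpa using h)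

/-- the situation of the second case -/
structure CB (ρ : Representation (ZMod 3) S E) (b t u z : S) (R : Subgroup S) (v₁ v₂ v₃ : E) : Prop where
  inj : Function.Injective ρ
  hR : ⁅R, zpowers b⁆ = R
  F : Fr ρ b t u v₁ v₂ v₃
  zR : z ∈ R
  zz : z * z = 1
  zc : ∀ r ∈ R, r * z = z * r
  z1 : ρ z v₁ = -v₁
  z2 : ρ z v₂ = -v₂
  z3 : ρ z v₃ = -v₃
  tR : t ∈ R
  uR : u ∈ R
  fix : R ≤ fx ρ fun w => ρ z w = w

namespace CB
variable (C : CB ρ b t u z R v₁ v₂ v₃)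
include C

theorem scal [Finite E] {p₁ p₂ p₃ p₄ : E} (n : p₁ ≠ 0) (n' : p₂ ≠ 0) (z1 : ρ z p₁ = -p₁) (z2 : ρ z p₂ = -p₂)
    (z3 : ρ z p₃ = -p₃) (z4 : ρ z p₄ = -p₄)
    (d : ∀ w, ∃ w₀, ∃ a c d e : ZMod 3, ρ z w₀ = w₀ ∧ w = w₀ + a • p₁ + c • p₂ + d • p₃ + e • p₄) {g : S}
    (hg : g ∈ R) {a c : ZMod 3} (h1 : ρ g p₁ = a • p₁) (h2 : ρ g p₂ = c • p₂) (h3 : ρ g p₃ = c • p₃)
    (h4 : ρ g p₄ = c • p₄) : a = c ∧ (g = 1 ∨ g = z) := by
  obtain rfl | rfl | rfl : c = 0 ∨ c = 1 ∨ c = -1 := by clear h2 h3 h4; revert c; decide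
  · exact absurd (h2.trans (zero_smul _ _)) (act_ne g n')
  · obtain rfl := base C.inj C.hR C.fix n d hg ⟨a, h1⟩ (by simpa using h2) (by simpa using h3) (by simpa using h4)
    exact ⟨smul_left_injective _ n (by simpa using h1.symm), .inl rfl⟩
  · have := base C.inj C.hR C.fix n d (R.mul_mem hg C.zR) ⟨-a, by simp [z1, h1]⟩ (by simp [z2, h2])
      (by simp [z3, h3]) (by simp [z4, h4])
    obtain rfl : g = z := by rw [← mul_one g, ← C.zz, ← mul_assoc, this, one_mul]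
    exact ⟨smul_left_injective _ n (by simpa [z1] using h1.symm), .inr rfl⟩

variable (xR : x ∈ R) (xt : t * x = x * t) (xu : u * x = x * u * z)
include xR xt xu

omit xR xu in
theorem t4 : ρ t (ρ x v₁) = ρ x v₁ := by rw [act_eq xt, C.F.t1]

omit C xR xt in
theorem ux (w : E) : ρ u (ρ x w) = ρ x (ρ u (ρ z w)) := by rw [← act, xu, act, act]

omit xR xt in
theorem u4 : ρ u (ρ x v₁) = ρ x v₁ := by rw [ux xu, C.z1, map_neg, C.F.u1, neg_neg]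

omit xt xu in
theorem z4 : ρ z (ρ x v₁) = -ρ x v₁ := by rw [← act_eq (C.zc x xR), C.z1, map_neg]

theorem e4 (w : E) (h1 : ρ t w = w) (h2 : ρ u w = w) (h3 : ρ z w = -w) : ∃ a : ZMod 3, w = a • ρ x v₁ := by
  obtain ⟨w, rfl⟩ : ∃ v, w = ρ x v := ⟨_, (act_inv' x w).symm⟩
  have i : ∀ {p q}, ρ x p = ρ x q → p = q := fun e => by simpa [act_inv] using congrArg (ρ x⁻¹) e
  rw [← act_eq (C.zc x xR), ← map_neg] at h3
  rw [ux xu, i h3] at h2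
  obtain ⟨a, e⟩ := C.F.e1 w (i (by rw [← act_eq xt, h1])) (by rw [← neg_eq_iff_eq_neg, ← map_neg, i h2])
  exact ⟨a, by rw [← map_smul, ← e]⟩

theorem dec4 (w : E) : ∃ w₀, ∃ a c d e : ZMod 3, ρ z w₀ = w₀ ∧
    w = w₀ + a • v₁ + c • v₂ + d • v₃ + e • ρ x v₁ := by
  obtain ⟨w, a, c, d, h1, h2, rfl⟩ := C.F.dec w
  have zz : ρ z (ρ z w) = w := by rw [← act, C.zz]; simp
  obtain ⟨e, he⟩ := C.e4 xR xt xu (ρ z w - w) (by rw [map_sub, act_eq (C.zc t C.tR), h1])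
    (by rw [map_sub, act_eq (C.zc u C.uR), h2]) (by simp [zz])
  refine ⟨-(w + ρ z w), a, c, d, e, by simp [zz, add_comm], ?_⟩
  linear_combination (norm := module) he + h3 w

theorem sqx [Finite E] : x * x = 1 ∨ x * x = z := by
  have F := C.F
  have n4 := act_ne (ρ := ρ) x F.ne
  have t4 := C.t4 xt
  have u4 := C.u4 xu
  have z4 := C.z4 xR
  have sc := @C.scal _ _ _ _ _ _ _ _ _ _ _ _ _ _ _ _ _ _ _ F.ne F.n2 C.z1 C.z2 C.z3 z4 (C.dec4 xR xt xu)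
  obtain ⟨α, hα⟩ := F.e1 (ρ x (ρ x v₁)) (by rw [act_eq xt, t4]) (by rw [ux xu, z4, map_neg, u4, map_neg])
  obtain ⟨γ, hγ⟩ := F.e3 (ρ x v₂) (by rw [act_eq xt, F.t2, map_neg]) (by rw [ux xu, C.z2, map_neg, F.u2, map_neg])
  obtain ⟨δ, hδ⟩ := F.e2 (ρ x v₃) (by rw [act_eq xt, F.t3, map_neg]) (by rw [ux xu, C.z3, map_neg, F.u3, neg_neg])
  have b4 := F.e0 _ t4 u4
  have i1 : ρ b⁻¹ v₁ = v₃ := by rw [← F.b3, act_inv]
  have i2 : ρ b⁻¹ v₂ = v₁ := by rw [← F.b1, act_inv]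
  have i3 : ρ b⁻¹ v₃ = v₂ := by rw [← F.b2, act_inv]
  have i4 : ρ b⁻¹ (ρ x v₁) = ρ x v₁ := by nth_rewrite 1 [← b4]; rw [act_inv]
  have cj : ∀ y ∈ R, b * y * b⁻¹ ∈ R := fun y => (mem_normalizer_iff.1
    ((C.hR ▸ H1.le_normalizer_commutator_right R (zpowers b)) (mem_zpowers b)) y).1
  have e := (sc (R.mul_mem (R.mul_mem (cj _ (cj _ xR)) xR) (cj _ xR)) (a := δ * (δ * δ)) (c := α * γ)
    (by simp [act, i1, i2, i3, i4, hα, hγ, hδ, b4, F.b1, F.b2, F.b3, smul_smul])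
    (by simp [act, i1, i2, i3, i4, hα, hγ, hδ, b4, F.b1, F.b2, F.b3, smul_smul])
    (by simp [act, i1, i2, i3, i4, hα, hγ, hδ, b4, F.b1, F.b2, F.b3, smul_smul, mul_comm])
    (by simp [act, i1, i2, i3, i4, hα, hγ, hδ, b4, F.b1, F.b2, F.b3, smul_smul])).1
  have g0 : γ ≠ 0 := fun e => act_ne x F.n2 (by rw [hγ, e, zero_smul])
  have d0 : δ ≠ 0 := fun e => act_ne x F.n3 (by rw [hδ, e, zero_smul])
  obtain rfl : α = γ * δ := by clear hα hγ hδ; revert α γ δ; decide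
  exact (sc (R.mul_mem xR xR) (a := γ * δ) (c := γ * δ) (by rw [act, hα]) (by simp [hγ, hδ, smul_smul])
    (by simp [hγ, hδ, smul_smul, mul_comm]) (by rw [act, hα, map_smul])).2

end CB

theorem idx_c {L : Subgroup S} {s a : S} (z1 : z ≠ 1) (zz : z * z = 1) (ha : a ∈ L) (az : a * z = z * a)
    (hs : s * a = a * s * z) (h : ∀ g ∈ L, s * g = g * s ∨ s * g = g * s * z) :
    Nat.card L = 2 * Nat.card (L ⊓ centralizer {s} : Subgroup S) := by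
  refine idx ha (fun c => z1 ?_) fun g hg => (h g hg).symm.imp (fun e => mem_centralizer_singleton_iff.2 ?_)
    fun e => mem_centralizer_singleton_iff.2 e.symm
  · rw [← mem_centralizer_singleton_iff.1 c] at hs
    exact (left_eq_mul.1 hs)
  · rw [← mul_assoc, e, mul_assoc _ z, ← az, ← mul_assoc, mul_assoc g s, hs, mul_assoc g _ z, mul_assoc _ z, zz,
      mul_one, mul_assoc]

theorem ty10 (T : Tr b t u) (zb : b * z = z * b) (zu : u * z = z * u) (h1 : t * x = x * t * z)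
    (h2 : u * x = x * u) : t * (b⁻¹ * x * b) = b⁻¹ * x * b * t ∧ u * (b⁻¹ * x * b) = b⁻¹ * x * b * u * z := by
  have bt := eq_inv_mul_iff_mul_eq.2 T.bt
  have bu := eq_inv_mul_iff_mul_eq.2 T.bu
  constructor
  · calc _ = b⁻¹ * (u * x) * b := by rw [bt]; group
      _ = _ := by rw [h2, bt]; group
  · calc _ = b⁻¹ * (t * (u * x)) * b := by nth_rewrite 1 [bu]; group
      _ = b⁻¹ * x * t * (z * u) * b := by rw [h2, ← mul_assoc t, h1]; group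
      _ = b⁻¹ * x * (t * u * b) * (b⁻¹ * (z * b)) := by rw [← zu]; group
      _ = _ := by rw [← T.bu, ← zb]; group

theorem ty11 (T : Tr b t u) (zb : b * z = z * b) (zu : u * z = z * u) (zz : z * z = 1) (h1 : t * x = x * t * z)
    (h2 : u * x = x * u * z) :
    t * (b * x * b⁻¹) = b * x * b⁻¹ * t ∧ u * (b * x * b⁻¹) = b * x * b⁻¹ * u * z := by
  have tb : t * b = b * (t * u) := by
    rw [← mul_assoc, T.bt, mul_assoc u, T.bu, ← mul_assoc, ← mul_assoc, ← T.tu, mul_assoc t u, T.uu, mul_one]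
  constructor
  · calc _ = (t * b) * x * b⁻¹ := by group
      _ = b * (t * x) * u * z * b⁻¹ := by rw [tb, mul_assoc b, mul_assoc t, h2]; group
      _ = b * x * t * (z * (u * z)) * b⁻¹ := by rw [h1]; group
      _ = b * x * b⁻¹ * (b * (t * u)) * b⁻¹ := by rw [zu, ← mul_assoc z, zz]; group
      _ = _ := by rw [← tb]; group
  · calc _ = (u * b) * x * b⁻¹ := by group
      _ = b * x * b⁻¹ * (b * t) * b⁻¹ * (b * z) * b⁻¹ := by rw [← T.bt, mul_assoc b t, h1]; group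
      _ = _ := by rw [T.bt, zb]; group

theorem caseB [Finite S] [Finite E] (hρ : Function.Injective ρ) (hR : ⁅R, zpowers b⁆ = R) (T : Tr b t u)
    (F : Fr ρ b t u v₁ v₂ v₃) (tR : t ∈ R) (uR : u ∈ R)
    (hZ : ∀ c ∈ R, c ∈ centralizer (R : Set S) → b * c = c * b)
    (ht : ∀ x ∈ R, ⁅t, x⁆ ∈ centralizer (R : Set S)) (hu : ∀ x ∈ R, ⁅u, x⁆ ∈ centralizer (R : Set S)) :
    (IsExtraspecial 2 R ∧ Nat.card R = 32 ∧ ∃ A : Subgroup S, A ≤ R ∧ IsElementaryAbelian 2 A ∧ Nat.card A = 8) ∧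
    ∃ F₀ F₁ : Submodule (ZMod 3) E, F₀ ⊓ F₁ = ⊥ ∧ F₀ ⊔ F₁ = ⊤ ∧ (∀ r ∈ R, ∀ v ∈ F₁, ρ r v = v) ∧
    (∀ r ∈ R ⊔ zpowers b, ∀ v ∈ F₀, ρ r v ∈ F₀) ∧
    (∀ r ∈ R ⊔ zpowers b, (∀ v ∈ F₀, ρ r v = v) → r = 1) ∧
    ∀ N : Submodule (ZMod 3) E, N ≤ F₀ → (∀ r ∈ R ⊔ zpowers b, ∀ v ∈ N, ρ r v ∈ N) → N = ⊥ ∨ N = F₀ := by
  have cR : ∀ s ∈ R, ∀ x ∈ R, ⁅s, x⁆ ∈ R := fun s hs x hx =>
    H1.commutator_le_of_le_normalizer le_normalizer (commutator_mem_commutator hs hx)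
  have c2 : ∀ s ∈ R, s * s = 1 → ∀ x, ⁅s, x⁆ ∈ centralizer (R : Set S) → ⁅s, x⁆ * ⁅s, x⁆ = 1 := by
    intro s hs e x h
    calc _ = (⁅s, x⁆ * s) * s⁻¹ * ⁅s, x⁆ := by group
      _ = ⁅s * s, x⁆ := by rw [← h s hs]; group
      _ = 1 := by simp [e]
  obtain ⟨y, yR, z1⟩ : ∃ y ∈ R, ⁅t, y⁆ ≠ 1 := by
    by_contra h
    push Not at h
    have e := hZ t tR fun r hr => (commutatorElement_eq_one_iff_mul_comm.1 (h r hr)).symm
    obtain rfl : t = u := mul_right_cancel (e.symm.trans T.bt)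
    have := T.bu
    rw [T.tt, e] at this
    exact T.ne (mul_right_cancel this)
  have zR := cR t tR y yR
  have zz := c2 t tR T.tt y (ht y yR)
  have zc : ∀ r ∈ R, r * ⁅t, y⁆ = ⁅t, y⁆ * r := ht y yR
  have ty : t * y = y * t * ⁅t, y⁆ := by rw [zc _ (R.mul_mem yR tR)]; group
  have zb := hZ _ zR zc
  generalize ⁅t, y⁆ = z at *
  obtain ⟨q1, q2, q3, bz, Rz⟩ := cinv hρ hR F tR uR zR z1 zz zc zb
  have C : CB ρ b t u z R v₁ v₂ v₃ := ⟨hρ, hR, F, zR, zz, zc, q1, q2, q3, tR, uR, Rz⟩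
  have typ : ∀ s ∈ R, s * s = 1 → ∀ x ∈ R, ⁅s, x⁆ ∈ centralizer (R : Set S) → s * x = x * s ∨ s * x = x * s * z := by
    intro s hs e x hx h
    refine or_iff_not_imp_left.2 fun n => ?_
    have k := c2 s hs e x h
    have m := cR s hs x hx
    have n' := mt commutatorElement_eq_one_iff_mul_comm.1 n
    have : ⁅s, x⁆ * z = 1 := by
      by_contra c
      have := (cinv hρ hR F tR uR (R.mul_mem m zR) c (by
        rw [mul_assoc, ← mul_assoc z, h z zR, mul_assoc, zz, mul_one, k])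
        (fun r hr => by rw [← mul_assoc, h r hr, mul_assoc, zc r hr, mul_assoc])
        (by rw [← mul_assoc, hZ _ m h, mul_assoc, zb, mul_assoc])).1
      rw [act, q1, map_neg, (cinv hρ hR F tR uR m n' k h (hZ _ m h)).1] at this
      exact neg_ne F.ne (neg_injective this)
    rw [zc _ (R.mul_mem hx hs), ← mul_right_cancel (this.trans zz.symm)]; group
  have tt := fun x hx => typ t tR T.tt x hx (ht x hx)
  have tu := fun x hx => typ u uR T.uu x hx (hu x hx)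
  have bR : b ∈ normalizer (R : Set S) := (hR ▸ H1.le_normalizer_commutator_right R (zpowers b)) (mem_zpowers b)
  have cj : ∀ y ∈ R, b * y * b⁻¹ ∈ R := fun y => (mem_normalizer_iff.1 bR y).1
  have cj' : ∀ y ∈ R, b⁻¹ * y * b ∈ R := fun y => (mem_normalizer_iff''.1 bR y).1
  obtain ⟨x, xR, xt, xu⟩ : ∃ x ∈ R, t * x = x * t ∧ u * x = x * u * z := (tu y yR).elim
    (fun h => ⟨_, cj' y yR, ty10 T zb (zc u uR) ty h⟩) fun h => ⟨_, cj y yR, ty11 T zb (zc u uR) zz ty h⟩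
  have n4 := act_ne (ρ := ρ) x F.ne
  have z4 := C.z4 xR
  have e4 := fun g (hg : g ∈ R) (h1 : t * g = g * t) (h2 : u * g = g * u) => C.e4 xR xt xu (ρ g (ρ x v₁))
    (by rw [act_eq h1, C.t4 xt]) (by rw [act_eq h2, C.u4 xu]) (by rw [← act_eq (zc g hg), z4, map_neg])
  have d4 : ∀ w, ∃ w₀, ∃ a c d e : ZMod 3, ρ z w₀ = w₀ ∧ w = w₀ + a • ρ x v₁ + c • v₁ + d • v₂ + e • v₃ :=
    fun w => by
      obtain ⟨w, a, c, d, e, h, rfl⟩ := C.dec4 xR xt xu w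
      exact ⟨w, e, a, c, d, h, by abel⟩
  have s0 : ∀ g ∈ R, t * g = g * t → u * g = g * u → g * g = 1 := fun g hg h1 h2 =>
    base hρ hR Rz n4 d4 (R.mul_mem hg hg) ⟨1, by rw [sq_sgn (sgn n4 (e4 g hg h1 h2)), one_smul]⟩
      (sq_sgn (F.sg h1 h2).1) (sq_sgn (F.sg h1 h2).2.1) (sq_sgn (F.sg h1 h2).2.2)
  have sq : ∀ g ∈ R, g * g = 1 ∨ g * g = z := fun g hg => by
    rcases tt g hg with h1 | h1 <;> rcases tu g hg with h2 | h2
    · exact .inl (s0 g hg h1 h2)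
    · exact C.sqx hg h1 h2
    · obtain ⟨k1, k2⟩ := ty10 T zb (zc u uR) h1 h2
      rw [show g * g = b * (b⁻¹ * g * b * (b⁻¹ * g * b)) * b⁻¹ by group]
      rcases C.sqx (cj' g hg) k1 k2 with e | e <;> simp [e, zb]
    · obtain ⟨k1, k2⟩ := ty11 T zb (zc u uR) zz h1 h2
      rw [show g * g = b⁻¹ * (b * g * b⁻¹ * (b * g * b⁻¹)) * b by group]
      rcases C.sqx (cj g hg) k1 k2 with e | e <;> rw [e] <;> simp [mul_assoc, ← zb]
  let A := R ⊓ centralizer {t} ⊓ centralizer {u}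
  have mA : ∀ g, g ∈ A ↔ g ∈ R ∧ t * g = g * t ∧ u * g = g * u := fun g => by
    simp only [A, mem_inf, mem_centralizer_singleton_iff, and_assoc, eq_comm (a := g * _)]
  have sA := fun g hg => F.sg ((mA g).1 hg).2.1 ((mA g).1 hg).2.2
  have tA := (mA t).2 ⟨tR, rfl, T.tu.symm⟩
  have uA := (mA u).2 ⟨uR, T.tu, rfl⟩
  have zA := (mA z).2 ⟨zR, zc t tR, zc u uR⟩
  have c8 : Nat.card A = 8 := by
    rw [idx_sgn F.ne zA q1 fun g hg => (sA g hg).1, idx_sgn (L := A ⊓ _) F.n2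
      ⟨tA, fun w hw => hw ▸ F.t1⟩ F.t2 fun g hg => (sA g hg.1).2.1, idx_sgn (L := A ⊓ _ ⊓ _) (a := t * u * z) F.n3
      ⟨⟨A.mul_mem (A.mul_mem tA uA) zA, fun w hw => by simp [hw, q1, F.t1, F.u1]⟩,
        fun w hw => by simp [hw, q2, F.t2, F.u2]⟩ (by simp [q3, F.t3, F.u3]) fun g hg => (sA g hg.1.1).2.2,
      (card_eq_one (H := A ⊓ fx ρ (· = v₁) ⊓ fx ρ (· = v₂) ⊓ fx ρ (· = v₃))).2
        (eq_bot_iff.2 fun g hg => base hρ hR Rz n4 d4 hg.1.1.1.1.1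
        (e4 g hg.1.1.1.1.1 ((mA g).1 hg.1.1.1).2.1 ((mA g).1 hg.1.1.1).2.2) (hg.1.1.2 _ rfl) (hg.1.2 _ rfl)
        (hg.2 _ rfl))]
  let F₀ := LinearMap.ker (ρ z + 1)
  let F₁ := LinearMap.ker (ρ z - 1)
  have m0 : ∀ w, w ∈ F₀ ↔ ρ z w = -w := fun w => by simp [F₀, add_eq_zero_iff_eq_neg]
  have m1 : ∀ w, w ∈ F₁ ↔ ρ z w = w := fun w => by simp [F₁, sub_eq_zero]
  have zw : ∀ w, ρ z (ρ z w) = w := fun w => by rw [← act, zz]; simp
  have mv0 : ∀ g, g * z = z * g → (g ∈ fx ρ fun w => ρ z w = w) → g ∈ mv ρ F₀ := fun g h1 h2 w => by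
    have := h2 (w + ρ z w) (by simp [zw, add_comm])
    rw [m0, map_sub, ← act_eq h1]
    rw [map_add] at this
    linear_combination (norm := module) this
  refine ⟨⟨H78.XS.isExtraspecial (z := z) ⟨zR, z1, zz, fun r hr => (zc r hr).symm, fun c hc h => ?_, sq,
    fun g hg h hh => ?_, t, tR, y, yR, fun e => z1 (left_eq_mul.1 (e.symm.trans ty))⟩, ?_, A,
    inf_le_left.trans inf_le_left, ea_of_sq fun g hg => s0 g hg.1.1 ((mA g).1 hg).2.1 ((mA g).1 hg).2.2, c8⟩,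
    F₀, F₁, fin hρ F tR uR (eq_bot_iff.2 fun w hw => ?_) (eq_top_iff.2 fun w _ => ?_)
      (fun g hg => mv0 g (zc g hg) (Rz hg)) (mv0 b zb bz) (fun g hg w hw => Rz hg w ((m1 w).1 hw))
      (fun w hw => bz w ((m1 w).1 hw)) (fun w hw => ?_) (C.t4 xt) (C.u4 xu) (.inr ⟨x, xR, rfl⟩)⟩
  · have h1 := (h t tR).symm
    have h2 := (h u uR).symm
    have cb := hZ c hc fun r hr => (h r hr).symm
    obtain ⟨a, ha⟩ := F.e1 _ (by rw [act_eq h1, F.t1]) (by rw [act_eq h2, F.u1, map_neg])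
    obtain ⟨e, he⟩ := e4 c hc h1 h2
    have a2 : ρ c v₂ = a • v₂ := by rw [← F.b1, ← act_eq cb, ha, map_smul]
    exact (C.scal n4 F.ne z4 q1 q2 q3 d4 hc he ha a2 (by rw [← F.b2, ← act_eq cb, a2, map_smul])).2
  · have e : g * h = h * g * (g⁻¹ * g⁻¹ * ((g * h⁻¹) * (g * h⁻¹)) * (h * h)) := by group
    rw [e]
    rcases sq _ (R.inv_mem hg) with e1 | e1 <;> rcases sq _ (R.mul_mem hg (R.inv_mem hh)) with e2 | e2 <;>
      rcases sq _ hh with e3 | e3 <;> simp [e1, e2, e3, zz]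
  · rw [idx_c z1 zz yR (zc y yR) ty tt, idx_c (L := R ⊓ _) z1 zz ⟨xR, mem_centralizer_singleton_iff.2 xt.symm⟩
      (zc x xR) xu fun g hg => tu g hg.1, c8]
  · by_contra c
    exact neg_ne c (((m0 w).1 hw.1).symm.trans ((m1 w).1 hw.2))
  · refine Submodule.mem_sup.2 ⟨ρ z w - w, (m0 _).2 (by simp [zw]), -(w + ρ z w), (m1 _).2 (by simp [zw, add_comm]), ?_⟩
    linear_combination (norm := module) -h3 w
  · obtain ⟨w, a, c, d, e, h, rfl⟩ := C.dec4 xR xt xu w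
    have := (m0 _).1 hw
    simp only [map_add, map_smul, h, q1, q2, q3, z4] at this
    refine ⟨a, c, d, e, ?_⟩
    linear_combination (norm := module) -this + h3 w

universe u v

theorem jobTwo : H23.Thom.JobTwo.{u, v} := by
  intro S _ _ E _ _ _ ρ hρ b b3 h9 _ R Q h2 hR QR hQ _ nQ cQ
  have bR : b ∈ normalizer (R : Set S) := (hR ▸ H1.le_normalizer_commutator_right R (zpowers b)) (mem_zpowers b)
  by_cases hZ : b ∈ centralizer (R ⊓ centralizer (R : Set S) : Subgroup S)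
  · obtain ⟨N, NR, Nc, nN, cN, hN⟩ := exists_N h2 hR QR
      (fun x hx y hy => congrArg Subtype.val (hQ.1.is_comm.comm (⟨x, hx⟩ : Q) ⟨y, hy⟩)) nQ cQ
    obtain ⟨t, tN, u, uN, T⟩ := exists_tr (h2.to_le NR) Nc b3 nN cN
    obtain ⟨v₁, v₂, v₃, F⟩ := exists_fr hρ b3 h9 T
    exact (caseB hρ hR T F (NR tN) (NR uN) (fun c hc h => (hZ c ⟨hc, h⟩).symm)
      (fun x hx => hN (commutator_mem_commutator tN hx))
      fun x hx => hN (commutator_mem_commutator uN hx)).imp_left .inr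
  · obtain ⟨t, tN, u, uN, T⟩ := exists_tr (N := R ⊓ centralizer (R : Set S)) (h2.to_le inf_le_left)
      (fun x hx y hy => hy.2 x hx.1) b3
      (inf_normalizer_le_normalizer_inf ⟨bR, H98.normalizer_le_normalizer_centralizer R bR⟩) hZ
    obtain ⟨v₁, v₂, v₃, F⟩ := exists_fr hρ b3 h9 T
    exact (caseA hρ hR F tN.1 uN.1 (fun r hr => (tN.2 r hr).symm) fun r hr => (uN.2 r hr).symm).imp_left .inl

end H89.Th
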