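import Cfsg.Agent.H96.U2ISpec

/-! S3275, chapter U2I, job GA. -/

set_option autoImplicit false

namespace H89.U2

open Subgroup H98 H96.U2I

universe u

theorem z01 : ∀ x : ZMod 2, x = 0 ∨ x = 1 := by decide

theorem zaa : ∀ x : ZMod 2, x + x = 0 := by decide

variable {W : Type u} [AddCommGroup W] {f : W → W → ZMod 2} {X T : Subgroup (Au W)} {v u : W}

/-- `{0, v, w, v + w}` -/
def Fo (v w c : W) : Prop := c = 0 ∨ c = v ∨ c = w ∨ c = v + w

theorem Fo.add (two : ∀ a : W, a + a = 0) {w c d : W} (hc : Fo v w c) (hd : Fo v w d) :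
    Fo v w (c + d) := by
  have e1 : v + (v + w) = w := by rw [← add_assoc, two, zero_add]
  have e2 : w + (v + w) = v := by rw [add_comm v w, ← add_assoc, two, zero_add]
  have e3 : v + w + v = w := by rw [add_comm, e1]
  have e4 : v + w + w = v := by rw [add_comm, e2]
  have e5 : w + v = v + w := add_comm _ _
  rcases hc with e | e | e | e <;> rcases hd with e' | e' | e' | e' <;> rw [e, e'] <;>
    simp only [Fo, zero_add, add_zero, two, e1, e2, e3, e4, e5, true_or, or_true]

theorem Fo.smul (two : ∀ a : W, a + a = 0) {w c : W} {s : Au W} (h1 : s • v = v)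
    (h2 : s • w = w ∨ s • w = w + v) (hc : Fo v w c) : Fo v w (s • c) := by
  have k : Fo v w (s • w) := h2.elim (fun e => Or.inr (Or.inr (Or.inl e)))
    fun e => Or.inr (Or.inr (Or.inr (e.trans (add_comm _ _))))
  rcases hc with rfl | rfl | rfl | rfl
  · exact Or.inl (smul_zero _)
  · exact Or.inr (Or.inl h1)
  · exact k
  · rw [smul_add, h1]
    exact Fo.add two (Or.inr (Or.inl rfl)) k

/-- the stabiliser of the flag -/
def Sg (two : ∀ a : W, a + a = 0) (f : W → W → ZMod 2) (X : Subgroup (Au W)) (v w : W) :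
    Subgroup (Au W) where
  carrier := {s | s ∈ X ∧ s • v = v ∧ (s • w = w ∨ s • w = w + v) ∧
    ∀ p, f p v = 0 → f p w = 0 → Fo v w (s • p + p)}
  one_mem' := ⟨one_mem _, one_smul _ _, Or.inl (one_smul _ _), fun p _ _ =>
    Or.inl (by rw [one_smul, two])⟩
  mul_mem' := fun {a b} ha hb => ⟨mul_mem ha.1 hb.1, by rw [mul_smul, hb.2.1, ha.2.1], by
    rcases ha.2.2.1 with e | e <;> rcases hb.2.2.1 with e' | e' <;>
      simp [mul_smul, e, e', smul_add, ha.2.1, add_assoc, two], fun p h1 h2 => by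
    have := Fo.add two (Fo.smul two ha.2.1 ha.2.2.1 (hb.2.2.2 p h1 h2)) (ha.2.2.2 p h1 h2)
    rwa [smul_add, add_assoc, ← add_assoc (a • p), two, zero_add, ← mul_smul] at this⟩
  inv_mem' := fun {a} ha => by
    have h1 : a⁻¹ • v = v := inv_smul_eq_iff.2 ha.2.1.symm
    have h2 : a⁻¹ • w = w ∨ a⁻¹ • w = w + v := ha.2.2.1.imp (fun e => inv_smul_eq_iff.2 e.symm)
      fun e => inv_smul_eq_iff.2 (by rw [smul_add, e, ha.2.1, add_assoc, two, add_zero])
    refine ⟨inv_mem ha.1, h1, h2, fun p k1 k2 => ?_⟩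
    have := Fo.smul two h1 h2 (ha.2.2.2 p k1 k2)
    rwa [smul_add, inv_smul_smul, add_comm] at this

theorem add' (h : Geo f X T v u) (a b c : W) : f a (b + c) = f a b + f a c := by
  rw [h.sym, h.add, h.sym b, h.sym c]

theorem sg_two (h : Geo f X T v u) {w : W} : IsPGroup 2 (Sg h.two f X v w) := by
  rintro ⟨s, h0, h1, h2, h3⟩
  have sq : ∀ (s : Au W) (a : W), (s * s) • a + a = s • (s • a + a) + (s • a + a) := fun s a => by
    rw [smul_add, add_assoc, ← add_assoc (s • a), h.two, zero_add, mul_smul]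
  have n1 : ∀ a, f (s • a + a) v = 0 := fun a => by
    rw [h.add, ← h.inv s h0 a v, h1, zaa]
  have n2 : ∀ a, f a v = 0 → f (s • a + a) w = 0 := fun a ha => by
    rcases h2 with e | e
    · rw [h.add, ← h.inv s h0 a w, e, zaa]
    · rw [h.add, ← h.inv s h0 a w, e, add' h, ← add_assoc, zaa, zero_add, ← h1, h.inv s h0, ha]
  have n4 : ∀ c, Fo v w c → s • c + c = 0 ∨ s • c + c = v := fun c hc => by
    have k : s • w + w = 0 ∨ s • w + w = v := h2.imp (fun e => by rw [e, h.two])
      fun e => by rw [e, add_right_comm, h.two, zero_add]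
    rcases hc with rfl | rfl | rfl | rfl
    · exact Or.inl (by simp)
    · exact Or.inl (by rw [h1, h.two])
    · exact k
    · rwa [smul_add, h1, add_add_add_comm, h.two, zero_add]
  have n5 : ∀ a, (s * s * (s * s)) • a + a = 0 ∨ (s * s * (s * s)) • a + a = v := fun a => by
    rw [sq, sq s a, sq]
    exact n4 _ (h3 _ (n1 _) (n2 _ (n1 a)))
  refine ⟨3, Subtype.ext (LinearEquiv.ext fun a => ?_)⟩
  have e : s ^ 2 ^ 3 = s * s * (s * s) * (s * s * (s * s)) := by
    rw [show 2 ^ 3 = 8 from rfl]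
    simp only [pow_succ, pow_zero, one_mul, mul_assoc]
  change (s ^ 2 ^ 3) • a = a
  have k : (s ^ 2 ^ 3) • a + a = 0 := by
    rw [e, sq]
    rcases n5 a with k | k <;> rw [k]
    · simp
    · simp only [mul_smul, h1, h.two]
  rw [← add_zero ((s ^ 2 ^ 3) • a), ← h.two a, ← add_assoc, k, zero_add]

theorem jobGA : GA.{u} := by
  intro W _ _ f X T v u h g hg hgv hf
  have f0 : ∀ c, f 0 c = 0 := fun c => by rw [← h.two 0, h.add, zaa]
  have v0 : v ≠ 0 := fun e => by
    have := h.uv
    rw [e, h.sym, f0] at this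
    exact zero_ne_one this
  obtain ⟨w, hw⟩ : ∃ w, w = g • v := ⟨_, rfl⟩
  rw [← hw] at hgv hf
  have uw : f (g • u) w = 1 := by rw [hw, h.inv g hg, h.uv]
  have w0 : w ≠ 0 := fun e => by
    rw [e, h.sym, f0] at uw
    exact zero_ne_one uw
  have back : ∀ p, f p w = 0 → f (g⁻¹ • p) v = 0 := fun p hp => by
    rw [← h.inv g hg, smul_inv_smul, ← hw, hp]
  have hT : T ≤ Sg h.two f X v w := fun t ht =>
    ⟨h.syl.le ht, (h.tr t ht v (h.alt v)).resolve_right fun e =>
      v0 ((smul_eq_zero_iff_eq t).1 (e.trans (h.two v))), h.tr t ht w hf, fun p h1 _ =>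
      (h.tr t ht p h1).elim (fun e => Or.inl (by rw [e, h.two]))
        fun e => Or.inr (Or.inl (by rw [e, add_right_comm, h.two, zero_add]))⟩
  have hS := h.syl.eq_of_le (sg_two h) hT fun s hs => hs.1
  have iso : ∀ r, f r v = 0 → f r w = 0 → ∀ p, f p v = 0 → f p w = 0 → f p r = 0 := by
    intro r r1 r2
    obtain ⟨t, ht, e⟩ := h.sur _ (back r r2)
    have bX : g * t * g⁻¹ ∈ X := mul_mem (mul_mem hg (h.syl.le ht)) (inv_mem hg)
    have b1 : (g * t * g⁻¹) • g • u = g • u + r ∨ (g * t * g⁻¹) • g • u = g • u + r + w := by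
      rcases e with e | e <;> simp [mul_smul, e, smul_add, hw]
    have b2 : ∀ p, f p w = 0 → (f p r = 0 ∧ (g * t * g⁻¹) • p = p) ∨
        (f p r = 1 ∧ (g * t * g⁻¹) • p = p + w) := fun p hp => by
      have k := h.inv _ bX p (g • u)
      have k' : (g * t * g⁻¹) • p = p ∨ (g * t * g⁻¹) • p = p + w := by
        rcases h.tr t ht _ (back p hp) with e | e
        · exact Or.inl (by rw [mul_smul, mul_smul, e, smul_inv_smul])
        · exact Or.inr (by rw [mul_smul, mul_smul, e, smul_add, smul_inv_smul, hw])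
      have c1 := h.sym w (g • u)
      have c2 := h.sym w r
      rcases k' with e | e <;> rcases b1 with e' | e' <;> rw [e, e'] at k <;>
        simp only [h.add, add' h, hp, h.alt, c1, c2, uw, r2, add_zero] at k
      · exact Or.inl ⟨by simpa using k, e⟩
      · exact Or.inl ⟨by simpa using k, e⟩
      · exact Or.inr ⟨by revert k; generalize f p (g • u) = x; generalize f p r = y; revert x y; decide, e⟩
      · exact Or.inr ⟨by revert k; generalize f p (g • u) = x; generalize f p r = y; revert x y; decide, e⟩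
    have bT : g * t * g⁻¹ ∈ T := hS ▸ (⟨bX, ((b2 v ((h.sym _ _).trans hf)).resolve_right fun k =>
        zero_ne_one (r1.symm.trans ((h.sym _ _).trans k.1))).2,
      Or.inl ((b2 w (h.alt w)).resolve_right fun k =>
        zero_ne_one (r2.symm.trans ((h.sym _ _).trans k.1))).2, fun p _ p2 =>
      (b2 p p2).elim (fun e => Or.inl (by rw [e.2, h.two])) fun e =>
        Or.inr (Or.inr (Or.inl (by rw [e.2, add_right_comm, h.two, zero_add])))⟩ :
          g * t * g⁻¹ ∈ Sg h.two f X v w)
    intro p p1 p2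
    refine ((b2 p p2).resolve_right fun k => ?_).1
    rcases h.tr _ bT p p1 with e | e <;> rw [k.2] at e
    · exact w0 (by simpa using e)
    · exact hgv (add_left_cancel e)
  obtain ⟨u1, u2, a1, a2, a3, a4⟩ : ∃ u1 u2, f u1 v = 1 ∧ f u1 w = 0 ∧ f u2 v = 0 ∧ f u2 w = 1 := by
    obtain ⟨a, ha⟩ : ∃ a, f (v + w) a ≠ 0 := by
      by_contra! k
      exact hgv (by rw [← zero_add w, ← h.two v, add_assoc, h.nd _ k, add_zero])
    rw [h.add, h.sym v, h.sym w] at ha
    rcases z01 (f a v) with e1 | e1 <;> rcases z01 (f a w) with e2 | e2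
    · exact (ha (by rw [e1, e2, add_zero])).elim
    · rcases z01 (f u w) with e | e
      · exact ⟨u, a, h.uv, e, e1, e2⟩
      · exact ⟨u + a, a, by rw [h.add, h.uv, e1, add_zero], by rw [h.add, e, e2, zaa], e1, e2⟩
    · rcases z01 (f (g • u) v) with e | e
      · exact ⟨a, g • u, e1, e2, e, uw⟩
      · exact ⟨a, g • u + a, e1, e2, by rw [h.add, e, e1, zaa], by rw [h.add, uw, e2, add_zero]⟩
    · exact (ha (by rw [e1, e2, zaa])).elim
  refine (Nat.card_le_card_of_injective (fun p => (f p v, f p w, f p u1, f p u2)) ?_).trans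
    (by simp)
  intro p q e
  simp only [Prod.mk.injEq] at e
  obtain ⟨e1, e2, e3, e4⟩ := e
  have k : p + q = 0 := h.nd _ fun b => by
    have i := fun r r1 r2 => iso r r1 r2 (p + q) (by rw [h.add, e1, zaa]) (by rw [h.add, e2, zaa])
    have j1 : f (p + q) u1 = 0 := by rw [h.add, e3, zaa]
    have j2 : f (p + q) u2 = 0 := by rw [h.add, e4, zaa]
    rcases z01 (f b v) with c1 | c1 <;> rcases z01 (f b w) with c2 | c2
    · exact i b c1 c2
    · simpa [add' h, j2] using i (b + u2) (by rw [h.add, c1, a3, zaa]) (by rw [h.add, c2, a4, zaa])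
    · simpa [add' h, j1] using i (b + u1) (by rw [h.add, c1, a1, zaa]) (by rw [h.add, c2, a2, zaa])
    · simpa [add' h, j1, j2] using i (b + u1 + u2)
        (by rw [h.add, h.add, c1, a1, a3, zaa, zaa]) (by rw [h.add, h.add, c2, a2, a4, add_zero, zaa])
  rw [← add_zero p, ← h.two q, ← add_assoc, k, zero_add]

end H89.U2
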